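import Cfsg.Agent.Lib.Invol.AschCrit.EndTwo.Comm
import Cfsg.Agent.Lib.Invol.AschCrit.ModelBase

/-!
Owner: helper15. Aschbacher's criterion, end game of Suzuki type: the multis of `P`.

* `exists_conj_le`: conjugation between two Sylow groups of a subgroup.
* `TwoModel.cB_onto`, `TwoModel.card_centP`: a multi of `P` has all translations.
* `TwoModel.exists_fibre`: it has a commutative fibre `R' E`, and `R'` is the stabiliser of its fixed points.
-/

set_option autoImplicit false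
set_option linter.unusedSectionVars false
set_option linter.style.haveILetI false

namespace CfsgLib.AschCrit

open Subgroup MulAction

universe u v

variable {G : Type u} [Group G] [Finite G] {Ω : Type v} [MulAction G Ω]

/-- A largest two-group of `H` can be conjugated onto another one of the same order. -/
theorem exists_conj_le {H P K : Subgroup G} (hP : IsPGroup 2 P) (hPH : P ≤ H) (hK : IsPGroup 2 K) (hKH : K ≤ H)
    (hmax : ∀ L : Subgroup G, IsPGroup 2 L → L ≤ H → Nat.card L ≤ Nat.card P) :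
    ∃ g ∈ H, ∀ k ∈ K, g * k * g⁻¹ ∈ P := by
  obtain ⟨P', hP'2, hPP', hP'H, -, hconj⟩ := exists_max_two hP hPH
  obtain rfl : P = P' := Subgroup.eq_of_le_of_card_ge hPP' (hmax P' hP'2 hP'H)
  exact hconj K hK hKH

/-- A two-subgroup has order at most the two-part. -/
theorem card_le_two_part {H K : Subgroup G} (hK : IsPGroup 2 K) (hKH : K ≤ H) :
    Nat.card K ≤ 2 ^ padicValNat 2 (Nat.card H) := by
  haveI := Fact.mk Nat.prime_two
  obtain ⟨k, hk⟩ := IsPGroup.iff_card.1 hK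
  rw [hk]
  refine Nat.pow_le_pow_right two_pos ?_
  rw [← padicValNat_dvd_iff_le Nat.card_pos.ne', ← hk]
  exact Subgroup.card_dvd_of_le hKH

/-- The data of a multi `v` of `P`: the group `R'` fixing its fixed points. -/
structure Fibre (Ω : Type v) [MulAction G Ω] (P R E : Subgroup G) (a : Ω) (v : G) (R' : Subgroup G) : Prop where
  le : R' ≤ P
  card : Nat.card R' = Nat.card R
  mem : v ∈ R'
  sq : ∀ r ∈ R', r * r = 1
  disj : ∀ r ∈ R', r ∈ E → r = 1
  multi : ∀ r ∈ R', r ≠ 1 → ∀ e ∈ E, IsMulti Ω (r * e)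
  stab : ∀ p : Ω, p ≠ a → v • p = p → ∀ g ∈ P, g • p = p ↔ g ∈ R'
  cent : ∀ g ∈ P, g * g = 1 ∧ Commute g v ↔ ∃ r ∈ R', ∃ e ∈ E, g = r * e

namespace TwoModel

variable {D : Set G} {u : G} {a b : Ω} {E : Subgroup G} {q : ℕ} {P R X Q : Subgroup G} {η : G}
  (M : TwoModel D u a b E q P R X Q η)
include M

theorem qpos : 0 < q := by have := M.q4; omega

theorem not_mem_E {v : G} (hv : IsMulti Ω v) : v ∉ E := fun hE => M.crit.multi_not_mem hv
  (M.memE hE fun e => by
    have := hv.1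
    rw [e, orderOf_one] at this
    omega).1

theorem multi_sq {v : G} (hv : IsMulti Ω v) : v * v = 1 := by rw [← pow_two, ← hv.1, pow_orderOf_eq_one]

/-- The centraliser of `v` in `P`. -/
theorem centP_spec {v g : G} : g ∈ P ⊓ centralizer ({v} : Set G) ↔ g ∈ P ∧ Commute g v :=
  ⟨fun h => ⟨h.1, mem_centralizer_singleton_iff.1 h.2⟩, fun h => ⟨h.1, mem_centralizer_singleton_iff.2 h.2⟩⟩

/-- The commutators with a multi of `P` fill `E`. -/
theorem cB_onto {v : G} (hvP : v ∈ P) (hv : IsMulti Ω v) :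
    (∀ e ∈ E, ∃ g ∈ P, cB g v = e) ∧ Nat.card (P ⊓ centralizer ({v} : Set G) : Subgroup G) = q ^ 2 * Nat.card R := by
  classical
  let f : P →* E := MonoidHom.mk' (fun g : P => (⟨cB (g : G) v, M.br_P g.2 hvP⟩ : E))
    fun g h => Subtype.ext (M.cB_left g.2 h.2 hvP)
  have hker : Nat.card f.ker = Nat.card (P ⊓ centralizer ({v} : Set G) : Subgroup G) := by
    rw [← card_map_of_injective P.subtype_injective]
    refine congrArg (fun S : Subgroup G => Nat.card S) (Subgroup.ext fun g => ?_)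
    rw [M.centP_spec]
    constructor
    · rintro ⟨x, hx, rfl⟩
      exact ⟨x.2, cB_one_iff.1 (congrArg Subtype.val (MonoidHom.mem_ker.1 hx))⟩
    · rintro ⟨hg, hc⟩
      exact ⟨⟨g, hg⟩, MonoidHom.mem_ker.2 (Subtype.ext (cB_one_iff.2 hc)), rfl⟩
  have hle : Nat.card f.ker ≤ q ^ 2 * Nat.card R := by
    rw [hker]
    exact M.card_cent_le hv (M.fixP hvP) (fun e he => M.centE hvP he) _ (M.mod.two.to_le inf_le_left)
      (fun g hg => M.fixP hg.1) (fun g hg => (M.centP_spec.1 hg).2) (fun g hg e he => M.centE hg.1 he)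
  have hprod : Nat.card f.ker * Nat.card f.range = q ^ 2 * Nat.card R * q := by
    rw [← index_ker, card_mul_index, M.cardP]; ring
  have hrange : q ≤ Nat.card f.range := by
    refine Nat.le_of_mul_le_mul_left ?_ (Nat.mul_pos (pow_pos M.qpos 2) Nat.card_pos : 0 < q ^ 2 * Nat.card R)
    rw [← hprod]
    exact Nat.mul_le_mul_right _ hle
  have htop : f.range = ⊤ := eq_top_of_le_card _ (by rw [M.fr.data.card_E]; exact hrange)
  refine ⟨fun e he => ?_, ?_⟩
  · obtain ⟨g, hg⟩ : (⟨e, he⟩ : E) ∈ f.range := htop ▸ mem_top _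
    exact ⟨g, g.2, congrArg Subtype.val hg⟩
  · rw [← hker]
    rw [htop, card_top, M.fr.data.card_E] at hprod
    exact Nat.eq_of_mul_eq_mul_right M.qpos hprod

theorem hasTrans_of_multi {v : G} (hvP : v ∈ P) (hv : IsMulti Ω v) : HasTrans v a E := fun w hw => by
  obtain ⟨g, hg, hgw⟩ := (M.cB_onto hvP hv).1 w hw
  refine ⟨g, M.fixP hg, fun e he => M.centE hg he, ?_⟩
  rw [(M.centE hvP hw).eq, ← hgw]
  simp only [cB]; group

theorem mem_transSub {v : G} (hvP : v ∈ P) {g : G} (hg : g ∈ P) : g ∈ transSubOne v a E := by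
  refine ⟨M.fixP hg, fun e he => M.centE hg he, ?_⟩
  have h := M.br_P hg hvP
  have e : v⁻¹ * (g * v * g⁻¹) = v⁻¹ * cB g v * v := by simp only [cB]; group
  rw [e, (M.centE (inv_mem hvP) h).eq, inv_mul_cancel_right]
  exact h

/-- A frame at a multi of `P`. -/
theorem frame_of_multi {v : G} (hvP : v ∈ P) (hv : IsMulti Ω v) :
    ∃ y : Ω, Frame D v a y E q 2 ∧ 2 ^ padicValNat 2 (Nat.card (fixGrp v a y E)) = Nat.card R := by
  haveI := Fact.mk Nat.prime_two
  haveI := M.crit.finite_points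
  obtain ⟨y, ht⟩ := M.top_two hv (M.fixP hvP) fun e he => M.centE hvP he
  set K : Subgroup G := P ⊓ centralizer ({v} : Set G)
  have hK : ∀ g ∈ K, g ∈ P ∧ Commute g v := fun g hg => M.centP_spec.1 hg
  set S : Set Ω := {x | v • x = x} \ {a} with hS
  have hScard : S.ncard = q ^ 2 := by
    have h1 : ({x : Ω | v • x = x} : Set Ω).ncard = q ^ 2 + 1 := by
      rw [← Nat.card_coe_set_eq]; exact ht.data.card_fix
    rw [Set.ncard_sdiff (by simpa using ht.data.fix_a), Set.ncard_singleton, h1, Nat.add_sub_cancel]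
  have hsub : orbit K y ⊆ S := by
    rintro _ ⟨g, rfl⟩
    refine ⟨?_, fun e => ht.data.ne.symm (MulAction.injective (g : G) ((Set.mem_singleton_iff.1 e).trans
      (M.fixP (hK g g.2).1).symm))⟩
    show v • (g : G) • y = (g : G) • y
    rw [← mul_smul, ← (hK g g.2).2.eq, mul_smul, ht.data.fix_b]
  have hidx : (stabilizer K y).index ≤ q ^ 2 := by
    rw [index_stabilizer, ← hScard]
    exact Set.ncard_le_ncard hsub
  have hge : Nat.card R ≤ Nat.card (stabilizer K y) := by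
    have h1 := card_mul_index (stabilizer K y)
    rw [(M.cB_onto hvP hv).2, mul_comm (q ^ 2)] at h1
    refine Nat.le_of_mul_le_mul_right ?_ (pow_pos M.qpos 2)
    rw [← h1]
    exact Nat.mul_le_mul_left _ hidx
  have hle : Nat.card R ≤ 2 ^ padicValNat 2 (Nat.card (fixGrp v a y E)) := by
    refine hge.trans ?_
    rw [← card_map_of_injective K.subtype_injective]
    refine card_le_two_part ((M.mod.two.to_le inf_le_left).to_le (Subgroup.map_subtype_le _)) ?_
    rintro _ ⟨g, hg, rfl⟩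
    refine ⟨⟨M.fixP (hK g g.2).1, mem_stabilizer_iff.2 hg⟩, mem_centralizer_iff.2 ?_⟩
    rintro x (rfl | hx)
    exacts [(hK g g.2).2.eq.symm, (M.centE (hK g g.2).1 hx).eq.symm]
  refine ⟨y, ⟨ht, fun v' x' y' F j hF => ?_⟩, le_antisymm ?_ hle⟩
  · exact ((M.fr.big v' x' y' F j hF).trans M.R2_eq.le).trans hle
  · exact (M.fr.big v a y E 2 ht).trans M.R2_eq.le

set_option maxHeartbeats 800000 in
/-- The fibre of a multi of `P`. -/
theorem exists_fibre {v : G} (hvP : v ∈ P) (hv : IsMulti Ω v) : ∃ R' : Subgroup G, Fibre Ω P R E a v R' := by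
  haveI := Fact.mk Nat.prime_two
  haveI := M.crit.finite_points
  obtain ⟨y, hfr, hR⟩ := M.frame_of_multi hvP hv
  have htr := M.hasTrans_of_multi hvP hv
  obtain ⟨Pv, Rv, Xv, Qv, ηv, hmod⟩ := M.inp.mx v a y E q 2 hfr htr
  let N : TwoModel D v a y E q Pv Rv Xv Qv ηv := ⟨M.inp, hfr, htr, hmod⟩
  have hRc : Nat.card Rv = Nat.card R := hmod.R_card.trans hR
  have hPc : Nat.card Pv = Nat.card P := by rw [N.cardP, M.cardP, hRc]
  obtain ⟨g, ⟨hga, hgE, hgv⟩, hgP⟩ := exists_conj_le (H := transSubOne v a E) M.mod.two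
    (fun x hx => M.mem_transSub hvP hx) hmod.two (fun x hx => hmod.sub x hx)
    (fun L hL hLH => hPc ▸ hmod.sylow L hL fun x hx => hLH hx)
  obtain ⟨p, hp, hpe⟩ := (M.cB_onto hvP hv).1 _ hgv
  set n : G := p⁻¹ * g with hn
  have hnv : Commute n v := by
    have hv2 : cB p v * v = v * cB p v := ((M.centE hvP (M.br_P hp hvP)).eq).symm
    have h1 : g * v * g⁻¹ = p * v * p⁻¹ := by
      rw [show p * v * p⁻¹ = cB p v * v by simp only [cB]; group, hv2, hpe, mul_inv_cancel_left]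
    refine mul_inv_eq_iff_eq_mul.1 ?_
    calc n * v * n⁻¹ = p⁻¹ * (g * v * g⁻¹) * p := by rw [hn]; group
      _ = v := by rw [h1]; group
  have hna : n • a = a := by rw [hn, mul_smul, hga, M.fixP (inv_mem hp)]
  have hnE : ∀ e ∈ E, Commute n e := fun e he => (M.centE (inv_mem hp) he).mul_left (hgE e he)
  have hnP : ∀ x ∈ Pv, n * x * n⁻¹ ∈ P := fun x hx => by
    rw [show n * x * n⁻¹ = p⁻¹ * (g * x * g⁻¹) * p by rw [hn]; group]
    exact mul_mem (mul_mem (inv_mem hp) (hgP x hx)) hp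
  have hPmap : Pv.map (MulAut.conj n).toMonoidHom = P := Subgroup.eq_of_le_of_card_ge
    (by rintro _ ⟨x, hx, rfl⟩; exact hnP x hx)
    (by rw [card_map_of_injective (MulAut.conj n).injective, hPc])
  set R' : Subgroup G := Rv.map (MulAut.conj n).toMonoidHom
  have hR' : ∀ x, x ∈ R' ↔ ∃ r ∈ Rv, n * r * n⁻¹ = x := fun x => Subgroup.mem_map
  have hEn : ∀ e ∈ E, n * e * n⁻¹ = e := fun e he => by rw [(hnE e he).eq, mul_inv_cancel_right]
  have hle : R' ≤ P := fun x hx => by
    obtain ⟨r, hr, rfl⟩ := (hR' x).1 hx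
    exact hnP r (N.RP hr)
  have hcard : Nat.card R' = Nat.card R := by
    rw [card_map_of_injective (MulAut.conj n).injective, hRc]
  refine ⟨R', hle, hcard, (hR' v).2 ⟨v, hmod.u_mem, by rw [hnv.eq, mul_inv_cancel_right]⟩, fun x hx => ?_,
    fun x hx hxE => ?_, fun x hx hx1 e he => ?_, fun c hca hvc => ?_, fun x hx => ?_⟩
  · obtain ⟨r, hr, rfl⟩ := (hR' x).1 hx
    rw [show n * r * n⁻¹ * (n * r * n⁻¹) = n * (r * r) * n⁻¹ by group, hmod.R_sq r hr, mul_one, mul_inv_cancel]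
  · obtain ⟨r, hr, rfl⟩ := (hR' x).1 hx
    have h2 : r = n * r * n⁻¹ := by
      calc r = n⁻¹ * ((n * r * n⁻¹) * n) := by group
        _ = _ := by rw [← (hnE _ hxE).eq, inv_mul_cancel_left]
    rw [← h2] at hxE ⊢
    exact N.R_inf_E hr hxE
  · obtain ⟨r, hr, rfl⟩ := (hR' x).1 hx
    have hr1 : r ≠ 1 := fun e => hx1 (by rw [e]; group)
    obtain ⟨z, hz, hze⟩ := hmod.RX_onto r hr hr1 e he
    have hrm : IsMulti Ω r := ⟨orderOf_eq_prime (by rw [pow_two]; exact hmod.R_sq r hr) hr1, a, y, hfr.data.ne,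
      (N.fixR hr).1, (N.fixR hr).2⟩
    have hzr : z * r * z⁻¹ = r * e := by
      rw [show z * r * z⁻¹ = cB z r * r by simp only [cB]; group, N.cB_symm (N.RP hr) (N.XP hz), show cB r z = e from hze,
        N.commute_E (N.RP hr) he]
    have h := (hrm.conj z).conj n
    rwa [hzr, show n * (r * e) * n⁻¹ = n * r * n⁻¹ * (n * e * n⁻¹) by group, hEn e he] at h
  · have hsub : ∀ x ∈ R', x • c = c := fun x hx => by
      obtain ⟨r, hr, rfl⟩ := (hR' x).1 hx
      rw [mul_smul, mul_smul, hmod.R_fix r hr _ (by rw [← mul_smul, ← hnv.inv_left.eq, mul_smul, hvc]), smul_inv_smul]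
    have heq : R' = (stabilizer P c).map P.subtype := Subgroup.eq_of_le_of_card_ge
      (fun x hx => ⟨⟨x, hle hx⟩, mem_stabilizer_iff.2 (hsub x hx), rfl⟩) (by
        rw [card_map_of_injective P.subtype_injective, hcard]
        exact M.stab_le P M.mod.two (fun g hg => M.fixP hg) (fun g hg e he => M.centE hg he) hca)
    intro x hx
    refine ⟨fun h => ?_, hsub x⟩
    rw [heq]
    exact ⟨⟨x, hx⟩, mem_stabilizer_iff.2 h, rfl⟩
  · constructor
    · rintro ⟨hx2, hxv⟩
      rw [← hPmap] at hx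
      obtain ⟨x₀, hx₀, hxe⟩ := hx
      replace hxe : n * x₀ * n⁻¹ = x := hxe
      have hc : Commute x₀ v := (Commute.conj_iff n).1 (by rw [hxe, hnv.eq, mul_inv_cancel_right]; exact hxv)
      have hsq : x₀ * x₀ = 1 := by
        have h : n * (x₀ * x₀) * n⁻¹ = 1 := by rw [← hx2, ← hxe]; group
        exact (conj_eq_one_iff).1 h
      obtain ⟨r, hr, z, hz, w, hw, rfl⟩ := hmod.gen x₀ hx₀
      have h1 : cB z v = 1 := by
        have h := cB_one_iff.2 hc
        rw [N.cB_left (mul_mem (N.RP hr) (N.XP hz)) (N.QP hw) N.uP, N.cB_left (N.RP hr) (N.XP hz) N.uP,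
          cB_one_iff.2 (N.commR hr hmod.u_mem), cB_one_iff.2 (hmod.Q_cent w hw).1, one_mul, mul_one] at h
        exact h
      have hzE : z ∈ E := hmod.RX_ker v hmod.u_mem N.u_ne z hz (cB_one_iff.1 h1).symm
      have hwE : w ∈ E := by
        refine hmod.Q_sq_one w hw ?_
        rw [N.sq_mul (mul_mem (N.RP hr) (N.XP hz)) (N.QP hw), N.cB_left (N.RP hr) (N.XP hz) (N.QP hw),
          cB_one_iff.2 ((hmod.Q_cent w hw).2 r hr).symm, cB_one_iff.2 (N.centE (N.QP hw) hzE).symm,
          N.sq_mul (N.RP hr) (N.XP hz), N.cB_E_right (N.RP hr) hzE, hmod.R_sq r hr, N.sqE hzE] at hsq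
        simpa using hsq
      refine ⟨n * r * n⁻¹, (hR' _).2 ⟨r, hr, rfl⟩, z * w, mul_mem hzE hwE, ?_⟩
      rw [← hxe, show n * (r * z * w) * n⁻¹ = n * r * n⁻¹ * (n * (z * w) * n⁻¹) by group, hEn _ (mul_mem hzE hwE)]
    · rintro ⟨r', hr', e, he, rfl⟩
      obtain ⟨r, hr, rfl⟩ := (hR' r').1 hr'
      have hr2 : n * r * n⁻¹ * (n * r * n⁻¹) = 1 := by
        rw [show n * r * n⁻¹ * (n * r * n⁻¹) = n * (r * r) * n⁻¹ by group, hmod.R_sq r hr, mul_one, mul_inv_cancel]
      refine ⟨?_, Commute.mul_left ?_ (M.centE hvP he).symm⟩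
      · rw [M.sq_mul (hle hr') (M.E_le_P he), M.cB_E_right (hle hr') he, one_mul, hr2, M.sqE he, mul_one]
      · have h := (Commute.conj_iff n).2 (N.commR hr hmod.u_mem)
        rwa [show n * v * n⁻¹ = v by rw [hnv.eq, mul_inv_cancel_right]] at h

end TwoModel

end CfsgLib.AschCrit
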