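import Cfsg.Agent.Lib.Invol.AschCrit.EndTwo.Model
import Cfsg.Agent.Lib.Invol.AschCrit.EndTwo.Multi

/-!
Owner: helper15. Aschbacher's criterion, end game of Suzuki type: the normaliser of `P` in coordinates.

* `normGrp`: the normaliser of `P` in the point stabiliser; `pact`, `pgam`: its action on `P / E` and `E`.
* `Coords.act_u_of_c`: with a pairing and `|R| = 2` it fixes `(1, 0, 0)`.
* `Coords.act_fst`, `Coords.act_x`: without a pairing it respects the flag.
-/

set_option autoImplicit false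
set_option linter.unusedSectionVars false
set_option linter.style.haveILetI false

namespace CfsgLib.AschCrit

open Subgroup MulAction

universe u v

variable {G : Type u} [Group G] [Finite G] {Ω : Type v} [MulAction G Ω]

/-- The normaliser of `P` in the stabiliser of `a`. -/
def normGrp (P : Subgroup G) (a : Ω) : Subgroup G := stabilizer G a ⊓ normalizer (P : Set G)

theorem mem_normGrp {P : Subgroup G} {a : Ω} {n : G} : n ∈ normGrp P a ↔ n • a = a ∧ n ∈ normalizer (P : Set G) :=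
  Iff.rfl

variable {F : Type u}

/-- The action of `n` on the coordinates. -/
noncomputable def pact (P : Subgroup G) (ρ : G → F × F × F) (n : G) (v : F × F × F) : F × F × F :=
  ρ (n * Function.invFunOn ρ (P : Set G) v * n⁻¹)

/-- The action of `n` on the values in `E`. -/
noncomputable def pgam (E : Subgroup G) (ε : G → F) (n : G) (z : F) : F :=
  ε (n * Function.invFunOn ε (E : Set G) z * n⁻¹)

variable {D : Set G} {u : G} {a b : Ω} {E : Subgroup G} {q : ℕ} {P R X Q : Subgroup G} {η : G}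
variable [Field F] [CharP F 2] {K : EndTwo.Coord F} {ρ : G → F × F × F} {ε : G → F}

namespace TwoModel

variable (M : TwoModel D u a b E q P R X Q η)
include M

theorem conjP {n : G} (hn : n ∈ normGrp P a) {g : G} (hg : g ∈ P) : n * g * n⁻¹ ∈ P :=
  (mem_normalizer_iff.1 hn.2 g).1 hg

/-- `E` is the set of squares of `P`. -/
theorem norm_E {n : G} (hn : n ∈ normGrp P a) {e : G} (he : e ∈ E) : n * e * n⁻¹ ∈ E := by
  obtain ⟨y, hy, rfl⟩ := M.mod.Q_sq_onto (by norm_num) e he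
  rw [show n * (y * y) * n⁻¹ = n * y * n⁻¹ * (n * y * n⁻¹) by group]
  exact M.sq_P (M.conjP hn (M.QP hy))

theorem P_le_normGrp : P ≤ normGrp P a := le_inf (fun _ hg => M.fixP hg) le_normalizer

theorem eta_normGrp (j : ℕ) : η ^ j ∈ normGrp P a :=
  ⟨mem_stabilizer_iff.2 (by
    induction j with
    | zero => rw [pow_zero, one_smul]
    | succ j ih => rw [pow_succ, mul_smul, M.mod.h_fix.1, ih]),
    mem_normalizer_of_mapsTo fun _ hg => M.eta_P j hg⟩

end TwoModel

namespace Coords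

variable (C : Coords P R E u η q K ρ ε) (M : TwoModel D u a b E q P R X Q η)
include C M

theorem act_rho {n g : G} (hn : n ∈ normGrp P a) (hg : g ∈ P) : pact P ρ n (ρ g) = ρ (n * g * n⁻¹) := by
  have hex : ∃ x ∈ (P : Set G), ρ x = ρ g := ⟨g, hg, rfl⟩
  have hm := Function.invFunOn_mem hex
  rw [pact, C.rho_eq_iff M (M.conjP hn hm) (M.conjP hn hg),
    show ∀ x, (n * x * n⁻¹)⁻¹ * (n * g * n⁻¹) = n * (x⁻¹ * g) * n⁻¹ from fun x => by group]
  exact M.norm_E hn ((C.rho_eq_iff M hm hg).1 (Function.invFunOn_eq hex))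

theorem gam_eps {n e : G} (he : e ∈ E) : pgam E ε n (ε e) = ε (n * e * n⁻¹) := by
  have hex : ∃ x ∈ (E : Set G), ε x = ε e := ⟨e, he, rfl⟩
  rw [pgam, C.eps_injOn M (Function.invFunOn_mem hex) he (Function.invFunOn_eq hex)]

theorem act_mem {n : G} (hn : n ∈ normGrp P a) {v : F × F × F} (hv : K.Vec v) : K.Vec (pact P ρ n v) := by
  obtain ⟨g, hg, rfl⟩ := C.rho_surj v hv
  rw [C.act_rho M hn hg]; exact C.rho_mem _ (M.conjP hn hg)

theorem act_add {n : G} (hn : n ∈ normGrp P a) {v w : F × F × F} (hv : K.Vec v) (hw : K.Vec w) :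
    pact P ρ n (v + w) = pact P ρ n v + pact P ρ n w := by
  obtain ⟨g, hg, rfl⟩ := C.rho_surj v hv
  obtain ⟨g', hg', rfl⟩ := C.rho_surj w hw
  rw [← C.rho_mul g hg g' hg', C.act_rho M hn (mul_mem hg hg'), C.act_rho M hn hg, C.act_rho M hn hg',
    ← C.rho_mul _ (M.conjP hn hg) _ (M.conjP hn hg'), conj_mul]

theorem act_mul {n m : G} (hn : n ∈ normGrp P a) (hm : m ∈ normGrp P a) {v : F × F × F} (hv : K.Vec v) :
    pact P ρ (n * m) v = pact P ρ n (pact P ρ m v) := by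
  obtain ⟨g, hg, rfl⟩ := C.rho_surj v hv
  rw [C.act_rho M hm hg, C.act_rho M hn (M.conjP hm hg), C.act_rho M (mul_mem hn hm) hg]
  congr 1; group

theorem act_one {v : F × F × F} (hv : K.Vec v) : pact P ρ 1 v = v := by
  obtain ⟨g, hg, rfl⟩ := C.rho_surj v hv
  rw [C.act_rho M (one_mem _) hg]; simp

theorem act_zero {n : G} (hn : n ∈ normGrp P a) : pact P ρ n 0 = 0 := by
  rw [← C.rho_one M, C.act_rho M hn (one_mem P), mul_one, mul_inv_cancel]

theorem act_inj {n : G} (hn : n ∈ normGrp P a) {v w : F × F × F} (hv : K.Vec v) (hw : K.Vec w)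
    (h : pact P ρ n v = pact P ρ n w) : v = w := by
  have := congrArg (pact P ρ n⁻¹) h
  rwa [← C.act_mul M (inv_mem hn) hn hv, ← C.act_mul M (inv_mem hn) hn hw, inv_mul_cancel, C.act_one M hv,
    C.act_one M hw] at this

theorem gam_add {n : G} (hn : n ∈ normGrp P a) (z w : F) : pgam E ε n (z + w) = pgam E ε n z + pgam E ε n w := by
  obtain ⟨e, he, rfl⟩ := C.eps_surj z
  obtain ⟨f, hf, rfl⟩ := C.eps_surj w
  rw [← C.eps_mul e he f hf, C.gam_eps M (mul_mem he hf), C.gam_eps M he, C.gam_eps M hf,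
    ← C.eps_mul _ (M.norm_E hn he) _ (M.norm_E hn hf), conj_mul]

theorem gam_mul {n m : G} (hm : m ∈ normGrp P a) (z : F) : pgam E ε (n * m) z = pgam E ε n (pgam E ε m z) := by
  obtain ⟨e, he, rfl⟩ := C.eps_surj z
  rw [C.gam_eps M he, C.gam_eps M he, C.gam_eps M (M.norm_E hm he)]
  congr 1; group

theorem gam_zero (n : G) : pgam E ε n 0 = 0 := by
  rw [← C.eps_one M, C.gam_eps M (one_mem E), mul_one, mul_inv_cancel]

theorem gam_one (z : F) : pgam E ε 1 z = z := by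
  obtain ⟨e, he, rfl⟩ := C.eps_surj z
  rw [C.gam_eps M he]; simp

theorem gam_inj {n : G} (hn : n ∈ normGrp P a) {z w : F} (h : pgam E ε n z = pgam E ε n w) : z = w := by
  have := congrArg (pgam E ε n⁻¹) h
  rwa [← C.gam_mul M hn, ← C.gam_mul M hn, inv_mul_cancel, C.gam_one M, C.gam_one M] at this

theorem gam_eq_id_iff {n : G} (hn : n ∈ normGrp P a) :
    (∀ z, pgam E ε n z = z) ↔ ∀ e ∈ E, Commute n e := by
  refine ⟨fun h e he => ?_, fun h z => ?_⟩
  · have h1 := h (ε e)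
    rw [C.gam_eps M he] at h1
    exact mul_inv_eq_iff_eq_mul.1 (C.eps_injOn M (M.norm_E hn he) he h1)
  · obtain ⟨e, he, rfl⟩ := C.eps_surj z
    rw [C.gam_eps M he, (h e he).eq, mul_inv_cancel_right]

theorem sq_act {n : G} (hn : n ∈ normGrp P a) {v : F × F × F} (hv : K.Vec v) :
    K.sq (pact P ρ n v) = pgam E ε n (K.sq v) := by
  obtain ⟨g, hg, rfl⟩ := C.rho_surj v hv
  rw [C.act_rho M hn hg, ← C.eps_sq _ (M.conjP hn hg), ← C.eps_sq g hg, C.gam_eps M (M.sq_P hg), conj_mul]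

theorem pol_act {n : G} (hn : n ∈ normGrp P a) {v w : F × F × F} (hv : K.Vec v) (hw : K.Vec w) :
    K.pol (pact P ρ n v) (pact P ρ n w) = pgam E ε n (K.pol v w) := by
  obtain ⟨g, hg, rfl⟩ := C.rho_surj v hv
  obtain ⟨g', hg', rfl⟩ := C.rho_surj w hw
  rw [C.act_rho M hn hg, C.act_rho M hn hg', ← C.eps_cB M (M.conjP hn hg) (M.conjP hn hg'), ← C.eps_cB M hg hg',
    cB_conj, C.gam_eps M (M.br_P hg hg')]

/-- The translations act trivially. -/
theorem act_P {p : G} (hp : p ∈ P) {v : F × F × F} (hv : K.Vec v) : pact P ρ p v = v := by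
  obtain ⟨g, hg, rfl⟩ := C.rho_surj v hv
  rw [C.act_rho M (M.P_le_normGrp hp) hg,
    show p * g * p⁻¹ = cB p g * g by simp only [cB]; group, C.rho_mul _ (M.E_le_P (M.br_P hp hg)) g hg,
    (C.rho_ker _ (M.E_le_P (M.br_P hp hg))).2 (M.br_P hp hg), zero_add]

theorem act_eta (t : F) (ht : t ≠ 0) : ∃ j : ℕ, (∀ v, K.Vec v → pact P ρ (η ^ j) v = K.scale t v) ∧
    ∀ z, pgam E ε (η ^ j) z = K.θ t * t * z := by
  obtain ⟨j, h1, h2⟩ := C.act t ht
  refine ⟨j, fun v hv => ?_, fun z => ?_⟩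
  · obtain ⟨g, hg, rfl⟩ := C.rho_surj v hv
    rw [C.act_rho M (M.eta_normGrp j) hg, h1 g hg]
  · obtain ⟨e, he, rfl⟩ := C.eps_surj z
    rw [C.gam_eps M he, h2 e he]

theorem act_u_iff {n : G} (hn : n ∈ normGrp P a) :
    pact P ρ n (1, 0, 0) = (1, 0, 0) ↔ u⁻¹ * (n * u * n⁻¹) ∈ E := by
  rw [← C.rho_u, C.act_rho M hn M.uP, ← C.rho_eq_iff M M.uP (M.conjP hn M.uP)]
  exact eq_comm

variable [Finite F]

theorem A_cases (hR : Nat.card R = 2) : ∀ x ∈ K.A, x = 0 ∨ x = 1 := by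
  intro x hx
  by_contra hc
  push Not at hc
  have hsub : ({0, 1, x} : Set F) ⊆ K.A := by
    rintro y (rfl | rfl | rfl)
    exacts [K.A.zero_mem, K.one_mem, hx]
  have h1 := Set.ncard_le_ncard hsub
  have h2 : Nat.card (K.A : Set F) = 2 := C.card_A.trans hR
  rw [← Nat.card_coe_set_eq (K.A : Set F), h2, Set.ncard_insert_of_notMem (by simp [hc.1.symm]),
    Set.ncard_pair hc.2.symm] at h1
  omega

/-- With a pairing and `|R| = 2` the class `u E` is invariant. -/
theorem act_u_of_c (hR : Nat.card R = 2) (hc : K.c ≠ 0) {n : G} (hn : n ∈ normGrp P a) :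
    pact P ρ n (1, 0, 0) = (1, 0, 0) := by
  let f : K.W →+ K.W := AddMonoidHom.mk'
    (fun v => ⟨pact P ρ n v, K.mem_W.2 (C.act_mem M hn (K.mem_W.1 v.2))⟩)
    fun v w => Subtype.ext (C.act_add M hn (K.mem_W.1 v.2) (K.mem_W.1 w.2))
  refine K.sum_deficient hc (C.A_cases M hR) (C.card_F.symm ▸ M.q8) f (fun v w h => ?_) fun v hD hall => ?_
  · exact Subtype.ext (C.act_inj M hn (K.mem_W.1 v.2) (K.mem_W.1 w.2) (congrArg Subtype.val h))
  · refine hD fun z => ?_
    obtain ⟨w, hw, hwz⟩ := hall (pgam E ε n z)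
    obtain ⟨w₀, hw₀, rfl⟩ : ∃ w₀, K.Vec w₀ ∧ pact P ρ n w₀ = w :=
      ⟨pact P ρ n⁻¹ w, C.act_mem M (inv_mem hn) hw, by
        rw [← C.act_mul M hn (inv_mem hn) hw, mul_inv_cancel, C.act_one M hw]⟩
    exact ⟨w₀, hw₀, C.gam_inj M hn ((C.pol_act M hn (K.mem_W.1 v.2) hw₀).symm.trans hwz)⟩

variable (hR : Nat.card R = 2) (hc : K.c = 0)
include hR hc

theorem act_xbar {n : G} (hn : n ∈ normGrp P a) (x : F) :
    (pact P ρ n (0, x, 0)).1 = 0 ∧ (pact P ρ n (0, x, 0)).2.2 = 0 := by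
  have h8 : 8 ≤ Nat.card F := C.card_F.symm ▸ M.q8
  have hv : K.Vec (0, x, 0) := K.A.zero_mem
  refine (K.eq_zero_of_comm hc (C.A_cases M hR) h8 _ (C.act_mem M hn hv)).1
    (le_trans ((K.eq_zero_of_comm hc (C.A_cases M hR) h8 _ hv).2 ⟨rfl, rfl⟩) ?_)
  refine Set.ncard_le_ncard_of_injOn (pact P ρ n) (fun w hw => ⟨C.act_mem M hn hw.1, ?_⟩)
    (fun w hw w' hw' h => C.act_inj M hn hw.1 hw'.1 h)
  rw [C.pol_act M hn hv hw.1, hw.2, C.gam_zero M]

/-- Without a pairing the first coordinate is invariant. -/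
theorem act_fst {n : G} (hn : n ∈ normGrp P a) {v : F × F × F} (hv : K.Vec v) : (pact P ρ n v).1 = v.1 := by
  have hv1 : K.Vec ((0, 1, 0) : F × F × F) := K.A.zero_mem
  obtain ⟨h1, h2⟩ := C.act_xbar M hR hc hn 1
  have h := C.pol_act M hn hv hv1
  simp only [EndTwo.Coord.pol, h1, h2, hc, map_zero, mul_zero, zero_mul, add_zero, mul_one] at h
  rcases C.A_cases M hR v.1 hv with e | e <;> rw [e] at h ⊢
  · rw [C.gam_zero M, mul_eq_zero] at h
    refine h.resolve_right fun h3 => ?_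
    have h4 : pact P ρ n (0, 1, 0) = pact P ρ n 0 := by rw [C.act_zero M hn]; exact Prod.ext h1 (Prod.ext h3 h2)
    exact one_ne_zero (congrArg (fun p : F × F × F => p.2.1) (C.act_inj M hn hv1 (show K.Vec (0 : F × F × F) from K.A.zero_mem) h4))
  · refine (C.A_cases M hR _ (C.act_mem M hn hv)).resolve_left fun h3 => ?_
    rw [h3, zero_mul] at h
    exact one_ne_zero (C.gam_inj M hn (h.symm.trans (C.gam_zero M n).symm))

/-- On the translations the action is that on `E`. -/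
theorem act_x {n : G} (hn : n ∈ normGrp P a) (x : F) : pact P ρ n (0, x, 0) = (0, pgam E ε n x, 0) := by
  have hu : K.Vec ((1, 0, 0) : F × F × F) := K.one_mem
  obtain ⟨h1, h2⟩ := C.act_xbar M hR hc hn x
  have h := C.pol_act M hn hu (show K.Vec ((0, x, 0) : F × F × F) from K.A.zero_mem)
  simp only [EndTwo.Coord.pol, C.act_fst M hR hc hn hu, h1, h2, hc, map_zero, mul_zero, zero_mul, add_zero,
    one_mul] at h
  exact Prod.ext h1 (Prod.ext h h2)

end Coords

end CfsgLib.AschCrit
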