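import Cfsg.Agent.Lib.Invol.AschCrit.EndTwo.Decomp

/-!
Owner: helper15. Aschbacher's criterion, end game of Suzuki type: commutators and squares in `P`.

* `TwoModel.br_P`, `TwoModel.sq_P`: `P / E` is elementary abelian.
* `TwoModel.cB_left`, `TwoModel.cB_right`, `TwoModel.sq_mul`: the commutator is biadditive, the square quadratic.
-/

set_option autoImplicit false
set_option linter.unusedSectionVars false
set_option linter.style.haveILetI false

namespace CfsgLib.AschCrit

open Subgroup MulAction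

universe u v

variable {G : Type u} [Group G] [Finite G] {Ω : Type v} [MulAction G Ω]

/-- The commutator used for the pairings. -/
abbrev cB (g h : G) : G := g * h * g⁻¹ * h⁻¹

theorem cB_swap (g h : G) : cB h g = (cB g h)⁻¹ := by simp only [cB]; group

theorem cB_conj (n g h : G) : cB (n * g * n⁻¹) (n * h * n⁻¹) = n * cB g h * n⁻¹ := by simp only [cB]; group

theorem cB_one_iff {g h : G} : cB g h = 1 ↔ Commute g h := by
  simp only [cB, mul_inv_eq_one]
  exact mul_inv_eq_iff_eq_mul

namespace TwoModel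

variable {D : Set G} {u : G} {a b : Ω} {E : Subgroup G} {q : ℕ} {P R X Q : Subgroup G} {η : G}
  (M : TwoModel D u a b E q P R X Q η)
include M

/-- A decomposition of an element of `P`. -/
theorem decomp {g : G} (hg : g ∈ P) : ∃ r ∈ R, ∃ x ∈ X, ∃ y ∈ Q, g = r * x * y := M.mod.gen g hg

theorem sq_P {g : G} (hg : g ∈ P) : g * g ∈ E := by
  obtain ⟨r, hr, x, hx, y, hy, rfl⟩ := M.decomp hg
  obtain ⟨e, he, h1⟩ := M.mul_form hr hr hx hx hy hy
  rw [h1, M.mod.R_sq r hr, one_mul]
  exact mul_mem (mul_mem (M.mod.X_sq x hx) (M.mod.Q_sq y hy)) he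

theorem br_P {g h : G} (hg : g ∈ P) (hh : h ∈ P) : cB g h ∈ E := by
  have e1 := M.sq_P (mul_mem hg hh)
  have e2 := M.sq_P hg
  have e3 := M.sq_P hh
  have e4 : Commute h⁻¹ (g * g) := M.centE (inv_mem hh) e2
  have h1 : cB g h = g * h * (g * h) * (h * h)⁻¹ * (g * g)⁻¹ := by
    calc cB g h = g * h * g * ((g * g)⁻¹ * h⁻¹) := by simp only [cB]; group
      _ = g * h * g * (h⁻¹ * (g * g)⁻¹) := by rw [e4.inv_right.eq]
      _ = _ := by group
  rw [h1]
  exact mul_mem (mul_mem e1 (inv_mem e3)) (inv_mem e2)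

theorem cB_left {g g' h : G} (hg : g ∈ P) (hg' : g' ∈ P) (hh : h ∈ P) : cB (g * g') h = cB g h * cB g' h := by
  have hc : Commute g (cB g' h) := M.centE hg (M.br_P hg' hh)
  calc cB (g * g') h = g * cB g' h * g⁻¹ * cB g h := by simp only [cB]; group
    _ = cB g' h * cB g h := by rw [hc.eq, mul_inv_cancel_right]
    _ = cB g h * cB g' h := (M.commE (M.br_P hg' hh) (M.br_P hg hh)).eq

theorem cB_symm {g h : G} (hg : g ∈ P) (hh : h ∈ P) : cB h g = cB g h := by
  rw [cB_swap, M.einv (M.br_P hg hh)]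

theorem cB_right {g h h' : G} (hg : g ∈ P) (hh : h ∈ P) (hh' : h' ∈ P) : cB g (h * h') = cB g h * cB g h' := by
  rw [M.cB_symm (mul_mem hh hh') hg, M.cB_left hh hh' hg, M.cB_symm hg hh, M.cB_symm hg hh']

theorem cB_E_right {g e : G} (hg : g ∈ P) (he : e ∈ E) : cB g e = 1 := cB_one_iff.2 (M.centE hg he)

theorem sq_mul {g h : G} (hg : g ∈ P) (hh : h ∈ P) : g * h * (g * h) = cB g h * (g * g) * (h * h) := by
  have hc : Commute g (cB h g) := M.centE hg (M.br_P hh hg)
  calc g * h * (g * h) = g * (cB h g * g) * h * h := by simp only [cB]; group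
    _ = cB h g * (g * g) * (h * h) := by rw [← mul_assoc g, hc.eq]; group
    _ = _ := by rw [M.cB_symm hg hh]

end TwoModel

end CfsgLib.AschCrit
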