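import Mathlib

/-!
Owner: helper15. Aschbacher's criterion, end game of Suzuki type: the coordinates `(a, x, y)` of `P / E`.

The square of `(a, x, y)` is `(a + lam) x + θ y * y + c θ⁻¹ (x y)`.

* `sq_scale`, `pol_scale`: the torus.
* `roots_ncard_le`: at most two `y` for each `(a, x)`.
* `existsUnique_deficient`, `sum_deficient`: with a pairing and `|A| = 2` every symmetry fixes `(1, 0, 0)`.
* `eq_zero_of_comm`: without a pairing only the translations have large centralisers.
-/

set_option autoImplicit false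
set_option linter.style.haveILetI false
set_option linter.unusedSectionVars false

namespace CfsgLib.AschCrit.EndTwo

universe v

/-- The coordinate data of a model of Suzuki type. -/
structure Coord (F : Type v) [Field F] where
  A : AddSubgroup F
  one_mem : (1 : F) ∈ A
  θ : F ≃+* F
  θfix : ∀ x, θ x = x → x = 0 ∨ x = 1
  inj : ∀ y, θ y * y = 1 → y = 1
  lam : F
  c : F
  tw : c ≠ 0 → ∀ x, θ (θ x) = x ^ 2

namespace Coord

variable {F : Type v} [Field F] (K : Coord F)

/-- The vectors. -/
def Vec (v : F × F × F) : Prop := v.1 ∈ K.A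

/-- The square. -/
def sq (v : F × F × F) : F :=
  (v.1 + K.lam) * v.2.1 + K.θ v.2.2 * v.2.2 + K.c * K.θ.symm (v.2.1 * v.2.2)

/-- The commutator. -/
def pol (v v' : F × F × F) : F :=
  v.1 * v'.2.1 + v'.1 * v.2.1 + (K.θ v.2.2 * v'.2.2 + K.θ v'.2.2 * v.2.2) +
    K.c * (K.θ.symm (v.2.1 * v'.2.2) + K.θ.symm (v'.2.1 * v.2.2))

/-- The torus. -/
def scale (t : F) (v : F × F × F) : F × F × F := (v.1, K.θ t * t * v.2.1, t * v.2.2)

theorem pol_comm (v v' : F × F × F) : K.pol v v' = K.pol v' v := by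
  simp only [pol]; ring

theorem pol_add (v v' w : F × F × F) : K.pol (v + v') w = K.pol v w + K.pol v' w := by
  simp only [pol, Prod.fst_add, Prod.snd_add, map_add, add_mul, mul_add]; ring

theorem pol_add_right (v w w' : F × F × F) : K.pol v (w + w') = K.pol v w + K.pol v w' := by
  rw [pol_comm, pol_add, pol_comm, K.pol_comm w' v]

theorem scale_add (t : F) (v v' : F × F × F) : K.scale t (v + v') = K.scale t v + K.scale t v' := by
  simp only [scale, Prod.fst_add, Prod.snd_add, Prod.mk_add_mk, mul_add]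

theorem scale_scale (t t' : F) (v : F × F × F) : K.scale t (K.scale t' v) = K.scale (t * t') v := by
  simp only [scale, map_mul]; refine Prod.ext rfl (Prod.ext ?_ ?_) <;> simp <;> ring

theorem scale_one (v : F × F × F) : K.scale 1 v = v := by
  simp [scale]

theorem scale_inv {t : F} (ht : t ≠ 0) (v : F × F × F) : K.scale t⁻¹ (K.scale t v) = v := by
  rw [scale_scale, inv_mul_cancel₀ ht, scale_one]

theorem vec_scale {t : F} {v : F × F × F} : K.Vec (K.scale t v) ↔ K.Vec v := Iff.rfl

theorem twist (t x y : F) :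
    K.c * K.θ.symm (K.θ t * t * x * (t * y)) = K.θ t * t * (K.c * K.θ.symm (x * y)) := by
  rcases eq_or_ne K.c 0 with h | h
  · rw [h]; ring
  · have e : K.θ.symm (t * t) = K.θ t := K.θ.injective (by
      rw [RingEquiv.apply_symm_apply, K.tw h, pow_two])
    rw [show K.θ t * t * x * (t * y) = K.θ t * (t * t) * (x * y) by ring, map_mul, map_mul,
      RingEquiv.symm_apply_apply, e]
    ring

theorem sq_scale (t : F) (v : F × F × F) : K.sq (K.scale t v) = K.θ t * t * K.sq v := by
  simp only [sq, scale]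
  rw [K.twist, map_mul K.θ]
  ring

theorem pol_scale (t : F) (v v' : F × F × F) :
    K.pol (K.scale t v) (K.scale t v') = K.θ t * t * K.pol v v' := by
  simp only [pol, scale, mul_add]
  rw [K.twist, K.twist, map_mul K.θ, map_mul K.θ]
  ring

theorem pol_axis (a a' : F) : K.pol (a, 0, 0) (a', 0, 0) = 0 := by simp [pol]

variable [CharP F 2]

theorem two_eq : (2 : F) = 0 := CharTwo.two_eq_zero

theorem sq_add (v v' : F × F × F) : K.sq (v + v') = K.sq v + K.sq v' + K.pol v v' := by
  simp only [sq, pol, Prod.fst_add, Prod.snd_add, map_add, add_mul, mul_add]; ring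

theorem pol_self (v : F × F × F) : K.pol v v = 0 := by
  simp only [pol, ← two_mul, two_eq, zero_mul, mul_zero, add_zero]

theorem theta_add_self_ne {y : F} (h0 : y ≠ 0) (h1 : y ≠ 1) : K.θ y + y ≠ 0 := fun e =>
  (K.θfix y (CharTwo.add_eq_zero.1 e)).elim h0 h1

/-- The bilinear part of `θ y * y` has kernel `{0, y}`. -/
theorem norm_pol_eq_zero {y y' : F} (hy : y ≠ 0) (h : K.θ y * y' + K.θ y' * y = 0) : y' = 0 ∨ y' = y := by
  have e : K.θ (y' / y) + y' / y = 0 := by
    have hθ : K.θ y ≠ 0 := by simpa using hy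
    rw [map_div₀, div_add_div _ _ hθ hy, add_comm, h, zero_div]
  rcases K.θfix _ (CharTwo.add_eq_zero.1 e) with e1 | e1
  · exact Or.inl ((div_eq_zero_iff.1 e1).resolve_right hy)
  · exact Or.inr (eq_of_div_eq_one e1)

theorem theta_injOn {y y' : F} (h : K.θ y * y = K.θ y' * y') : y = y' := by
  rcases eq_or_ne y 0 with rfl | hy
  · rw [map_zero, zero_mul, eq_comm, mul_eq_zero, EmbeddingLike.map_eq_zero_iff, or_self] at h
    exact h.symm
  have hn : K.θ y * y ≠ 0 := mul_ne_zero (by simpa using hy) hy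
  have e : K.θ (y' / y) * (y' / y) = 1 := by
    rw [map_div₀, div_mul_div_comm, ← h, div_self hn]
  exact (eq_of_div_eq_one (K.inj _ e)).symm

/-- The vectors as a group. -/
def W : AddSubgroup (F × F × F) := K.A.prod ⊤

theorem mem_W {v : F × F × F} : v ∈ K.W ↔ K.Vec v := by
  simp [W, Vec, AddSubgroup.mem_prod]

theorem sq_zero_x {a y : F} (h : K.sq (a, 0, y) = 0) : y = 0 := by
  simp only [sq, mul_zero, zero_mul, map_zero, zero_add, add_zero, mul_eq_zero, EmbeddingLike.map_eq_zero_iff,
    or_self] at h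
  exact h

theorem root_unique (hc : K.c = 0) {a x y y' : F} (h : K.sq (a, x, y) = 0) (h' : K.sq (a, x, y') = 0) :
    y = y' := by
  refine K.theta_injOn ?_
  simp only [sq, hc, zero_mul, add_zero] at h h'
  linear_combination h - h'

variable [Finite F]

/-- At most two `y` for given `(a, x)`. -/
theorem roots_ncard_le (a : F) {x : F} (hx : x ≠ 0) : {y : F | K.sq (a, x, y) = 0}.ncard ≤ 2 := by
  classical
  rcases eq_or_ne K.c 0 with hc | hc
  · exact ((Set.ncard_le_one (Set.toFinite _)).2 fun y hy y' hy' => K.root_unique hc hy hy').trans one_le_two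
  have hc' : K.c * K.θ.symm x ≠ 0 := mul_ne_zero hc (by simpa using hx)
  set e := (a + K.lam) * x with he
  set c' := K.c * K.θ.symm x with hc'def
  let P : Polynomial F := Polynomial.C (c' * c' + K.θ e) * Polynomial.X ^ 2 +
    Polynomial.C (c' * K.θ c') * Polynomial.X + Polynomial.C (e * (e + K.θ c'))
  have hP : P ≠ 0 := fun h0 => by
    have h1 : P.coeff 1 = 0 := by rw [h0, Polynomial.coeff_zero]
    simp only [P, Polynomial.coeff_add, Polynomial.coeff_C_mul, Polynomial.coeff_X_pow, Polynomial.coeff_X_one,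
      Polynomial.coeff_C] at h1
    norm_num at h1
    exact hc' h1
  have hdeg : P.natDegree ≤ 2 := Polynomial.natDegree_quadratic_le
  have hsub : {y : F | K.sq (a, x, y) = 0} ⊆ (P.roots.toFinset.image K.θ : Finset F) := by
    intro y (hy : K.sq (a, x, y) = 0)
    rw [Finset.coe_image]
    refine ⟨K.θ.symm y, ?_, K.θ.apply_symm_apply y⟩
    rw [Finset.mem_coe, Multiset.mem_toFinset, Polynomial.mem_roots hP]
    set z := K.θ.symm y with hz
    have hy' : y = K.θ z := (K.θ.apply_symm_apply y).symm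
    set w := K.θ z with hw
    have h1 : e + w * z ^ 2 + c' * z = 0 := by
      simp only [sq, map_mul] at hy
      rw [← hz, hy', K.tw hc] at hy
      rw [he, hc'def]
      linear_combination hy
    have h2 : K.θ e + w ^ 2 * z ^ 2 + K.θ c' * w = 0 := by
      have := congrArg K.θ h1
      simp only [map_add, map_mul, map_pow, map_zero, hw, K.tw hc] at this
      rw [hw]
      linear_combination this
    simp only [P, Polynomial.IsRoot, Polynomial.eval_add, Polynomial.eval_mul, Polynomial.eval_C,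
      Polynomial.eval_pow, Polynomial.eval_X]
    linear_combination z ^ 2 * h2 + (e + c' * z + w * z ^ 2 + K.θ c') * h1 -
      (w ^ 2 * z ^ 4 + K.θ c' * w * z ^ 2 + e * c' * z + e * w * z ^ 2 + c' * w * z ^ 3) * (two_eq (F := F))
  calc {y : F | K.sq (a, x, y) = 0}.ncard ≤ Set.ncard ((P.roots.toFinset.image K.θ : Finset F) : Set F) :=
        Set.ncard_le_ncard hsub
    _ ≤ P.roots.toFinset.card := by rw [Set.ncard_coe_finset]; exact Finset.card_image_le
    _ ≤ 2 := (Multiset.toFinset_card_le _).trans ((Polynomial.card_roots' P).trans hdeg)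

/-- The commutators with `v` are not everything. -/
def Deficient (v : F × F × F) : Prop := ¬ ∀ z : F, ∃ v' : F × F × F, K.Vec v' ∧ K.pol v v' = z

theorem deficient_scale {t : F} (ht : t ≠ 0) {v : F × F × F} (h : K.Deficient v) : K.Deficient (K.scale t v) := by
  intro hall
  refine h fun z => ?_
  obtain ⟨v', hv', hz⟩ := hall (K.θ t * t * z)
  refine ⟨K.scale t⁻¹ v', hv', mul_left_cancel₀ (mul_ne_zero (by simpa using ht) ht : K.θ t * t ≠ 0) ?_⟩
  rw [← K.pol_scale, scale_scale, mul_inv_cancel₀ ht, scale_one, hz]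

theorem deficient_cases (hc : K.c ≠ 0) (hA : ∀ a ∈ K.A, a = 0 ∨ a = 1) {v : F × F × F} (hv : K.Vec v) (hv0 : v ≠ 0)
    (h : K.Deficient v) : v.1 = 1 ∧ v.2.2 ≠ 0 := by
  obtain ⟨a, x, y⟩ := v
  have h0 : (0 : F) ∈ K.A := K.A.zero_mem
  rcases hA a hv with rfl | rfl
  · exfalso
    rcases eq_or_ne y 0 with rfl | hy
    · have hx : x ≠ 0 := fun e => hv0 (by rw [e]; rfl)
      refine h fun z => ⟨(0, 0, K.θ (z / K.c) / x), h0, ?_⟩
      simp only [pol, map_zero, zero_mul, mul_zero, zero_add, add_zero]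
      rw [mul_div_cancel₀ _ hx, RingEquiv.symm_apply_apply, mul_div_cancel₀ z hc]
    · refine h fun z => ⟨(0, K.θ (z / K.c) / y, 0), h0, ?_⟩
      simp only [pol, map_zero, zero_mul, mul_zero, zero_add, add_zero]
      rw [div_mul_cancel₀ _ hy, RingEquiv.symm_apply_apply, mul_div_cancel₀ z hc]
  · refine ⟨rfl, fun hy => h fun z => ⟨(0, z, 0), h0, ?_⟩⟩
    dsimp only at hy
    simp [pol, hy]

/-- For each `y ≠ 0` exactly one `(1, x, y)` is deficient. -/
theorem exists_deficient (hc : K.c ≠ 0) (hA : ∀ a ∈ K.A, a = 0 ∨ a = 1) :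
    ∃ x₀ y₀ : F, y₀ ≠ 0 ∧ K.Deficient (1, x₀, y₀) ∧ ∀ x, K.Deficient (1, x, y₀) → x = x₀ := by
  classical
  set φ := K.θ.symm with hφ
  have hθc : K.θ K.c ≠ 0 := by simpa using hc
  set y₀ := (K.θ K.c)⁻¹ with hy₀
  have hcy : K.c * φ y₀ = 1 := K.θ.injective (by
    rw [map_mul, hφ, RingEquiv.apply_symm_apply, hy₀, mul_inv_cancel₀ hθc, map_one])
  let L : F →+ F := AddMonoidHom.mk' (fun z => z + φ z) fun a b => by rw [map_add]; ring
  have hL : ∀ z, L z = z + φ z := fun z => rfl
  set x₀ := y₀ * K.θ y₀ + y₀ * φ y₀ with hx₀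
  have hcoef : ∀ x, K.θ y₀ + φ y₀ + K.θ K.c * x = 0 ↔ x = x₀ := fun x => by
    have h1 : K.θ K.c * y₀ = 1 := mul_inv_cancel₀ hθc
    constructor
    · intro h
      rw [hx₀]
      linear_combination y₀ * h - x * h1 - (y₀ * K.θ y₀ + y₀ * φ y₀) * (two_eq (F := F))
    · rintro rfl
      rw [hx₀]
      linear_combination (K.θ y₀ + φ y₀) * h1 + (K.θ y₀ + φ y₀) * (two_eq (F := F))
  -- the commutator modulo the range of `L`
  have hexp : ∀ x a' x' y', K.pol (1, x, y₀) (a', x', y') =
      L x' + a' * x + (y' * (K.θ y₀ + φ y₀ + K.θ K.c * x) + L (K.θ y' * y₀) + L (K.θ K.c * x * y')) := by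
    intro x a' x' y'
    simp only [pol, hL, map_mul, ← hφ]
    rw [show φ (K.θ y') = y' from K.θ.symm_apply_apply y', show φ (K.θ K.c) = K.c from K.θ.symm_apply_apply K.c]
    linear_combination φ x' * hcy - (y' * φ y₀ + y' * K.θ K.c * x) * (two_eq (F := F))
  have hx₀L : x₀ ∈ L.range := ⟨K.θ (y₀ * φ y₀), by
    rw [hL, show φ (K.θ (y₀ * φ y₀)) = y₀ * φ y₀ from K.θ.symm_apply_apply _, map_mul, hφ,
      RingEquiv.apply_symm_apply, hx₀, hφ]
    ring⟩
  have hker : Nat.card L.ker = 2 := by
    have h1 : ∀ z, z ∈ L.ker ↔ z = 0 ∨ z = 1 := fun z => by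
      rw [AddMonoidHom.mem_ker, hL, CharTwo.add_eq_zero]
      refine ⟨fun h => K.θfix z ?_, ?_⟩
      · conv_lhs => rw [h]
        exact K.θ.apply_symm_apply z
      · rintro (rfl | rfl) <;> simp
    show Nat.card ((L.ker : Set F) : Type v) = 2
    rw [Nat.card_coe_set_eq, show ((L.ker : Set F)) = {0, 1} from Set.ext fun z => by simpa using h1 z,
      Set.ncard_pair zero_ne_one]
  have hcard : Nat.card L.range * 2 = Nat.card F := by
    rw [← hker, ← AddSubgroup.index_ker, mul_comm]
    exact L.ker.card_mul_index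
  have hne : L.range ≠ ⊤ := fun e => by
    rw [e, AddSubgroup.card_top] at hcard
    have := Nat.card_pos (α := F)
    omega
  refine ⟨x₀, y₀, inv_ne_zero hθc, ?_, ?_⟩
  · intro hall
    refine hne (eq_top_iff.2 fun z _ => ?_)
    obtain ⟨⟨a', x', y'⟩, hv', rfl⟩ := hall z
    rw [hexp, (hcoef x₀).2 rfl, mul_zero, zero_add]
    refine add_mem (add_mem ⟨x', rfl⟩ ?_) (add_mem ⟨_, rfl⟩ ⟨_, rfl⟩)
    rcases hA a' hv' with rfl | rfl
    · rw [zero_mul]; exact zero_mem _
    · rw [one_mul]; exact hx₀L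
  · intro x hx
    let I : AddSubgroup F :=
      { carrier := {z | ∃ v', K.Vec v' ∧ K.pol (1, x, y₀) v' = z}
        zero_mem' := ⟨0, K.A.zero_mem, by simp [pol]⟩
        add_mem' := by
          rintro _ _ ⟨v, hv, rfl⟩ ⟨v', hv', rfl⟩
          exact ⟨v + v', K.A.add_mem hv hv', K.pol_add_right _ _ _⟩
        neg_mem' := by
          rintro z hz
          rwa [CharTwo.neg_eq] }
    have hle : L.range ≤ I := by
      rintro _ ⟨x', rfl⟩
      refine ⟨(0, x', 0), K.A.zero_mem, ?_⟩
      rw [hexp]; simp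
    have hIne : I ≠ ⊤ := fun e => hx fun z => (e ▸ AddSubgroup.mem_top z : z ∈ I)
    have hIeq : L.range = I := by
      refine AddSubgroup.eq_of_le_of_card_ge hle ?_
      have h1 := I.card_mul_index
      have h2 : 2 ≤ I.index := by
        by_contra h3
        have := I.index_ne_zero_of_finite
        exact hIne (AddSubgroup.index_eq_one.1 (by omega))
      nlinarith
    refine (hcoef x).1 ?_
    by_contra hco
    refine hne (eq_top_iff.2 fun z _ => ?_)
    set co := K.θ y₀ + φ y₀ + K.θ K.c * x with hcodef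
    have hmem : K.pol (1, x, y₀) (0, 0, z / co) ∈ L.range := hIeq ▸ ⟨(0, 0, z / co), K.A.zero_mem, rfl⟩
    rw [hexp, map_zero, zero_mul, zero_add, zero_add, ← hcodef, div_mul_cancel₀ z hco,
      add_assoc] at hmem
    exact (AddSubgroup.add_mem_cancel_right _ (add_mem (AddMonoidHom.mem_range.2 ⟨_, rfl⟩)
      (AddMonoidHom.mem_range.2 ⟨_, rfl⟩))).1 hmem

/-- With a pairing and `|A| = 2` the symmetries fix `(1, 0, 0)`. -/
theorem sum_deficient (hc : K.c ≠ 0) (hA : ∀ a ∈ K.A, a = 0 ∨ a = 1) (h8 : 8 ≤ Nat.card F)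
    (f : K.W →+ K.W) (hf : Function.Injective f) (hfD : ∀ v : K.W, K.Deficient v → K.Deficient (f v)) :
    (f ⟨(1, 0, 0), K.mem_W.2 K.one_mem⟩ : F × F × F) = (1, 0, 0) := by
  classical
  haveI := Fintype.ofFinite F
  haveI := Fintype.ofFinite K.W
  obtain ⟨x₀, y₀, hy₀, hD₀, huniq⟩ := K.exists_deficient hc hA
  set Z : Finset K.W := Finset.univ.filter fun v => v ≠ 0 ∧ K.Deficient v with hZ
  let gen : F → K.W := fun t => ⟨K.scale t (1, x₀, y₀), K.mem_W.2 K.one_mem⟩
  have hZgen : Z = (Finset.univ.filter fun t : F => t ≠ 0).image gen := by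
    ext v
    simp only [hZ, Finset.mem_filter, Finset.mem_univ, true_and, Finset.mem_image]
    constructor
    · rintro ⟨hv0, hD⟩
      obtain ⟨h1, hy⟩ := K.deficient_cases hc hA (K.mem_W.1 v.2) (fun e => hv0 (Subtype.ext e)) hD
      obtain ⟨⟨a, x, y⟩, hvW⟩ := v
      dsimp only at h1 hy hD
      subst h1
      have ht : y₀ / y ≠ 0 := div_ne_zero hy₀ hy
      have hD' := K.deficient_scale ht hD
      have hs : K.scale (y₀ / y) (1, x, y) = (1, K.θ (y₀ / y) * (y₀ / y) * x, y₀) := by
        simp only [scale, div_mul_cancel₀ _ hy]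
      rw [hs] at hD'
      refine ⟨(y₀ / y)⁻¹, inv_ne_zero ht, Subtype.ext ?_⟩
      show K.scale (y₀ / y)⁻¹ (1, x₀, y₀) = (1, x, y)
      rw [← huniq _ hD', ← hs, K.scale_inv ht]
    · rintro ⟨t, ht, rfl⟩
      refine ⟨fun e => ?_, K.deficient_scale ht hD₀⟩
      exact one_ne_zero (congrArg (fun v : K.W => (v : F × F × F).1) e)
  have hsum : ((∑ v ∈ Z, v : K.W) : F × F × F) = (1, 0, 0) := by
    rw [hZgen, Finset.sum_image (fun t _ t' _ e => mul_right_cancel₀ hy₀
      (congrArg (fun v : K.W => (v : F × F × F).2.2) e)), AddSubmonoidClass.coe_finsetSum]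
    obtain ⟨t₀, ht₀, ht₁⟩ : ∃ t : F, t ≠ 0 ∧ t ≠ 1 := by
      by_contra! hall
      have hle : (Finset.univ : Finset F) ⊆ {0, 1} := fun x _ => by
        simpa [or_iff_not_imp_left] using hall x
      have := (Finset.card_le_card hle).trans Finset.card_le_two
      rw [Finset.card_univ, ← Nat.card_eq_fintype_card] at this
      omega
    have hperm : ∀ g : F → F, ∑ t ∈ Finset.univ.filter (fun t : F => t ≠ 0), g (t₀ * t) =
        ∑ t ∈ Finset.univ.filter (fun t : F => t ≠ 0), g t := fun g =>
      Finset.sum_equiv (Equiv.mulLeft₀ t₀ ht₀) (by simp [ht₀]) (fun _ _ => rfl)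
    have hzero : ∀ (g : F → F) (m : F), m ≠ 1 → (∀ t, g (t₀ * t) = m * g t) →
        ∑ t ∈ Finset.univ.filter (fun t : F => t ≠ 0), g t = 0 := fun g m hm hg => by
      have h1 := hperm g
      rw [Finset.sum_congr rfl fun t _ => hg t, ← Finset.mul_sum] at h1
      by_contra hne
      exact hm ((mul_eq_right₀ hne).1 h1)
    have hone : ∑ t ∈ Finset.univ.filter (fun t : F => t ≠ 0), (1 : F) = 1 := by
      have h1 := Finset.add_sum_erase (Finset.univ : Finset F) (fun _ => (1 : F)) (Finset.mem_univ 0)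
      rw [← Finset.filter_ne'] at h1
      rw [Finset.sum_const (s := (Finset.univ : Finset F)), Finset.card_univ, nsmul_eq_mul, mul_one,
        FiniteField.cast_card_eq_zero] at h1
      exact (CharTwo.add_eq_zero.1 h1).symm
    refine Prod.ext ?_ (Prod.ext ?_ ?_)
    · simp only [Prod.fst_sum]
      exact hone
    · simp only [Prod.snd_sum, Prod.fst_sum]
      exact hzero (fun t => K.θ t * t * x₀) (K.θ t₀ * t₀) (fun e => ht₁ (K.inj _ e))
        (fun t => by rw [map_mul]; ring)
    · simp only [Prod.snd_sum]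
      exact hzero (fun t => t * y₀) t₀ ht₁ (fun t => by ring)
  have hu : (⟨(1, 0, 0), K.mem_W.2 K.one_mem⟩ : K.W) = ∑ v ∈ Z, v := Subtype.ext hsum.symm
  rw [hu, map_sum, ← Finset.sum_image (f := fun v => v) (g := f) (fun a _ b _ e => hf e)]
  have himg : Z.image f = Z := by
    refine Finset.eq_of_subset_of_card_le ?_ (Finset.card_image_of_injective _ hf).ge
    intro v hv
    obtain ⟨w, hw, rfl⟩ := Finset.mem_image.1 hv
    simp only [hZ, Finset.mem_filter, Finset.mem_univ, true_and] at hw ⊢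
    exact ⟨fun e => hw.1 (hf (e.trans (map_zero f).symm)), hfD w hw.2⟩
  rw [himg, hsum]

/-- Without a pairing only the translations have large centralisers. -/
theorem eq_zero_of_comm (hc : K.c = 0) (hA : ∀ a ∈ K.A, a = 0 ∨ a = 1) (h8 : 8 ≤ Nat.card F) (v : F × F × F)
    (hv : K.Vec v) :
    Nat.card F * Nat.card F ≤ {w : F × F × F | K.Vec w ∧ K.pol v w = 0}.ncard ↔ v.1 = 0 ∧ v.2.2 = 0 := by
  classical
  haveI := Fintype.ofFinite F
  constructor
  · intro hbig
    by_contra hcon
    set S := {w : F × F × F | K.Vec w ∧ K.pol v w = 0} with hS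
    have hlt : S.ncard ≤ 4 * Nat.card F := by
      rcases hA v.1 hv with ha | ha
      · have hy : v.2.2 ≠ 0 := fun e => hcon ⟨ha, e⟩
        have hfib : ∀ p : F × F, {w ∈ S | (w.1, w.2.1) = p}.ncard ≤ 2 := fun p => by
          rcases ({w ∈ S | (w.1, w.2.1) = p}).eq_empty_or_nonempty with he | ⟨w₀, hw₀⟩
          · rw [he, Set.ncard_empty]; omega
          refine le_trans (Set.ncard_le_ncard (t := {w₀, w₀ + (0, 0, v.2.2)}) ?_)
            ((Set.ncard_insert_le _ _).trans (by rw [Set.ncard_singleton]))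
          rintro w ⟨hw, hwp⟩
          obtain ⟨hw₀S, hw₀p⟩ := hw₀
          have e := hwp.trans hw₀p.symm
          rw [Prod.mk.injEq] at e
          have h1 := hw.2
          have h2 := hw₀S.2
          simp only [pol, ha, hc, zero_mul, add_zero, zero_add, e.1] at h1 h2
          have h3 : K.θ v.2.2 * (w.2.2 + w₀.2.2) + K.θ (w.2.2 + w₀.2.2) * v.2.2 = 0 := by
            rw [map_add]; linear_combination h1 + h2 - (w₀.1 * v.2.1) * (two_eq (F := F))
          rcases K.norm_pol_eq_zero hy h3 with h4 | h4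
          · exact Or.inl (Prod.ext e.1 (Prod.ext e.2 (CharTwo.add_eq_zero.1 h4)))
          · refine Or.inr (Prod.ext (by simpa using e.1) (Prod.ext (by simpa using e.2) ?_))
            show w.2.2 = w₀.2.2 + v.2.2
            linear_combination h4 - w₀.2.2 * (two_eq (F := F))
        rw [Set.ncard_eq_toFinset_card']
        refine (Finset.card_le_mul_card_image (f := fun w => (w.1, w.2.1)) _ 2 fun p _ => ?_).trans ?_
        · refine le_trans (le_of_eq ?_) (hfib p)
          rw [Set.ncard_eq_toFinset_card']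
          congr 1
          ext w; simp
        · have : (S.toFinset.image fun w => (w.1, w.2.1)) ⊆ ({0, 1} : Finset F) ×ˢ Finset.univ := by
            intro p hp
            obtain ⟨w, hw, rfl⟩ := Finset.mem_image.1 hp
            simpa using hA _ (Set.mem_toFinset.1 hw).1
          have h5 := Finset.card_le_card this
          rw [Finset.card_product, Finset.card_univ, ← Nat.card_eq_fintype_card] at h5
          have := Nat.mul_le_mul_right (Nat.card F) (Finset.card_le_two (a := (0 : F)) (b := 1))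
          omega
      · have hinj : Set.InjOn (fun w : F × F × F => (w.1, w.2.2)) S := fun w hw w' hw' e => by
          rw [Prod.mk.injEq] at e
          have h1 := hw.2
          have h2 := hw'.2
          simp only [pol, ha, hc, zero_mul, add_zero, one_mul, e.1, e.2] at h1 h2
          exact Prod.ext e.1 (Prod.ext (by linear_combination h1 - h2) e.2)
        rw [← hinj.ncard_image]
        refine le_trans (Set.ncard_le_ncard (t := ({0, 1} : Set F) ×ˢ Set.univ) ?_) ?_
        · rintro _ ⟨w, hw, rfl⟩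
          exact ⟨hA _ hw.1, trivial⟩
        · rw [Set.ncard_prod, Set.ncard_univ, Set.ncard_pair zero_ne_one]
          omega
    have := Nat.mul_le_mul_right (Nat.card F) h8
    have := Nat.card_pos (α := F)
    omega
  · rintro ⟨ha, hy⟩
    have hsub : ({0} : Set F) ×ˢ (Set.univ : Set (F × F)) ⊆ {w : F × F × F | K.Vec w ∧ K.pol v w = 0} := by
      rintro ⟨a, p⟩ ⟨ha', -⟩
      rw [Set.mem_singleton_iff] at ha'
      subst ha'
      exact ⟨K.A.zero_mem, by simp [pol, ha, hy, hc]⟩
    refine le_trans (le_of_eq ?_) (Set.ncard_le_ncard hsub)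
    rw [Set.ncard_prod, Set.ncard_singleton, one_mul, Set.ncard_univ, Nat.card_prod]

/-- On eight points an involution compatible with the squares is trivial. -/
theorem eight_norm (h8 : Nat.card F = 8) (A γ : F →+ F) (hA : ∀ y, A (A y) = y)
    (h : ∀ y, K.θ (A y) * A y = γ (K.θ y * y)) : ∀ y, A y = y := by
  classical
  let U : AddSubgroup F := (A + AddMonoidHom.id F).ker
  have hU : ∀ y, y ∈ U ↔ A y = y := fun y => by
    simp [U, AddMonoidHom.mem_ker, CharTwo.add_eq_zero]
  have hrange : (A + AddMonoidHom.id F).range ≤ U := by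
    rintro _ ⟨y, rfl⟩
    rw [hU]
    simp [hA, add_comm]
  have hcardU : 3 ≤ Nat.card U := by
    have h1 := U.card_mul_index
    rw [show U.index = Nat.card (A + AddMonoidHom.id F).range from AddSubgroup.index_ker _, h8] at h1
    have h2 := AddSubgroup.card_le_of_le hrange
    have := Nat.mul_le_mul_left (Nat.card U) h2
    by_contra h3
    interval_cases hN : Nat.card U <;> omega
  obtain ⟨a, ha, b, hb, ha0, hb0, hab⟩ : ∃ a ∈ U, ∃ b ∈ U, a ≠ 0 ∧ b ≠ 0 ∧ a ≠ b := by
    have h3 : 2 < (U : Set F).ncard := by rw [← Nat.card_coe_set_eq]; exact hcardU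
    obtain ⟨a, ha, ha0⟩ := Set.exists_ne_of_one_lt_ncard (lt_trans one_lt_two h3) (0 : F)
    obtain ⟨b, hb, hb'⟩ := Set.exists_mem_notMem_of_ncard_lt_ncard (s := ({0, a} : Set F)) (t := U)
      (lt_of_le_of_lt (by rw [Set.ncard_pair ha0.symm]) h3)
    simp only [Set.mem_insert_iff, Set.mem_singleton_iff, not_or] at hb'
    exact ⟨a, ha, b, hb, ha0, hb'.1, fun e => hb'.2 e.symm⟩
  let W : AddSubgroup F := (γ + AddMonoidHom.id F).ker
  have hW : ∀ z, z ∈ W ↔ γ z = z := fun z => by
    simp [W, AddMonoidHom.mem_ker, CharTwo.add_eq_zero]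
  have hfix : ∀ y ∈ U, K.θ y * y ∈ W := fun y hy => by
    rw [hW, ← h y, (hU y).1 hy]
  have hn0 : ∀ y, y ≠ 0 → K.θ y * y ≠ 0 := fun y hy => mul_ne_zero (by simpa using hy) hy
  set na := K.θ a * a with hna
  set nb := K.θ b * b with hnb
  have h5 : ({0, na, nb, na + nb, K.θ (a + b) * (a + b)} : Finset F).card = 5 := by
    have e1 : na ≠ 0 := hn0 a ha0
    have e2 : nb ≠ 0 := hn0 b hb0
    have e3 : na ≠ nb := fun e => hab (K.theta_injOn e)
    have e4 : K.θ (a + b) * (a + b) ≠ 0 := hn0 _ fun e => hab (CharTwo.add_eq_zero.1 e)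
    have e5 : K.θ (a + b) * (a + b) ≠ na := fun e => hb0 (left_eq_add.1 (K.theta_injOn e).symm)
    have e6 : K.θ (a + b) * (a + b) ≠ nb := fun e => ha0 (right_eq_add.1 (K.theta_injOn e).symm)
    have e7 : K.θ (a + b) * (a + b) ≠ na + nb := fun e => by
      rw [map_add] at e
      rcases K.norm_pol_eq_zero ha0 (y' := b) (by rw [hna, hnb] at e; linear_combination e) with h1 | h1
      · exact hb0 h1
      · exact hab h1.symm
    have e8 : na + nb ≠ 0 := fun e => e3 (CharTwo.add_eq_zero.1 e)
    have e9 : na + nb ≠ na := fun e => e2 (left_eq_add.1 e.symm)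
    have e10 : na + nb ≠ nb := fun e => e1 (right_eq_add.1 e.symm)
    generalize K.θ (a + b) * (a + b) = nc at e4 e5 e6 e7 ⊢
    simp [e1.symm, e2.symm, e3, e4.symm, e5.symm, e6.symm, e7.symm, e8.symm, e9.symm, e10.symm]
  have hWtop : W = ⊤ := by
    have hsub : (({0, na, nb, na + nb, K.θ (a + b) * (a + b)} : Finset F) : Set F) ⊆ W := by
      intro z hz
      simp only [Finset.coe_insert, Finset.coe_singleton, Set.mem_insert_iff, Set.mem_singleton_iff] at hz
      rcases hz with rfl | rfl | rfl | rfl | rfl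
      exacts [zero_mem W, hfix a ha, hfix b hb, add_mem (hfix a ha) (hfix b hb), hfix _ (add_mem ha hb)]
    have h6 := Set.ncard_le_ncard hsub
    rw [Set.ncard_coe_finset, h5, ← Nat.card_coe_set_eq] at h6
    refine AddSubgroup.eq_top_of_le_card W ?_
    have h7 : 5 ≤ Nat.card W := h6
    have h8' := W.card_mul_index
    rw [h8] at h8' ⊢
    have := W.index_ne_zero_of_finite
    by_contra h9
    have : W.index < 2 := by nlinarith
    interval_cases hI : W.index <;> omega
  exact fun y => K.theta_injOn ((h y).trans ((hW _).1 (hWtop ▸ AddSubgroup.mem_top _)))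

/-- On eight points an additive map commuting with a multiplication outside the prime field and fixing a
non-zero element is trivial. -/
theorem eight_scalar {F : Type v} [Field F] [Finite F] [CharP F 2] (h8 : Nat.card F = 8) (γ : F →+ F) (l : F)
    (hl0 : l ≠ 0) (hl1 : l ≠ 1) (hc : ∀ z, γ (l * z) = l * γ z) {e : F} (he : e ≠ 0) (hfix : γ e = e) :
    ∀ z, γ z = z := by
  classical
  have hl2 : l ^ 2 ≠ 1 + l := fun e2 => by
    have h3 : l ^ 3 = 1 := by linear_combination (l + 1) * e2 + l * (CharTwo.two_eq_zero (R := F))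
    have h7 : l ^ 7 = 1 := by
      haveI := Fintype.ofFinite F
      have := FiniteField.pow_card_sub_one_eq_one l hl0
      rwa [← Nat.card_eq_fintype_card, h8] at this
    exact hl1 (by
      calc l = l * (l ^ 3) ^ 2 := by rw [h3, one_pow, mul_one]
        _ = 1 := by rw [← h7]; ring)
  let W : AddSubgroup F := (γ + AddMonoidHom.id F).ker
  have hW : ∀ z, z ∈ W ↔ γ z = z := fun z => by
    simp [W, AddMonoidHom.mem_ker, CharTwo.add_eq_zero]
  have hmul : ∀ z ∈ W, l * z ∈ W := fun z hz => by rw [hW] at hz ⊢; rw [hc, hz]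
  have heW : e ∈ W := (hW e).2 hfix
  have h5 : ({0, 1, l, 1 + l, l ^ 2} : Finset F).card = 5 := by
    have e1 : (1 : F) + l ≠ 0 := fun h => hl1 (CharTwo.add_eq_zero.1 h).symm
    have e2 : l ^ 2 ≠ 0 := pow_ne_zero 2 hl0
    have e3 : l ^ 2 ≠ 1 := fun h => hl1 (by
      have : (l + 1) * (l + 1) = 0 := by linear_combination h + (l + 1) * (CharTwo.two_eq_zero (R := F))
      exact CharTwo.add_eq_zero.1 (mul_self_eq_zero.1 this))
    have e4 : l ^ 2 ≠ l := fun h => hl1 (mul_left_cancel₀ hl0 (by rw [mul_one, ← pow_two, h]))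
    simp [hl0.symm, hl1.symm, hl0, e1.symm, e2.symm, e3.symm, e4.symm, hl2.symm]
  have hWtop : W = ⊤ := by
    have hsub : ((({0, 1, l, 1 + l, l ^ 2} : Finset F).image (· * e) : Finset F) : Set F) ⊆ W := by
      intro z hz
      simp only [Finset.coe_image, Finset.coe_insert, Finset.coe_singleton, Set.mem_image, Set.mem_insert_iff,
        Set.mem_singleton_iff] at hz
      obtain ⟨k, hk, rfl⟩ := hz
      rcases hk with rfl | rfl | rfl | rfl | rfl
      · rw [zero_mul]; exact zero_mem W
      · rwa [one_mul]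
      · exact hmul e heW
      · rw [add_mul, one_mul]; exact add_mem heW (hmul e heW)
      · rw [pow_two, mul_assoc]; exact hmul _ (hmul e heW)
    have h6 := Set.ncard_le_ncard hsub
    rw [Set.ncard_coe_finset, Finset.card_image_of_injective _ (mul_left_injective₀ he), h5,
      ← Nat.card_coe_set_eq] at h6
    refine AddSubgroup.eq_top_of_le_card W ?_
    have h7 : 5 ≤ Nat.card W := h6
    have h8' := W.card_mul_index
    rw [h8] at h8' ⊢
    have := W.index_ne_zero_of_finite
    have : W.index < 2 := by nlinarith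
    interval_cases hI : W.index <;> omega
  exact fun z => (hW z).1 (hWtop ▸ AddSubgroup.mem_top z)

end Coord

end CfsgLib.AschCrit.EndTwo
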