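import Cfsg.Agent.Lib.Invol.AschCrit.EndTwo.Def

/-!
Owner: helper15. Aschbacher's criterion, end game of Suzuki type: the number of points.

* `TwoModel.count`: `n - 1 = q ^ 3 o` with the two values of `o`.
* `TwoModel.fix_card`: every multi at `a` centralising `E` has type two.
* `TwoModel.not_big`: no two-group at `a` centralising `E` is `q` times as large as `P`.
-/

set_option autoImplicit false
set_option linter.unusedSectionVars false
set_option linter.style.haveILetI false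

namespace CfsgLib.AschCrit

open Subgroup MulAction

universe u v

variable {G : Type u} [Group G] [Finite G] {Ω : Type v} [MulAction G Ω]

theorem exists_prime_norm {q : ℕ} (hq : 3 ≤ q) :
    ∃ p : ℕ, p.Prime ∧ p ≠ 3 ∧ (p : ℤ) ∣ (q : ℤ) ^ 2 - q + 1 := by
  obtain ⟨q', rfl⟩ : ∃ q', q = q' + 3 := ⟨q - 3, by omega⟩
  set M : ℕ := (q' + 3) * (q' + 2) + 1 with hM
  have hMZ : (M : ℤ) = ((q' + 3 : ℕ) : ℤ) ^ 2 - ((q' + 3 : ℕ) : ℤ) + 1 := by
    rw [hM]; push_cast; ring
  have hM3 : 3 < M := by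
    have := Nat.mul_le_mul (show 3 ≤ q' + 3 by omega) (show 2 ≤ q' + 2 by omega)
    omega
  by_contra! hcon
  have hpow := Nat.eq_prime_pow_of_unique_prime_dvd (p := 3) (n := M) (by omega) fun {d} hd hdvd => by
    by_contra h3
    exact hcon d hd h3 (hMZ ▸ Int.natCast_dvd_natCast.2 hdvd)
  have h9 : 9 ∣ M := by
    rw [hpow]
    refine dvd_trans (show 9 ∣ 3 ^ 2 by norm_num) (pow_dvd_pow 3 ?_)
    by_contra hlt
    have := Nat.pow_le_pow_right (show 0 < 3 by norm_num) (show M.primeFactorsList.length ≤ 1 by omega)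
    omega
  obtain ⟨j, hj⟩ := h9
  have key : ∀ x : ZMod 9, x ^ 2 - x + 1 ≠ 0 := by decide
  apply key ((q' + 3 : ℕ) : ZMod 9)
  have h0 : ((M : ℤ) : ZMod 9) = 0 := by
    rw [hj]; push_cast
    rw [show (9 : ZMod 9) = 0 by decide, zero_mul]
  rw [hMZ] at h0
  push_cast at h0 ⊢
  exact h0

namespace TwoModel

variable {D : Set G} {u : G} {a b : Ω} {E : Subgroup G} {q : ℕ} {P R X Q : Subgroup G} {η : G}
  (M : TwoModel D u a b E q P R X Q η)
include M

theorem crit : Crit Ω D := M.inp.crit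

theorem q4 : 4 ≤ q := Crit.four_le_q M.fr.data

theorem usq : u * u = 1 := by rw [← pow_two, ← M.fr.multi.1, pow_orderOf_eq_one]

theorem uinv : u⁻¹ = u := inv_eq_of_mul_eq_one_right M.usq

theorem u_ne : u ≠ 1 := fun e => by
  have := M.fr.multi.1
  rw [e, orderOf_one] at this
  omega

theorem memE {e : G} (he : e ∈ E) (he1 : e ≠ 1) : e ∈ D ∧ e • a = a ∧ Commute e u := M.fr.data.mem e he he1

theorem sqE {e : G} (he : e ∈ E) : e * e = 1 := by
  rcases eq_or_ne e 1 with e1 | e1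
  · rw [e1, one_mul]
  · exact M.crit.sq (M.memE he e1).1

theorem commE {e f : G} (he : e ∈ E) (hf : f ∈ E) : Commute e f := M.fr.data.comm e he f hf

theorem torusOn : TorusOn E η where
  sq _ he := M.sqE he
  comm _ he _ hf := M.commE he hf
  norm := M.mod.h_norm.1
  trans e he f hf he1 hf1 := M.mod.h_trans e he f hf he1 hf1

theorem E_le_P : E ≤ P := M.mod.E_Q.trans M.mod.Q_le

theorem fixP {g : G} (hg : g ∈ P) : g • a = a := (M.mod.sub g hg).1

theorem centE {g : G} (hg : g ∈ P) {e : G} (he : e ∈ E) : Commute g e := (M.mod.sub g hg).2.1 e he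

theorem fixR {r : G} (hr : r ∈ R) : r • a = a ∧ r • b = b :=
  ⟨(M.mod.R_sub hr).1.1, (M.mod.R_sub hr).1.2⟩

theorem commR {r s : G} (hr : r ∈ R) (hs : s ∈ R) : Commute r s := by
  have h1 := M.mod.R_sq _ (mul_mem hr hs)
  show r * s = s * r
  calc r * s = r * (r * s * (r * s)) * s := by rw [h1, mul_one]
    _ = r * r * (s * r) * (s * s) := by group
    _ = s * r := by rw [M.mod.R_sq r hr, M.mod.R_sq s hs, one_mul, mul_one]

theorem semiregE {e : G} (he : e ∈ E) {p : Ω} (hpa : p ≠ a) (hp : e • p = p) : e = 1 := by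
  by_contra he1
  obtain ⟨hD, hea, -⟩ := M.memE he he1
  exact hpa (M.crit.fix_unique e hD p a hp hea)

theorem exists_ne_one : ∃ e ∈ E, e ≠ 1 := by
  have := M.q4
  refine E.bot_or_exists_ne_one.resolve_left fun hb => ?_
  have hc := M.fr.data.card_E
  rw [hb, card_bot] at hc
  omega

/-- Two different commuting members. -/
theorem exists_pair : ∃ d e : G, d ∈ D ∧ e ∈ D ∧ d ≠ e ∧ Commute d e := by
  obtain ⟨e, he, he1⟩ := M.exists_ne_one
  obtain ⟨f, hf, hf'⟩ := Set.exists_mem_notMem_of_ncard_lt_ncard (s := ({1, e} : Set G)) (t := (E : Set G))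
    (by
      rw [Set.ncard_pair he1.symm, ← Nat.card_coe_set_eq]
      have : Nat.card (E : Set G) = q := M.fr.data.card_E
      have := M.q4
      omega)
  simp only [Set.mem_insert_iff, Set.mem_singleton_iff, not_or] at hf'
  exact ⟨e, f, (M.memE he he1).1, (M.memE hf hf'.1).1, fun e1 => hf'.2 e1.symm, M.commE he hf⟩

theorem memGroup_cent {g : G} (hg : ∀ e ∈ E, Commute g e) : MemGroup D g a E :=
  ⟨fun e he he1 => ⟨(M.memE he he1).1, (M.memE he he1).2.1, (hg e he).symm⟩, M.fr.data.comm⟩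

theorem R2_eq : 2 ^ padicValNat 2 (Nat.card (fixGrp u a b E)) = Nat.card R := M.mod.R_card.symm

theorem stab_le (K : Subgroup G) (hK : IsPGroup 2 K) (hKa : ∀ g ∈ K, g • a = a)
    (hKE : ∀ g ∈ K, ∀ e ∈ E, Commute g e) {p : Ω} (hp : p ≠ a) :
    Nat.card (stabilizer K p) ≤ Nat.card R :=
  M.R2_eq ▸ (M.inp.orb u a b E q 2 M.fr K hK (fun g hg => ⟨hKa g hg, hKE g hg⟩)).1 p hp

theorem card_dvd (K : Subgroup G) (hK : IsPGroup 2 K) (hKa : ∀ g ∈ K, g • a = a)
    (hKE : ∀ g ∈ K, ∀ e ∈ E, Commute g e) : Nat.card K ∣ (Nat.card Ω - 1) * Nat.card R :=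
  M.R2_eq ▸ (M.inp.orb u a b E q 2 M.fr K hK (fun g hg => ⟨hKa g hg, hKE g hg⟩)).2

theorem cardP : Nat.card P = q ^ 3 * Nat.card R := M.mod.P_card

theorem cube_dvd : q ^ 3 ∣ Nat.card Ω - 1 := by
  have h1 := M.card_dvd P M.mod.two (fun g hg => M.fixP hg) (fun g hg e he => M.centE hg he)
  rw [M.cardP] at h1
  exact Nat.dvd_of_mul_dvd_mul_right Nat.card_pos h1

/-- The number of the other points. -/
theorem count : ∃ w o : ℕ, w * w = 2 * q ∧ 4 ≤ w ∧ w + 2 < q ∧ 4 ∣ w ∧ 4 ∣ q ∧ Nat.card Ω - 1 = q ^ 3 * o ∧ 1 < o ∧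
    (o + q = q * q + 1 ∧ (∀ x ∈ mems D a, ¬ 4 ∣ orderOf (u * x)) ∨ o = (q - 1) * (w - 1) + 1) := by
  have hq4 := M.q4
  obtain ⟨t, htD, htu, hta⟩ := M.crit.exists_swapper M.usq M.fr.data.ne M.fr.data.fix_a M.fr.data.fix_b
  obtain ⟨g, r, c, c', hg, -, hgo, hro, hrg, -, -, -, hn, hiff⟩ := M.inp.form u a b E q 2 M.fr.toTopFrame t htD htu hta
  obtain ⟨w, hw2, hcase⟩ := M.inp.swap u a b E q M.fr.toTopFrame t htD htu hta
  rw [← hg] at hcase
  obtain ⟨o, ho⟩ := M.cube_dvd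
  -- the power of two `w`
  obtain ⟨s, hs2, hqs⟩ := M.fr.data.pow
  obtain ⟨k, -, hk⟩ := (Nat.dvd_prime_pow Nat.prime_two).1
    (show w ∣ 2 ^ (s + 1) from ⟨w, by rw [pow_succ, ← hqs, mul_comm _ 2, hw2]⟩)
  have hks : k + k = s + 1 := by
    refine Nat.pow_right_injective le_rfl ?_
    show 2 ^ (k + k) = 2 ^ (s + 1)
    rw [pow_add, ← hk, hw2, pow_succ, ← hqs, mul_comm]
  have hk2 : 2 ≤ k := by omega
  have hw4 : 4 ∣ w := hk ▸ pow_dvd_pow 2 hk2
  have hq4' : 4 ∣ q := hqs ▸ pow_dvd_pow 2 hs2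
  have h4w : 4 ≤ w := Nat.le_of_dvd (by
    by_contra h0
    simp only [not_lt, nonpos_iff_eq_zero] at h0
    subst h0
    omega) hw4
  have hwq : w + 2 < q := by
    have := Nat.mul_le_mul_right w h4w
    omega
  -- the equation
  have heq : (g : ℤ) * q * o = g - r + r * q * ((q : ℤ) ^ 2 - q + 1) := by
    rw [ho] at hn
    obtain ⟨q', rfl⟩ : ∃ q', q = q' + 1 := ⟨q - 1, by omega⟩
    simp only [Nat.add_sub_cancel] at hn
    have h2 : g * ((q' + 1) * o) = g + ((q' + 1) ^ 2 + 1) * q' * r := by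
      refine Nat.eq_of_mul_eq_mul_left (show 0 < (q' + 1) ^ 2 by positivity) ?_
      rw [← hn]; ring
    have h3 : ((g * ((q' + 1) * o) : ℕ) : ℤ) = ((g + ((q' + 1) ^ 2 + 1) * q' * r : ℕ) : ℤ) := by rw [h2]
    push_cast at h3 ⊢
    linear_combination h3
  have hq0 : (q : ℤ) ≠ 0 := by exact_mod_cast (by omega : q ≠ 0)
  rcases hrg.eq_or_lt with he | hlt
  · -- equal numbers
    subst he
    have h1 : (o : ℤ) = (q : ℤ) ^ 2 - q + 1 :=
      mul_left_cancel₀ (mul_ne_zero (by exact_mod_cast hro.pos.ne' : (r : ℤ) ≠ 0) hq0) (by linear_combination heq)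
    have h2 : o + q = q * q + 1 := by
      have : ((o + q : ℕ) : ℤ) = ((q * q + 1 : ℕ) : ℤ) := by push_cast; linear_combination h1
      exact_mod_cast this
    refine ⟨w, o, hw2, h4w, hwq, hw4, hq4', ho, ?_, Or.inl ⟨h2, hiff.1 rfl⟩⟩
    have := Nat.mul_le_mul_right q (show 2 ≤ q by omega)
    omega
  · have hdvd : q ∣ g - r := by
      rw [← Int.natCast_dvd_natCast, Nat.cast_sub hrg]
      exact ⟨(g : ℤ) * o - r * ((q : ℤ) ^ 2 - q + 1), by linear_combination -heq⟩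
    obtain ⟨j, hj⟩ := hdvd
    have hj1 : 1 ≤ j := by
      rcases Nat.eq_zero_or_pos j with rfl | h
      · omega
      · exact h
    have hgq : q + r ≤ g := by
      have := Nat.mul_le_mul_left q hj1
      omega
    have hr1 := hro.pos
    have hgw : g = q + w + 1 := by
      rcases hcase with h | h | h
      · have := Nat.le_of_dvd (by omega) h
        omega
      · obtain ⟨i, hi⟩ := h
        rcases i with _ | _ | i
        · omega
        · omega
        · have := Nat.mul_le_mul_left g (show 2 ≤ i + 1 + 1 by omega)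
          omega
      · omega
    have hj' : j = 1 := by
      by_contra hne
      have := Nat.mul_le_mul_left q (show 2 ≤ j by omega)
      omega
    subst hj'
    obtain rfl : r = w + 1 := by omega
    refine ⟨w, o, hw2, h4w, hwq, hw4, hq4', ho, ?_, ?_⟩
    all_goals
      have h1 : (o : ℤ) = ((q : ℤ) - 1) * (w - 1) + 1 := by
        refine mul_left_cancel₀ (mul_ne_zero (show (g : ℤ) ≠ 0 by exact_mod_cast (by omega : g ≠ 0)) hq0) ?_
        rw [heq, hgw]
        have : (w : ℤ) * w = 2 * q := by exact_mod_cast hw2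
        push_cast
        linear_combination (-(q : ℤ) * ((q : ℤ) - 1)) * this
      have h2 : o = (q - 1) * (w - 1) + 1 := by
        have : ((o : ℕ) : ℤ) = (((q - 1) * (w - 1) + 1 : ℕ) : ℤ) := by
          push_cast [Nat.cast_sub (show 1 ≤ q by omega), Nat.cast_sub (show 1 ≤ w by omega)]
          linear_combination h1
        exact_mod_cast this
    · have := Nat.mul_le_mul (show 1 ≤ q - 1 by omega) (show 1 ≤ w - 1 by omega)
      omega
    · exact Or.inr h2

theorem q8 : 8 ≤ q := by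
  obtain ⟨w, o, hw2, hw4, hwq, -⟩ := M.count
  obtain ⟨s, hs2, hqs⟩ := M.fr.data.pow
  have := Nat.mul_le_mul hw4 hw4
  omega

/-- `q` is not a square. -/
theorem not_square (m : ℕ) : m * m ≠ q := by
  intro hm
  obtain ⟨w, o, hw2, -⟩ := M.count
  obtain ⟨s, -, hqs⟩ := M.fr.data.pow
  obtain ⟨i, -, hi⟩ := (Nat.dvd_prime_pow Nat.prime_two).1 (show m ∣ 2 ^ s from ⟨m, by rw [← hqs, hm]⟩)
  obtain ⟨k, -, hk⟩ := (Nat.dvd_prime_pow Nat.prime_two).1
    (show w ∣ 2 ^ (s + 1) from ⟨w, by rw [pow_succ, ← hqs, mul_comm _ 2, hw2]⟩)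
  have h1 : i + i = s := Nat.pow_right_injective le_rfl (show 2 ^ (i + i) = 2 ^ s by rw [pow_add, ← hi, hm, hqs])
  have h2 : k + k = s + 1 := Nat.pow_right_injective le_rfl
    (show 2 ^ (k + k) = 2 ^ (s + 1) by rw [pow_add, ← hk, hw2, pow_succ, ← hqs, mul_comm])
  omega

/-- Every multi at `a` centralising `E` has type two. -/
theorem top_two {v : G} (hv : IsMulti Ω v) (hva : v • a = a) (hvE : ∀ e ∈ E, Commute v e) :
    ∃ y : Ω, TopFrame D v a y E q 2 := by
  obtain ⟨y, j, ht⟩ := M.inp.toOneInput.top_of_group M.fr.toTopFrame hv hva (M.memGroup_cent hvE) M.fr.data.card_E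
  have hv2 : v * v = 1 := by rw [← pow_two, ← hv.1, pow_orderOf_eq_one]
  obtain ⟨t, htD, htv, hta⟩ := M.crit.exists_swapper hv2 ht.data.ne ht.data.fix_a ht.data.fix_b
  obtain ⟨g, r, c, c', hg, -, hgo, hro, hrg, hgle, -, -, hn, -⟩ := M.inp.form v a y E q j ht t htD htv hta
  obtain ⟨w, o, hw2, hw4, hwq, -, hq4', ho, ho1, hcase⟩ := M.count
  rw [ho] at hn
  have hq4 := M.q4
  rcases ht.data.type with rfl | rfl | rfl
  · exfalso
    obtain ⟨q', rfl⟩ : ∃ q', q = q' + 1 := ⟨q - 1, by omega⟩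
    simp only [Nat.add_sub_cancel, pow_one] at hn
    have h1 : (q' + 1) * (g + (q' + 1 + 1) * q' * r) ≤ (q' + 1) * (g + (q' + 1 + 1) * q' * g) :=
      Nat.mul_le_mul_left _ (Nat.add_le_add_left (Nat.mul_le_mul_left _ hrg) _)
    rw [← hn, show (q' + 1) * (g + (q' + 1 + 1) * q' * g) = g * (q' + 1) ^ 3 by ring] at h1
    have h2 := Nat.le_of_mul_le_mul_left h1 hgo.pos
    have h3 : (q' + 1) ^ 3 * 1 < (q' + 1) ^ 3 * o := Nat.mul_lt_mul_of_pos_left ho1 (by positivity)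
    omega
  · exact ⟨y, ht⟩
  · exfalso
    obtain ⟨q', hq'⟩ : ∃ q', q = q' + 1 := ⟨q - 1, by omega⟩
    have h1 : (g : ℤ) * o = g + ((q : ℤ) ^ 3 + 1) * ((q : ℤ) - 1) * r := by
      have h2 : g * o = g + (q ^ 3 + 1) * (q - 1) * r := by
        refine Nat.eq_of_mul_eq_mul_left (show 0 < q ^ 3 by positivity) ?_
        rw [← hn]; ring
      have h3 : ((g * o : ℕ) : ℤ) = ((g + (q ^ 3 + 1) * (q - 1) * r : ℕ) : ℤ) := by rw [h2]
      push_cast [Nat.cast_sub (show 1 ≤ q by omega)] at h3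
      linear_combination h3
    have hq1 : (q : ℤ) - 1 ≠ 0 := by omega
    rcases hcase with ⟨hA, -⟩ | hB
    · have hA' : (o : ℤ) + q = q * q + 1 := by exact_mod_cast hA
      have h2 : (g : ℤ) * q = ((q : ℤ) ^ 3 + 1) * r :=
        mul_left_cancel₀ hq1 (by linear_combination h1 - (g : ℤ) * hA')
      have h3 : g * q = (q ^ 3 + 1) * r := by exact_mod_cast h2
      have h4 : Odd ((q ^ 3 + 1) * r) := by
        refine Odd.mul ?_ hro
        obtain ⟨i, hi⟩ := hq4'
        exact ⟨32 * i ^ 3, by rw [hi]; ring⟩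
      rw [← h3] at h4
      have h5 : Odd q := (Nat.odd_mul.1 h4).2
      obtain ⟨i, hi⟩ := h5
      obtain ⟨i', hi'⟩ := hq4'
      omega
    · obtain ⟨p, hp, hp3, hpn⟩ := exists_prime_norm (show 3 ≤ q by omega)
      have hB' : (o : ℤ) = ((q : ℤ) - 1) * ((w : ℤ) - 1) + 1 := by
        rw [hB]
        push_cast [Nat.cast_sub (show 1 ≤ q by omega), Nat.cast_sub (show 1 ≤ w by omega)]
        ring
      have h2 : (g : ℤ) * ((w : ℤ) - 1) = ((q : ℤ) ^ 3 + 1) * r :=
        mul_left_cancel₀ hq1 (by linear_combination h1 - (g : ℤ) * hB')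
      have hpp : Prime (p : ℤ) := Nat.prime_iff_prime_int.1 hp
      have hp3' : ¬ (p : ℤ) ∣ 3 := fun h => hp3 ((Nat.prime_dvd_prime_iff_eq hp Nat.prime_three).1 (by exact_mod_cast h))
      have hw2' : (w : ℤ) * w = 2 * q := by exact_mod_cast hw2
      have hdvd : (p : ℤ) ∣ g := by
        have h3 : (p : ℤ) ∣ (g : ℤ) * ((w : ℤ) - 1) := by
          rw [h2]
          exact (hpn.trans ⟨(q : ℤ) + 1, by ring⟩).mul_right _
        refine (hpp.dvd_or_dvd h3).resolve_right fun hw => hp3' ?_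
        obtain ⟨x, hx⟩ := hw
        obtain ⟨y, hy⟩ := hpn
        exact ⟨4 * y - x * (w + 1) * (2 * q - 1), by
          linear_combination (4 : ℤ) * hy - ((w : ℤ) + 1) * (2 * q - 1) * hx + (2 * q - 1) * hw2'⟩
      have h4 := M.inp.up v a y E q ht t htD htv hta p hp (by rw [← hg]; exact_mod_cast hdvd)
      have h5 : (p : ℤ) ∣ 3 * ((q : ℤ) ^ 2 - 1) := by
        have h6 : ((p : ℕ) : ℤ) ∣ ((3 * (q ^ 2 - 1) : ℕ) : ℤ) := Int.natCast_dvd_natCast.2 h4
        push_cast [Nat.cast_sub (show 1 ≤ q ^ 2 from Nat.one_le_pow _ _ (by omega))] at h6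
        exact h6
      obtain ⟨x, hx⟩ := (hpp.dvd_or_dvd h5).resolve_left hp3'
      obtain ⟨z, hz⟩ := hpn
      have hq2 : (p : ℤ) ∣ (q : ℤ) - 2 := ⟨x - z, by linear_combination hx - hz⟩
      obtain ⟨k, hk⟩ := hq2
      exact hp3' ⟨x - k * (q + 2), by linear_combination hx - ((q : ℤ) + 2) * hk⟩

theorem fix_card {v : G} (hv : IsMulti Ω v) (hva : v • a = a) (hvE : ∀ e ∈ E, Commute v e) :
    Nat.card {x : Ω // v • x = x} = q ^ 2 + 1 := by
  obtain ⟨y, ht⟩ := M.top_two hv hva hvE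
  exact ht.data.card_fix

/-- A two-group centralising a multi and `E`. -/
theorem card_cent_le {v : G} (hv : IsMulti Ω v) (hva : v • a = a) (hvE : ∀ e ∈ E, Commute v e)
    (K : Subgroup G) (hK : IsPGroup 2 K) (hKa : ∀ g ∈ K, g • a = a) (hKv : ∀ g ∈ K, Commute g v)
    (hKE : ∀ g ∈ K, ∀ e ∈ E, Commute g e) : Nat.card K ≤ q ^ 2 * Nat.card R := by
  classical
  haveI := M.crit.finite_points
  have hq4 := M.q4
  set S : Set Ω := {x | v • x = x ∧ x ≠ a} with hS
  have hScard : S.ncard = q ^ 2 := by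
    have h1 : ({x : Ω | v • x = x} : Set Ω).ncard = q ^ 2 + 1 := by
      rw [← Nat.card_coe_set_eq]; exact M.fix_card hv hva hvE
    rw [show S = {x : Ω | v • x = x} \ {a} from rfl, Set.ncard_sdiff (by simpa using hva), Set.ncard_singleton, h1,
      Nat.add_sub_cancel]
  obtain ⟨p, hp, hpa⟩ : S.Nonempty := Set.nonempty_of_ncard_ne_zero (by rw [hScard]; positivity)
  have hsub : orbit K p ⊆ S := by
    rintro _ ⟨g, rfl⟩
    refine ⟨?_, fun e => hpa (MulAction.injective (g : G) (e.trans (hKa g g.2).symm))⟩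
    show v • (g : G) • p = (g : G) • p
    rw [← mul_smul, ← (hKv g g.2).eq, mul_smul, hp]
  have hidx : (stabilizer K p).index ≤ q ^ 2 := by
    rw [index_stabilizer, ← hScard]
    exact Set.ncard_le_ncard hsub
  rw [← card_mul_index (stabilizer K p), mul_comm]
  exact Nat.mul_le_mul hidx (M.stab_le K hK hKa hKE hpa)

/-- No two-group at `a` centralising `E` has `q` times the order of `P`. -/
theorem not_big (K : Subgroup G) (hK : IsPGroup 2 K) (hKa : ∀ g ∈ K, g • a = a)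
    (hKE : ∀ g ∈ K, ∀ e ∈ E, Commute g e) : ¬ q * Nat.card P ∣ Nat.card K := by
  intro hbig
  obtain ⟨w, o, hw2, hw4, hwq, -, hq4', ho, -, hcase⟩ := M.count
  have h1 := hbig.trans (M.card_dvd K hK hKa hKE)
  rw [ho, M.cardP, show q * (q ^ 3 * Nat.card R) = q ^ 3 * Nat.card R * q by ring,
    show q ^ 3 * o * Nat.card R = q ^ 3 * Nat.card R * o by ring] at h1
  obtain ⟨j, hj⟩ := Nat.dvd_of_mul_dvd_mul_left (Nat.mul_pos (pow_pos (by have := M.q4; omega) 3) Nat.card_pos) h1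
  have hq4 := M.q4
  rcases hcase with ⟨hA, -⟩ | hB
  · have h3 : q ∣ q * q + 1 := ⟨j + 1, by rw [← hA, hj]; ring⟩
    have h4 := Nat.eq_one_of_dvd_one ((Nat.dvd_add_right (dvd_mul_right q q)).1 h3)
    omega
  · have h3 : (q : ℤ) ∣ (w : ℤ) - 2 := by
      have hB' : ((o : ℕ) : ℤ) = ((q : ℤ) - 1) * ((w : ℤ) - 1) + 1 := by
        rw [hB]
        push_cast [Nat.cast_sub (show 1 ≤ q by omega), Nat.cast_sub (show 1 ≤ w by omega)]
        ring
      have hj' : ((o : ℕ) : ℤ) = (q : ℤ) * j := by exact_mod_cast hj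
      exact ⟨(w : ℤ) - 1 - j, by linear_combination hB' - hj'⟩
    have := Int.le_of_dvd (by omega) h3
    omega

end TwoModel

end CfsgLib.AschCrit
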