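import Cfsg.Agent.Lib.Invol.AschCrit.EndTwo.Count

/-!
Owner: helper15. Aschbacher's criterion, end game of Suzuki type: `P / E` is the sum of `R`, `X / E` and `Q / E`.

* `TwoModel.indep`: independence.
* `TwoModel.mul_form`: the product of two decompositions.
-/

set_option autoImplicit false
set_option linter.unusedSectionVars false
set_option linter.style.haveILetI false

namespace CfsgLib.AschCrit

open Subgroup MulAction

universe u v

variable {G : Type u} [Group G] [Finite G] {Ω : Type v} [MulAction G Ω]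

namespace TwoModel

variable {D : Set G} {u : G} {a b : Ω} {E : Subgroup G} {q : ℕ} {P R X Q : Subgroup G} {η : G}
  (M : TwoModel D u a b E q P R X Q η)
include M

theorem uP : u ∈ P := M.mod.R_le M.mod.u_mem

theorem XP {x : G} (hx : x ∈ X) : x ∈ P := M.mod.X_le hx

theorem QP {y : G} (hy : y ∈ Q) : y ∈ P := M.mod.Q_le hy

theorem RP {r : G} (hr : r ∈ R) : r ∈ P := M.mod.R_le hr

theorem rinv {r : G} (hr : r ∈ R) : r⁻¹ = r := inv_eq_of_mul_eq_one_right (M.mod.R_sq r hr)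

theorem einv {e : G} (he : e ∈ E) : e⁻¹ = e := inv_eq_of_mul_eq_one_right (M.sqE he)

theorem R_inf_E {r : G} (hr : r ∈ R) (he : r ∈ E) : r = 1 :=
  M.semiregE he M.fr.data.ne.symm (M.fixR hr).2

/-- The decomposition is unique modulo `E`. -/
theorem indep {r x y : G} (hr : r ∈ R) (hx : x ∈ X) (hy : y ∈ Q) (h : r * x * y ∈ E) :
    r = 1 ∧ x ∈ E ∧ y ∈ E := by
  have hyu : Commute y u := (M.mod.Q_cent y hy).1
  have hgu : Commute (r * x * y) u :=
    (M.centE (M.uP) h).symm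
  have hru : Commute r u := M.commR hr M.mod.u_mem
  have hxu : Commute x u := by
    have h1 : Commute (r⁻¹ * (r * x * y) * y⁻¹) u := (hru.inv_left.mul_left hgu).mul_left hyu.inv_left
    rwa [show r⁻¹ * (r * x * y) * y⁻¹ = x by group] at h1
  have hxE : x ∈ E := M.mod.RX_ker u M.mod.u_mem M.u_ne x hx hxu.symm
  have hry : r * y ∈ E := by
    have h1 : r * y = r * x * y * x⁻¹ := by
      rw [mul_assoc (r * x), ← (M.centE (M.QP hy) (inv_mem hxE)).eq.symm]
      group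
    rw [h1]; exact mul_mem h (inv_mem hxE)
  have hyy : y * y = 1 := by
    have h1 := M.sqE hry
    have hc : Commute y r := (M.mod.Q_cent y hy).2 r hr
    rw [show r * y * (r * y) = r * (y * r) * y by group, hc.eq, show r * (r * y) * y = r * r * (y * y) by group,
      M.mod.R_sq r hr, one_mul] at h1
    exact h1
  have hyE : y ∈ E := M.mod.Q_sq_one y hy hyy
  refine ⟨M.R_inf_E hr ?_, hxE, hyE⟩
  have := mul_mem hry (inv_mem hyE)
  rwa [mul_inv_cancel_right] at this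

theorem commute_E {g e : G} (hg : g ∈ P) (he : e ∈ E) : g * e = e * g := (M.centE hg he).eq

/-- The product of two decompositions. -/
theorem mul_form {r r' x x' y y' : G} (hr : r ∈ R) (hr' : r' ∈ R) (hx : x ∈ X) (hx' : x' ∈ X) (hy : y ∈ Q)
    (hy' : y' ∈ Q) :
    ∃ e ∈ E, r * x * y * (r' * x' * y') = r * r' * (x * x') * (y * y') * e := by
  obtain ⟨e1, he1, h1⟩ : ∃ e ∈ E, x * r' = r' * x * e := by
    refine ⟨x⁻¹ * (r'⁻¹ * x * r'), ?_, by group⟩
    have h := M.mod.RX r' hr' x hx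
    rw [M.rinv hr'] at h
    rw [M.rinv hr']
    have hc : Commute x⁻¹ (r' * x * r' * x⁻¹) := M.mod.X_comm _ (inv_mem hx) _ (M.mod.E_X h)
    have h2 : x⁻¹ * (r' * x * r') = r' * x * r' * x⁻¹ := by
      calc x⁻¹ * (r' * x * r') = x⁻¹ * (r' * x * r' * x⁻¹) * x := by group
        _ = r' * x * r' * x⁻¹ := by rw [hc.eq]; group
    rw [h2]; exact h
  obtain ⟨e2, he2, h2⟩ : ∃ e ∈ E, y * x' = x' * y * e := by
    refine ⟨y⁻¹ * x'⁻¹ * y * x', ?_, by group⟩
    have h := M.mod.XQ x'⁻¹ (inv_mem hx') y hy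
    rw [inv_inv] at h
    have hc : Commute y (x'⁻¹ * y * x' * y⁻¹) := M.centE (M.QP hy) h
    rw [show y⁻¹ * x'⁻¹ * y * x' = y⁻¹ * ((x'⁻¹ * y * x' * y⁻¹) * y) by group, ← hc.eq, inv_mul_cancel_left]
    exact h
  refine ⟨e1 * e2, mul_mem he1 he2, ?_⟩
  have hyr : y * r' = r' * y := ((M.mod.Q_cent y hy).2 r' hr').eq
  calc r * x * y * (r' * x' * y') = r * x * (y * r') * x' * y' := by group
    _ = r * (x * r') * (y * x') * y' := by rw [hyr]; group
    _ = r * r' * x * (e1 * x') * (y * (e2 * y')) := by rw [h1, h2]; group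
    _ = r * r' * x * (x' * e1) * (y * (y' * e2)) := by
        rw [← M.commute_E (M.XP hx') he1, ← M.commute_E (M.QP hy') he2]
    _ = r * r' * (x * x') * ((e1 * (y * y')) * e2) := by group
    _ = r * r' * (x * x') * (y * y') * (e1 * e2) := by
        rw [← M.commute_E (mul_mem (M.QP hy) (M.QP hy')) he1]; group

theorem eta_pow_norm (j : ℕ) : (∀ x ∈ X, η ^ j * x * (η ^ j)⁻¹ ∈ X) ∧ (∀ y ∈ Q, η ^ j * y * (η ^ j)⁻¹ ∈ Q) ∧
    ∀ r ∈ R, η ^ j * r * (η ^ j)⁻¹ = r := by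
  induction j with
  | zero => exact ⟨fun x hx => by simpa using hx, fun y hy => by simpa using hy, fun r _ => by simp⟩
  | succ j ih =>
    have e : ∀ z : G, η ^ (j + 1) * z * (η ^ (j + 1))⁻¹ = η * (η ^ j * z * (η ^ j)⁻¹) * η⁻¹ := fun z => by
      rw [pow_succ']; group
    refine ⟨fun x hx => ?_, fun y hy => ?_, fun r hr => ?_⟩
    · rw [e]; exact M.mod.h_norm.2.1 _ (ih.1 x hx)
    · rw [e]; exact M.mod.h_norm.2.2 _ (ih.2.1 y hy)
    · rw [e, ih.2.2 r hr, (M.mod.h_cent.2 r hr).eq, mul_inv_cancel_right]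

theorem eta_P (j : ℕ) {g : G} (hg : g ∈ P) : η ^ j * g * (η ^ j)⁻¹ ∈ P := by
  obtain ⟨r, hr, x, hx, y, hy, rfl⟩ := M.mod.gen g hg
  rw [show η ^ j * (r * x * y) * (η ^ j)⁻¹ =
    η ^ j * r * (η ^ j)⁻¹ * (η ^ j * x * (η ^ j)⁻¹) * (η ^ j * y * (η ^ j)⁻¹) by group, (M.eta_pow_norm j).2.2 r hr]
  exact mul_mem (mul_mem (M.RP hr) (M.XP ((M.eta_pow_norm j).1 x hx))) (M.QP ((M.eta_pow_norm j).2.1 y hy))

end TwoModel

end CfsgLib.AschCrit
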