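import Cfsg.Agent.Lib.Invol.AschCrit.EndOne.Two
import Cfsg.Agent.Lib.Invol.AschCrit.ModelDef
import Cfsg.Agent.Lib.Invol.AschCrit.AffineDef

/-!
Owner: helper15. Aschbacher's criterion, end game of Suzuki type: the input.

`SuzukiSwap` sharpens `SuzukiBound`: the number of the swappers' points lies in one torus.
-/

set_option autoImplicit false
set_option linter.unusedSectionVars false

namespace CfsgLib.AschCrit

universe u v

variable {G : Type u} [Group G] {Ω : Type v} [MulAction G Ω]

/-- The swappers' points in Suzuki type: their number divides a torus order or is small. -/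
def SuzukiSwap (Ω : Type v) [MulAction G Ω] (D : Set G) : Prop :=
  ∀ (u : G) (a b : Ω) (E : Subgroup G) (q : ℕ), TopFrame D u a b E q 2 →
    ∀ t ∈ D, Commute t u → t • a = b →
      ∃ w : ℕ, w * w = 2 * q ∧ (Nat.card (swapPoints D (u * t) a b) ∣ q - 1 ∨
        Nat.card (swapPoints D (u * t) a b) ∣ q + w + 1 ∨ Nat.card (swapPoints D (u * t) a b) + w ≤ q + 1)

/-- The statements of the other slices used by the end game of Suzuki type. -/
structure TwoInput [Finite G] (Ω : Type v) [MulAction G Ω] (D : Set G) : Prop extends OneInput Ω D where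
  swap : SuzukiSwap Ω D
  up : UnitaryPrimes Ω D
  mx : ModelExists Ω D
  np : NoPairing Ω D
  aff : TranslationsOrEight.{u}

/-- A model of Suzuki type. -/
structure TwoModel [Finite G] (D : Set G) (u : G) (a b : Ω) (E : Subgroup G) (q : ℕ) (P R X Q : Subgroup G) (η : G) :
    Prop where
  inp : TwoInput Ω D
  fr : Frame D u a b E q 2
  trans : HasTrans u a E
  mod : ModelAt D u a b E q 2 P R X Q η

end CfsgLib.AschCrit
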