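import Mathlib
import Cfsg.Agent.Lib.Invol.AschCrit.ToolsDef

/-!
Owner: helper15. Aschbacher's criterion, end game of Suzuki type: the field of a Singer cycle.
-/

set_option autoImplicit false
set_option linter.style.haveILetI false

namespace CfsgLib.AschCrit.EndTwo

universe v

/-- A Singer cycle is the multiplication by a generator of the units of a field of characteristic two. -/
theorem exists_field (V : Type v) [AddCommGroup V] [Finite V] (c : V ≃+ V) (hc : Singer c) (x₀ : V) (hx₀ : x₀ ≠ 0) :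
    ∃ (F : Type v) (_ : Field F) (_ : Finite F) (_ : CharP F 2) (e : V ≃+ F) (t : F),
      e x₀ = 1 ∧ (∀ x, e (c x) = t * e x) ∧ ∀ z : F, z ≠ 0 → ∃ j : ℕ, t ^ j = z := by
  classical
  let cE : AddMonoid.End V := c.toAddMonoidHom
  let R : Subring (AddMonoid.End V) := Subring.centralizer {cE}
  have hR : ∀ f : AddMonoid.End V, f ∈ R ↔ ∀ x : V, f (c x) = c (f x) := by
    intro f
    show f ∈ Subring.centralizer {cE} ↔ _
    rw [Subring.mem_centralizer_iff]
    constructor
    · intro h x
      exact (DFunLike.congr_fun (h cE rfl) x).symm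
    · rintro h g rfl
      exact AddMonoidHom.ext fun x => (h x).symm
  have hit : ∀ (f : R) (j : ℕ) (x : V),
      (f : AddMonoid.End V) ((⇑c)^[j] x) = (⇑c)^[j] ((f : AddMonoid.End V) x) := by
    intro f j
    induction j with
    | zero => intro x; rfl
    | succ j ih => intro x; rw [Function.iterate_succ_apply', Function.iterate_succ_apply', (hR _).mp f.2, ih]
  have hinj : ∀ f g : R, (f : AddMonoid.End V) x₀ = (g : AddMonoid.End V) x₀ → f = g := by
    intro f g e
    refine Subtype.ext (AddMonoidHom.ext fun x => ?_)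
    by_cases hx : x = 0
    · subst hx
      exact (map_zero (f : AddMonoid.End V)).trans (map_zero (g : AddMonoid.End V)).symm
    · obtain ⟨j, rfl⟩ := hc.2 x₀ x hx₀ hx
      exact (hit f j x₀).trans ((congrArg _ e).trans (hit g j x₀).symm)
  have hcR : ∀ j : ℕ, (cE ^ j) ∈ R := fun j => pow_mem ((hR _).mpr fun x => rfl) j
  have hcpow : ∀ (j : ℕ) (x : V), (cE ^ j) x = (⇑c)^[j] x := fun j x => by
    rw [AddMonoid.End.coe_pow]; rfl
  have hsurj : ∀ x : V, ∃ f : R, (f : AddMonoid.End V) x₀ = x := by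
    intro x
    by_cases hx : x = 0
    · exact ⟨0, hx ▸ rfl⟩
    · obtain ⟨j, hj⟩ := hc.2 x₀ x hx₀ hx
      exact ⟨⟨_, hcR j⟩, (hcpow j x₀).trans hj⟩
  let ev : R ≃+ V :=
    { Equiv.ofBijective (fun f : R => (f : AddMonoid.End V) x₀) ⟨fun f g e => hinj f g e, hsurj⟩ with
      map_add' := fun f g => rfl }
  have hev : ∀ f : R, ev f = (f : AddMonoid.End V) x₀ := fun f => rfl
  haveI : Finite R := Finite.of_equiv V ev.symm
  have hcases : ∀ f : R, f = 0 ∨ ∃ j, f = ⟨_, hcR j⟩ := by
    intro f
    by_cases hx : (f : AddMonoid.End V) x₀ = 0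
    · exact Or.inl (hinj f 0 hx)
    · obtain ⟨j, hj⟩ := hc.2 x₀ _ hx₀ hx
      exact Or.inr ⟨j, hinj f _ (hj.symm.trans (hcpow j x₀).symm)⟩
  letI : CommRing R :=
    { (inferInstance : Ring R) with
      mul_comm := fun f g => by
        rcases hcases f with rfl | ⟨i, rfl⟩
        · exact (zero_mul g).trans (mul_zero g).symm
        rcases hcases g with rfl | ⟨j, rfl⟩
        · exact (mul_zero _).trans (zero_mul _).symm
        exact Subtype.ext (pow_mul_comm cE i j) }
  haveI : Nontrivial R := ⟨⟨0, 1, fun e => hx₀ (congrArg (fun f : R => (f : AddMonoid.End V) x₀) e).symm⟩⟩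
  haveI : NoZeroDivisors R := ⟨fun {f g} e => by
    rcases hcases f with hf | ⟨i, rfl⟩
    · exact Or.inl hf
    rcases hcases g with hg | ⟨j, rfl⟩
    · exact Or.inr hg
    exfalso
    have h1 : (cE ^ i) ((cE ^ j) x₀) = 0 := congrArg (fun f : R => (f : AddMonoid.End V) x₀) e
    rw [hcpow, hcpow, ← Function.iterate_add_apply] at h1
    exact hx₀ (c.injective.iterate (i + j) (h1.trans (Function.iterate_fixed (map_zero c) _).symm))⟩
  haveI : IsDomain R := NoZeroDivisors.to_isDomain R
  letI : Field R := (Finite.isField_of_domain R).toField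
  haveI : CharP R 2 := by
    refine CharTwo.of_one_ne_zero_of_two_eq_zero one_ne_zero ?_
    rw [← one_add_one_eq_two]
    exact hinj _ 0 (hc.1 x₀)
  refine ⟨R, inferInstance, inferInstance, inferInstance, ev.symm, ⟨cE, by simpa using hcR 1⟩, ?_, ?_, ?_⟩
  · rw [AddEquiv.symm_apply_eq]; rfl
  · intro x
    rw [AddEquiv.symm_apply_eq]
    show c x = cE ((ev.symm x : AddMonoid.End V) x₀)
    rw [← hev, AddEquiv.apply_symm_apply]
    rfl
  · intro z hz
    rcases hcases z with h | ⟨j, hj⟩
    · exact absurd h hz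
    · exact ⟨j, hj.symm ▸ Subtype.ext (SubmonoidClass.coe_pow _ j)⟩

end CfsgLib.AschCrit.EndTwo
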