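import Cfsg.Agent.Lib.Invol.AschCrit.EndTwo.Torus

/-!
Owner: helper15. Aschbacher's criterion, end game of Suzuki type: without a pairing the class `u E` is invariant.

The images of `(1, 0, 0)` are roots with first coordinate one, one for each element of the field. They form an
affine space; were there translations, a two-group `q` times as large as `P` would centralise `E`.
-/

set_option autoImplicit false
set_option linter.unusedSectionVars false
set_option linter.style.haveILetI false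

namespace CfsgLib.AschCrit

open Subgroup MulAction

universe u v

namespace EndTwo.Coord

variable {F : Type v} [Field F] (K : Coord F)

open _root_.Classical in
/-- The parameter of a root with first coordinate one. -/
noncomputable def crd (v : F × F × F) : F := if K.lam = 1 then v.2.1 else v.2.2

open _root_.Classical in
/-- The root with first coordinate one and a given parameter. -/
noncomputable def pos (z : F) : F × F × F :=
  if K.lam = 1 then (1, z, 0) else (1, K.θ z * z / (1 + K.lam), z)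

open _root_.Classical in
/-- The norm of a parameter. -/
noncomputable def nrm (z : F) : F := if K.lam = 1 then z else K.θ z * z

theorem crd_add (v w : F × F × F) : K.crd (v + w) = K.crd v + K.crd w := by
  simp only [crd]; split_ifs <;> rfl

theorem crd_pos (z : F) : K.crd (K.pos z) = z := by
  by_cases h : K.lam = 1 <;> simp [crd, pos, h]

theorem vec_pos (z : F) : K.Vec (K.pos z) := by
  by_cases h : K.lam = 1 <;> simp [Vec, pos, h, K.one_mem]

theorem pos_fst (z : F) : (K.pos z).1 = 1 := by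
  by_cases h : K.lam = 1 <;> simp [pos, h]

theorem pos_zero : K.pos 0 = (1, 0, 0) := by
  by_cases h : K.lam = 1 <;> simp [pos, h]

variable [CharP F 2]

theorem one_add_lam_ne (h : K.lam ≠ 1) : 1 + K.lam ≠ 0 := fun e => h (CharTwo.add_eq_zero.1 e).symm

theorem sq_pos (hc : K.c = 0) (z : F) : K.sq (K.pos z) = 0 := by
  by_cases h : K.lam = 1
  · simp [sq, pos, h, hc, CharTwo.add_self_eq_zero]
  · simp only [sq, pos, if_neg h, hc, zero_mul, add_zero]
    rw [mul_div_cancel₀ _ (K.one_add_lam_ne h), CharTwo.add_self_eq_zero]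

theorem eq_pos (hc : K.c = 0) {v : F × F × F} (h1 : v.1 = 1) (h0 : K.sq v = 0) : v = K.pos (K.crd v) := by
  obtain ⟨a, x, y⟩ := v
  dsimp only at h1
  subst h1
  simp only [sq, hc, zero_mul, add_zero] at h0
  by_cases h : K.lam = 1
  · rw [h, CharTwo.add_self_eq_zero, zero_mul, zero_add, mul_eq_zero, EmbeddingLike.map_eq_zero_iff, or_self] at h0
    simp [pos, crd, h, h0]
  · simp only [pos, crd, if_neg h]
    refine Prod.ext rfl (Prod.ext ?_ rfl)
    rw [eq_div_iff (K.one_add_lam_ne h)]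
    linear_combination h0 - (K.θ y * y) * (two_eq (F := F))

theorem nrm_inj {z w : F} (h : K.nrm z = K.nrm w) : z = w := by
  by_cases hl : K.lam = 1
  · simpa [nrm, hl] using h
  · simp only [nrm, if_neg hl] at h
    exact K.theta_injOn h

end EndTwo.Coord

variable {G : Type u} [Group G] [Finite G] {Ω : Type v} [MulAction G Ω]
variable {D : Set G} {u : G} {a b : Ω} {E : Subgroup G} {q : ℕ} {P R X Q : Subgroup G} {η : G}
variable {F : Type u} [Field F] [CharP F 2] {K : EndTwo.Coord F} {ρ : G → F × F × F} {ε : G → F}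

/-- The action on the parameters. -/
noncomputable def ppar (P : Subgroup G) (ρ : G → F × F × F) (K : EndTwo.Coord F) (n : G) (z : F) : F :=
  K.crd (pact P ρ n (K.pos z))

namespace Coords

variable (C : Coords P R E u η q K ρ ε) (M : TwoModel D u a b E q P R X Q η) [Finite F]
  (hR : Nat.card R = 2) (hc : K.c = 0)
include C M hR hc

theorem act_pos {n : G} (hn : n ∈ normGrp P a) (z : F) :
    pact P ρ n (K.pos z) = K.pos (ppar P ρ K n z) := by
  refine K.eq_pos hc ?_ ?_
  · rw [C.act_fst M hR hc hn (K.vec_pos z), K.pos_fst]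
  · rw [C.sq_act M hn (K.vec_pos z), K.sq_pos hc, C.gam_zero M]

theorem par_mul {n m : G} (hn : n ∈ normGrp P a) (hm : m ∈ normGrp P a) (z : F) :
    ppar P ρ K (n * m) z = ppar P ρ K n (ppar P ρ K m z) := by
  rw [ppar, C.act_mul M hn hm (K.vec_pos z), C.act_pos M hR hc hm]; rfl

theorem par_one (z : F) : ppar P ρ K 1 z = z := by
  rw [ppar, C.act_one M (K.vec_pos z), K.crd_pos]

theorem par_zero_iff {n : G} (hn : n ∈ normGrp P a) : ppar P ρ K n 0 = 0 ↔ u⁻¹ * (n * u * n⁻¹) ∈ E := by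
  rw [← C.act_u_iff M hn, ← K.pos_zero, C.act_pos M hR hc hn]
  exact ⟨fun h => by rw [h], fun h => by simpa [K.crd_pos] using congrArg K.crd h⟩

/-- The images of `(0, 0, z)`. -/
theorem act_y {n : G} (hn : n ∈ normGrp P a) (z : F) :
    (pact P ρ n (0, 0, z)).1 = 0 ∧
    (pact P ρ n (0, 0, z)).2.1 + (K.θ (pact P ρ n (1, 0, 0)).2.2 * (pact P ρ n (0, 0, z)).2.2 +
      K.θ (pact P ρ n (0, 0, z)).2.2 * (pact P ρ n (1, 0, 0)).2.2) = 0 ∧
    K.lam * (pact P ρ n (0, 0, z)).2.1 + K.θ (pact P ρ n (0, 0, z)).2.2 * (pact P ρ n (0, 0, z)).2.2 =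
      pgam E ε n (K.θ z * z) := by
  have hu : K.Vec ((1, 0, 0) : F × F × F) := K.one_mem
  have hz : K.Vec ((0, 0, z) : F × F × F) := K.A.zero_mem
  have h1 := C.act_fst M hR hc hn hz
  refine ⟨h1, ?_, ?_⟩
  · have h := C.pol_act M hn hu hz
    simpa [EndTwo.Coord.pol, C.act_fst M hR hc hn hu, h1, hc, C.gam_zero M] using h
  · have h := C.sq_act M hn hz
    simpa [EndTwo.Coord.sq, h1, hc] using h

/-- A stabiliser of zero acts as on `E`. -/
theorem nrm_par {n : G} (hn : n ∈ normGrp P a) (hn0 : u⁻¹ * (n * u * n⁻¹) ∈ E) (z : F) :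
    K.nrm (ppar P ρ K n z) = pgam E ε n (K.nrm z) := by
  have hu : K.Vec ((1, 0, 0) : F × F × F) := K.one_mem
  have hfix := (C.act_u_iff M hn).2 hn0
  by_cases hl : K.lam = 1
  · have e : K.pos z = ((1, 0, 0) : F × F × F) + (0, z, 0) := by simp [EndTwo.Coord.pos, hl]
    simp only [ppar, EndTwo.Coord.nrm, if_pos hl, e,
      C.act_add M hn hu (show K.Vec ((0, z, 0) : F × F × F) from K.A.zero_mem), hfix, C.act_x M hR hc hn]
    simp [EndTwo.Coord.crd, hl]
  · set x := K.θ z * z / (1 + K.lam)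
    have hx : K.Vec ((0, x, 0) : F × F × F) := K.A.zero_mem
    have hz : K.Vec ((0, 0, z) : F × F × F) := K.A.zero_mem
    have e : K.pos z = ((1, 0, 0) : F × F × F) + (0, x, 0) + (0, 0, z) := by simp [EndTwo.Coord.pos, hl, x]
    obtain ⟨-, h2, h3⟩ := C.act_y M hR hc hn z
    simp only [hfix, map_zero, mul_zero, zero_mul, add_zero] at h2
    rw [h2, mul_zero, zero_add] at h3
    simp only [ppar, EndTwo.Coord.nrm, if_neg hl, e,
      C.act_add M hn (show K.Vec (((1, 0, 0) : F × F × F) + (0, x, 0)) from K.A.add_mem K.one_mem K.A.zero_mem) hz,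
      C.act_add M hn hu hx, hfix, C.act_x M hR hc hn]
    simpa [EndTwo.Coord.crd, hl] using h3

/-- The action on the parameters is affine. -/
theorem par_add {n : G} (hn : n ∈ normGrp P a) (z w : F) :
    ppar P ρ K n (z + w) = ppar P ρ K n z + ppar P ρ K n w + ppar P ρ K n 0 := by
  set s := K.pos (z + w) + K.pos z + (K.pos w + K.pos 0) with hs
  have hv := K.vec_pos
  have hsx : ∃ x, s = (0, x, 0) ∧ (K.lam = 1 → x = 0) := by
    by_cases hl : K.lam = 1
    · refine ⟨0, ?_, fun _ => rfl⟩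
      simp only [hs, EndTwo.Coord.pos, if_pos hl, Prod.mk_add_mk]
      refine Prod.ext ?_ (Prod.ext ?_ ?_) <;> simp [CharTwo.add_self_eq_zero]
      linear_combination (z + w) * (CharTwo.two_eq_zero (R := F))
    · refine ⟨s.2.1, ?_, fun h => absurd h hl⟩
      refine Prod.ext ?_ (Prod.ext rfl ?_)
      · simp [hs, EndTwo.Coord.pos, hl, CharTwo.add_self_eq_zero]
      · simp [hs, EndTwo.Coord.pos, hl, CharTwo.add_self_eq_zero]
        linear_combination (z + w) * (CharTwo.two_eq_zero (R := F))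
  obtain ⟨x, hsx, hx0⟩ := hsx
  have hcrd : K.crd (pact P ρ n s) = 0 := by
    rw [hsx, C.act_x M hR hc hn]
    by_cases hl : K.lam = 1
    · rw [hx0 hl, C.gam_zero M]; simp [EndTwo.Coord.crd, hl]
    · simp [EndTwo.Coord.crd, hl]
  rw [hs, C.act_add M hn (show K.Vec (K.pos (z + w) + K.pos z) from K.A.add_mem (hv _) (hv _))
      (show K.Vec (K.pos w + K.pos 0) from K.A.add_mem (hv _) (hv _)), C.act_add M hn (hv _) (hv _),
    C.act_add M hn (hv _) (hv _), K.crd_add, K.crd_add, K.crd_add] at hcrd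
  simp only [ppar]
  linear_combination hcrd - (K.crd (pact P ρ n (K.pos z)) + K.crd (pact P ρ n (K.pos w)) +
    K.crd (pact P ρ n (K.pos 0))) * (CharTwo.two_eq_zero (R := F))

/-- An element centralising `E` fixes the class. -/
theorem fix_of_cent {n : G} (hn : n ∈ normGrp P a) (hnE : ∀ e ∈ E, Commute n e) :
    u⁻¹ * (n * u * n⁻¹) ∈ E := by
  classical
  haveI := Fact.mk Nat.prime_two
  rw [← C.par_zero_iff M hR hc hn]
  by_contra hne
  set K0 : Subgroup G := normGrp P a ⊓ centralizer (E : Set G)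
  have hK0 : ∀ g, g ∈ K0 ↔ g ∈ normGrp P a ∧ ∀ e ∈ E, Commute g e := fun g =>
    ⟨fun h => ⟨h.1, fun e he => (mem_centralizer_iff.1 h.2 e he).symm⟩,
      fun h => ⟨h.1, mem_centralizer_iff.2 fun e he => (h.2 e he).symm.eq⟩⟩
  letI : MulAction K0 F :=
    { smul := fun g z => ppar P ρ K (g : G) z
      one_smul := fun z => C.par_one M hR hc z
      mul_smul := fun g h z => C.par_mul M hR hc g.2.1 h.2.1 z }
  have hsmul : ∀ (g : K0) (z : F), g • z = ppar P ρ K (g : G) z := fun _ _ => rfl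
  -- the orbit is everything
  have hscale : ∀ s : F, s ≠ 0 → ∀ v : F × F × F, K.crd (K.scale s v) =
      (if K.lam = 1 then K.θ s * s else s) * K.crd v := fun s _ v => by
    by_cases hl : K.lam = 1 <;> simp [EndTwo.Coord.crd, EndTwo.Coord.scale, hl]
  have horb : ∀ z : F, z ∈ orbit K0 (0 : F) := by
    intro z
    rcases eq_or_ne z 0 with rfl | hz
    · exact mem_orbit_self _
    obtain ⟨s, hs0, hs⟩ : ∃ s : F, s ≠ 0 ∧ (if K.lam = 1 then K.θ s * s else s) = z / ppar P ρ K n 0 := by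
      have hd : z / ppar P ρ K n 0 ≠ 0 := div_ne_zero hz hne
      by_cases hl : K.lam = 1
      · obtain ⟨s, hs⟩ := (Finite.injective_iff_surjective.1 (fun y y' h => K.theta_injOn h) :
          Function.Surjective fun t => K.θ t * t) (z / ppar P ρ K n 0)
        exact ⟨s, fun e => hd (by rw [← hs]; simp [e]), by rw [if_pos hl]; exact hs⟩
      · exact ⟨_, hd, if_neg hl⟩
    obtain ⟨j, hj, -⟩ := C.act_eta M s hs0
    have hη := M.eta_normGrp (D := D) j
    have hm : η ^ j * n * (η ^ j)⁻¹ ∈ K0 := (hK0 _).2 ⟨mul_mem (mul_mem hη hn) (inv_mem hη), fun e he => by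
      have h1 := M.norm_E (inv_mem hη) he
      rw [inv_inv] at h1
      have h2 := (Commute.conj_iff (η ^ j)).2 (hnE _ h1)
      rwa [show η ^ j * ((η ^ j)⁻¹ * e * η ^ j) * (η ^ j)⁻¹ = e by group] at h2⟩
    refine ⟨⟨_, hm⟩, ?_⟩
    have hfix : ppar P ρ K (η ^ j)⁻¹ 0 = 0 := by
      have h0 : ppar P ρ K (η ^ j) 0 = 0 := by
        rw [ppar, hj _ (K.vec_pos 0), hscale s hs0, K.crd_pos, mul_zero]
      conv_lhs => rw [← h0]
      rw [← C.par_mul M hR hc (inv_mem hη) hη, inv_mul_cancel, C.par_one M hR hc]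
    show ppar P ρ K (η ^ j * n * (η ^ j)⁻¹) 0 = z
    rw [C.par_mul M hR hc (mul_mem hη hn) (inv_mem hη), hfix, C.par_mul M hR hc hη hn]
    show K.crd (pact P ρ (η ^ j) (K.pos (ppar P ρ K n 0))) = z
    rw [hj _ (K.vec_pos _), hscale s hs0, K.crd_pos, hs, div_mul_cancel₀ _ hne]
  -- the stabiliser contains `P`
  have hidx : (stabilizer K0 (0 : F)).index = q := by
    rw [index_stabilizer, show orbit K0 (0 : F) = Set.univ from Set.eq_univ_of_forall horb, Set.ncard_univ, C.card_F]
  have hPK : P ≤ K0 := fun g hg => (hK0 g).2 ⟨M.P_le_normGrp hg, fun e he => M.centE hg he⟩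
  have hPst : Nat.card P ∣ Nat.card (stabilizer K0 (0 : F)) := by
    rw [← Nat.card_congr (subgroupOfEquivOfLe hPK).toEquiv]
    refine card_dvd_of_le fun g hg => mem_stabilizer_iff.2 ?_
    rw [hsmul, ppar, C.act_P M (mem_subgroupOf.1 hg) (K.vec_pos 0), K.crd_pos]
  have hdvd : q * Nat.card P ∣ Nat.card K0 := by
    rw [← card_mul_index (stabilizer K0 (0 : F)), hidx, mul_comm q]
    exact Nat.mul_dvd_mul_right hPst q
  obtain ⟨s, -, hs⟩ := M.fr.data.pow
  obtain ⟨k, hk⟩ := IsPGroup.iff_card.1 M.mod.two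
  obtain ⟨L, hL⟩ := Sylow.exists_subgroup_card_pow_prime (G := K0) 2 (n := s + k)
    (by rw [pow_add, ← hs, ← hk]; exact hdvd)
  refine M.not_big (L.map K0.subtype) ((IsPGroup.of_card hL).map _) (fun g hg => ?_) (fun g hg e he => ?_) ?_
  · exact mem_stabilizer_iff.1 ((hK0 g).1 (map_subtype_le _ hg)).1.1
  · exact ((hK0 g).1 (map_subtype_le _ hg)).2 e he
  · rw [card_map_of_injective K0.subtype_injective, hL, pow_add, ← hs, ← hk]

/-- On eight points a two-element centralises `E`. -/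
theorem cent_eight (h8 : q = 8) : ∀ k : ℕ, ∀ n ∈ normGrp P a, n ^ 2 ^ k = 1 → ∀ e ∈ E, Commute n e := by
  intro k
  induction k with
  | zero => intro n _ hn1 e _; rw [pow_zero, pow_one] at hn1; rw [hn1]; exact Commute.one_left e
  | succ k ih =>
    intro n hn hnk
    have h2 := ih (n * n) (mul_mem hn hn) (by rw [← pow_two, ← pow_mul, ← pow_succ']; exact hnk)
    rw [← C.gam_eq_id_iff M (mul_mem hn hn)] at h2
    rw [← C.gam_eq_id_iff M hn]
    have hgg : ∀ z, pgam E ε n (pgam E ε n z) = z := fun z => (C.gam_mul M hn z).symm.trans (h2 z)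
    have hF : Nat.card F = 8 := C.card_F.trans h8
    let γ : F →+ F := AddMonoidHom.mk' (pgam E ε n) (C.gam_add M hn)
    by_cases hl : K.lam = 0 ∨ K.lam = 1
    · -- the norms
      set A : F → F := fun z => (pact P ρ n (0, 0, z)).2.2 with hAdef
      have hA : ∀ z, K.θ (A z) * A z = pgam E ε n (K.θ z * z) := fun z => by
        obtain ⟨-, h3, h4⟩ := C.act_y M hR hc hn z
        rcases hl with hl | hl
        · rwa [hl, zero_mul, zero_add] at h4
        · have hw : (pact P ρ n (1, 0, 0)).2.2 = 0 := by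
            rw [← K.pos_zero, C.act_pos M hR hc hn]; simp [EndTwo.Coord.pos, hl]
          simp only [hw, map_zero, mul_zero, zero_mul, add_zero] at h3
          rwa [h3, mul_zero, zero_add] at h4
      have hAadd : ∀ z w, A (z + w) = A z + A w := fun z w => by
        have h := C.act_add M hn (show K.Vec ((0, 0, z) : F × F × F) from K.A.zero_mem)
          (show K.Vec ((0, 0, w) : F × F × F) from K.A.zero_mem)
        simp only [Prod.mk_add_mk, add_zero] at h
        exact congrArg (fun p : F × F × F => p.2.2) h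
      have hAA : ∀ z, A (A z) = z := fun z => K.theta_injOn (by rw [hA, hA, hgg])
      have hid := K.eight_norm hF (AddMonoidHom.mk' A hAadd) γ hAA hA
      intro z
      obtain ⟨t, rfl⟩ := (Finite.injective_iff_surjective.1 (fun y y' h => K.theta_injOn h) :
        Function.Surjective fun t => K.θ t * t) z
      rw [← hA t, show A t = t from hid t]
    · push Not at hl
      obtain ⟨e, he, hfix⟩ : ∃ e : F, e ≠ 0 ∧ γ e = e := by
        by_cases h1 : pgam E ε n 1 = 1
        · exact ⟨1, one_ne_zero, h1⟩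
        · refine ⟨1 + pgam E ε n 1, fun e => h1 (CharTwo.add_eq_zero.1 e).symm, ?_⟩
          show pgam E ε n _ = _
          rw [C.gam_add M hn, hgg, add_comm]
      refine EndTwo.Coord.eight_scalar hF γ K.lam hl.1 hl.2 (fun x => ?_) he hfix
      have h := C.sq_act M hn (show K.Vec ((0, x, 0) : F × F × F) from K.A.zero_mem)
      simpa [EndTwo.Coord.sq, C.act_x M hR hc hn x, hc, γ] using h.symm

/-- An element inducing a translation centralises `E`. -/
theorem cent_translation {n : G} (hn : n ∈ normGrp P a) {w : F} (ht : ∀ z, ppar P ρ K n z = z + w) :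
    ∀ e ∈ E, Commute n e := by
  classical
  have hu : K.Vec ((1, 0, 0) : F × F × F) := K.one_mem
  rw [← C.gam_eq_id_iff M hn]
  have hw : pact P ρ n (1, 0, 0) = K.pos w := by rw [← K.pos_zero, C.act_pos M hR hc hn, ht, zero_add]
  by_cases hl : K.lam = 1
  · intro x
    have h := ht x
    have e : K.pos x = ((1, 0, 0) : F × F × F) + (0, x, 0) := by simp [EndTwo.Coord.pos, hl]
    rw [ppar, e, C.act_add M hn hu (show K.Vec ((0, x, 0) : F × F × F) from K.A.zero_mem), hw,
      C.act_x M hR hc hn, K.crd_add, K.crd_pos] at h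
    simp only [EndTwo.Coord.crd, if_pos hl] at h
    linear_combination h
  · have hy : ∀ y, (pact P ρ n (0, 0, y)).2.2 = y := fun y => by
      set x := K.θ y * y / (1 + K.lam)
      have hx : K.Vec ((0, x, 0) : F × F × F) := K.A.zero_mem
      have h := ht y
      have e : K.pos y = ((1, 0, 0) : F × F × F) + (0, x, 0) + (0, 0, y) := by simp [EndTwo.Coord.pos, hl, x]
      rw [ppar, e, C.act_add M hn (show K.Vec (((1, 0, 0) : F × F × F) + (0, x, 0)) from
        K.A.add_mem K.one_mem K.A.zero_mem) (show K.Vec ((0, 0, y) : F × F × F) from K.A.zero_mem),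
        C.act_add M hn hu hx, hw, C.act_x M hR hc hn, K.crd_add, K.crd_add, K.crd_pos] at h
      simp only [EndTwo.Coord.crd, if_neg hl] at h
      linear_combination h
    have hwy : (K.pos w).2.2 = w := by simp [EndTwo.Coord.pos, hl]
    have key : ∀ y, pgam E ε n (K.θ y * y) = K.θ y * y + K.lam * (K.θ w * y + K.θ y * w) := fun y => by
      obtain ⟨-, h3, h4⟩ := C.act_y M hR hc hn y
      rw [hy, hw, hwy] at h3
      rw [hy] at h4
      linear_combination -h4 + K.lam * h3 - K.lam * (K.θ w * y + K.θ y * w) * (CharTwo.two_eq_zero (R := F))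
    have hpol : ∀ y y', pgam E ε n (K.θ y * y' + K.θ y' * y) = K.θ y * y' + K.θ y' * y := fun y y' => by
      have h := key (y + y')
      rw [show K.θ (y + y') * (y + y') = K.θ y * y + K.θ y' * y' + (K.θ y * y' + K.θ y' * y) by rw [map_add]; ring,
        C.gam_add M hn, C.gam_add M hn, key y, key y', map_add] at h
      linear_combination h
    intro z
    obtain ⟨t, ht0, ht1⟩ : ∃ t : F, t ≠ 0 ∧ t ≠ 1 := by
      by_contra! hall
      have hsub : (Set.univ : Set F) ⊆ {0, 1} := fun x _ => (em (x = 0)).imp id (hall x)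
      have h := (Set.ncard_le_ncard hsub).trans ((Set.ncard_insert_le _ _).trans (by rw [Set.ncard_singleton]))
      rw [Set.ncard_univ, C.card_F] at h
      have := M.q8
      omega
    obtain ⟨s, hs⟩ := (Finite.injective_iff_surjective.1 (fun y y' h => K.theta_injOn h) :
      Function.Surjective fun t => K.θ t * t) (z / (K.θ t + t))
    have h := hpol s (s * t)
    rwa [map_mul, show K.θ s * (s * t) + K.θ s * K.θ t * s = K.θ s * s * (K.θ t + t) by ring,
      show K.θ s * s = z / (K.θ t + t) from hs, div_mul_cancel₀ _ (K.theta_add_self_ne ht0 ht1)] at h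

/-- Without a pairing the two-elements fix the class. -/
theorem fix_of_two {n : G} (hn : n ∈ normGrp P a) (hk : ∃ k : ℕ, n ^ 2 ^ k = 1) :
    u⁻¹ * (n * u * n⁻¹) ∈ E := by
  classical
  by_contra hne
  rcases eq_or_ne q 8 with h8 | h8
  · obtain ⟨k, hk⟩ := hk
    exact hne (C.fix_of_cent M hR hc hn (C.cent_eight M hR hc h8 k n hn hk))
  let perm : normGrp P a →* Equiv.Perm F := MonoidHom.mk' (fun g =>
    { toFun := ppar P ρ K (g : G)
      invFun := ppar P ρ K (g⁻¹ : normGrp P a)
      left_inv := fun z => by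
        show ppar P ρ K ((g⁻¹ : normGrp P a) : G) (ppar P ρ K (g : G) z) = z
        rw [← C.par_mul M hR hc (g⁻¹).2 g.2, ← Subgroup.coe_mul, inv_mul_cancel, Subgroup.coe_one,
          C.par_one M hR hc]
      right_inv := fun z => by
        show ppar P ρ K (g : G) (ppar P ρ K ((g⁻¹ : normGrp P a) : G) z) = z
        rw [← C.par_mul M hR hc g.2 (g⁻¹).2, ← Subgroup.coe_mul, mul_inv_cancel, Subgroup.coe_one,
          C.par_one M hR hc] })
    (fun g h => Equiv.ext fun z => C.par_mul M hR hc g.2 h.2 z)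
  have hperm : ∀ (g : normGrp P a) (z : F), perm g z = ppar P ρ K (g : G) z := fun _ _ => rfl
  obtain ⟨τ, τ', hT, hτ', hτ'u, hτpow, hnorm⟩ := M.exists_torus
  have hfixpow : ∀ j : ℕ, ppar P ρ K (τ' ^ j) 0 = 0 := by
    intro j
    induction j with
    | zero => rw [pow_zero, C.par_one M hR hc]
    | succ j ih => rw [pow_succ', C.par_mul M hR hc hτ' (pow_mem hτ' j), ih, (C.par_zero_iff M hR hc hτ').2 hτ'u]
  have hstab : ∀ {m : G}, m ∈ normGrp P a → ppar P ρ K m 0 = 0 →
      ∀ z, K.nrm (ppar P ρ K m z) = pgam E ε m (K.nrm z) := fun hm h z =>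
    C.nrm_par M hR hc hm ((C.par_zero_iff M hR hc hm).1 h) z
  have hnrm0 : ∀ {z : F}, K.nrm z = 0 → z = 0 := fun {z} h => K.nrm_inj (by
    rw [h]; by_cases hl : K.lam = 1 <;> simp [EndTwo.Coord.nrm, hl])
  set c := perm ⟨τ', hτ'⟩ with hcdef
  have hcpow : ∀ (j : ℕ) (z : F), (c ^ j) z = ppar P ρ K (τ' ^ j) z := fun j z => by
    rw [hcdef, ← map_pow, hperm, SubgroupClass.coe_pow]
  -- the orbit of zero
  have htransz : ∀ z : F, ∃ g ∈ perm.range, g 0 = z := by
    intro z
    rcases eq_or_ne z 0 with rfl | hz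
    · exact ⟨1, one_mem _, rfl⟩
    have hw : ppar P ρ K n 0 ≠ 0 := fun h => hne ((C.par_zero_iff M hR hc hn).1 h)
    obtain ⟨e, he, hee⟩ := C.eps_surj (K.nrm (ppar P ρ K n 0))
    obtain ⟨f, hf, hff⟩ := C.eps_surj (K.nrm z)
    obtain ⟨j, hj⟩ := hT.trans e he f hf (fun e1 => hw (hnrm0 (by rw [← hee, e1, C.eps_one M])))
      (fun e1 => hz (hnrm0 (by rw [← hff, e1, C.eps_one M])))
    refine ⟨c ^ j * perm ⟨n, hn⟩, mul_mem (pow_mem (MonoidHom.mem_range.2 ⟨_, rfl⟩) j)
      (MonoidHom.mem_range.2 ⟨_, rfl⟩), ?_⟩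
    show (c ^ j) (ppar P ρ K n 0) = z
    rw [hcpow]
    refine K.nrm_inj ?_
    rw [hstab (pow_mem hτ' j) (hfixpow j), ← hee, C.gam_eps M he, hτpow j e he, hj, hff]
  have hsinger : ∀ x y : F, x ≠ 0 → y ≠ 0 → ∃ j : ℕ, (c ^ j) x = y := by
    intro x y hx hy
    obtain ⟨e, he, hee⟩ := C.eps_surj (K.nrm x)
    obtain ⟨f, hf, hff⟩ := C.eps_surj (K.nrm y)
    obtain ⟨j, hj⟩ := hT.trans e he f hf (fun e1 => hx (hnrm0 (by rw [← hee, e1, C.eps_one M])))
      (fun e1 => hy (hnrm0 (by rw [← hff, e1, C.eps_one M])))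
    refine ⟨j, K.nrm_inj ?_⟩
    rw [hcpow, hstab (pow_mem hτ' j) (hfixpow j), ← hee, C.gam_eps M he, hτpow j e he, hj, hff]
  have hnormc : ∀ g ∈ perm.range, g 0 = 0 → g * c * g⁻¹ ∈ Subgroup.zpowers c := by
    rintro _ ⟨⟨m, hm⟩, rfl⟩ h0
    replace h0 : ppar P ρ K m 0 = 0 := h0
    obtain ⟨-, j, hj⟩ := hnorm m hm ((C.par_zero_iff M hR hc hm).1 h0)
    refine Subgroup.mem_zpowers_iff.2 ⟨j, Equiv.ext fun z => ?_⟩
    rw [zpow_natCast, hcpow, hcdef, ← map_inv, ← map_mul, ← map_mul, hperm]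
    show ppar P ρ K (τ' ^ j) z = ppar P ρ K (m * τ' * m⁻¹) z
    have hmm : m * τ' * m⁻¹ ∈ normGrp P a := mul_mem (mul_mem hm hτ') (inv_mem hm)
    have hmi0 : ppar P ρ K m⁻¹ 0 = 0 := by
      conv_lhs => rw [← h0]
      rw [← C.par_mul M hR hc (inv_mem hm) hm, inv_mul_cancel, C.par_one M hR hc]
    have hmm0 : ppar P ρ K (m * τ' * m⁻¹) 0 = 0 := by
      rw [C.par_mul M hR hc (mul_mem hm hτ') (inv_mem hm), hmi0, C.par_mul M hR hc hm hτ',
        (C.par_zero_iff M hR hc hτ').2 hτ'u, h0]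
    refine K.nrm_inj ?_
    rw [hstab (pow_mem hτ' j) (hfixpow j), hstab hmm hmm0]
    obtain ⟨e, he, hee⟩ := C.eps_surj (K.nrm z)
    rw [← hee, C.gam_eps M he, C.gam_eps M he, hτpow j e he, ← hj e he]
    congr 1
    have h1 := M.norm_E (inv_mem hm) he
    rw [inv_inv] at h1
    have h2 := hτpow 1 _ h1
    rw [pow_one, pow_one] at h2
    calc m * τ * m⁻¹ * e * (m * τ * m⁻¹)⁻¹ = m * (τ * (m⁻¹ * e * m) * τ⁻¹) * m⁻¹ := by group
      _ = m * (τ' * (m⁻¹ * e * m) * τ'⁻¹) * m⁻¹ := by rw [h2]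
      _ = _ := by group
  rcases M.inp.aff F perm.range (fun x => CharTwo.add_self_eq_zero x)
    (by rintro _ ⟨g, rfl⟩ x y; exact C.par_add M hR hc g.2 x y) htransz
    ⟨c, ⟨_, rfl⟩, (C.par_zero_iff M hR hc hτ').2 hτ'u, hsinger, hnormc⟩ with htr | hcard
  · obtain ⟨⟨g, hg⟩, hge⟩ := htr 1
    have ht : ∀ z, ppar P ρ K g z = z + 1 := fun z => DFunLike.congr_fun hge z
    have h := (C.par_zero_iff M hR hc hg).2 (C.fix_of_cent M hR hc hg (C.cent_translation M hR hc hg ht))
    rw [ht, zero_add] at h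
    exact one_ne_zero h
  · exact h8 (C.card_F.symm.trans hcard)

end Coords

end CfsgLib.AschCrit
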