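import Cfsg.Agent.Lib.Invol.AschCrit.EndTwo.Coord

/-!
Owner: helper15. Aschbacher's criterion, end game of Suzuki type with `|A| ≥ 4`: the lines.

The multis of `P / E` fall into lines of `|A| - 1` vectors, permuted by the torus. Counting them against the
orbits leaves only the axis.
-/

set_option autoImplicit false
set_option linter.style.haveILetI false
set_option linter.unusedSectionVars false

namespace CfsgLib.AschCrit.EndTwo

universe v

namespace Coord

variable {F : Type v} [Field F] (K : Coord F)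

/-- The line of `v` among the vectors `M`. -/
def Line (M : Set (F × F × F)) (v : F × F × F) : Set (F × F × F) :=
  {w | K.Vec w ∧ (w = 0 ∨ w ∈ M) ∧ K.pol v w = 0}

/-- What is known about the multis `M` and their lines. -/
structure LineHyp (M : Set (F × F × F)) (o : ℕ) : Prop where
  root : ∀ v ∈ M, K.Vec v ∧ v ≠ 0 ∧ K.sq v = 0
  axis : ∀ a ∈ K.A, a ≠ 0 → (a, 0, 0) ∈ M
  scale_mem : ∀ t : F, t ≠ 0 → ∀ v ∈ M, K.scale t v ∈ M
  add : ∀ v ∈ M, ∀ w ∈ K.Line M v, ∀ w' ∈ K.Line M v, w + w' ∈ K.Line M v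
  card : ∀ v ∈ M, (K.Line M v).ncard = Nat.card K.A
  eq : ∀ v ∈ M, ∀ w ∈ K.Line M v, w ≠ 0 → K.Line M w = K.Line M v
  count : (K.Line M '' M).ncard ≡ o [MOD Nat.card K.A]

variable [CharP F 2] [Finite F]

theorem scale_zero (t : F) : K.scale t 0 = 0 := by simp [scale]

theorem line_scale {M : Set (F × F × F)} (hs : ∀ t : F, t ≠ 0 → ∀ v ∈ M, K.scale t v ∈ M) {t : F} (ht : t ≠ 0)
    (v : F × F × F) : K.Line M (K.scale t v) = K.scale t '' K.Line M v := by
  have key : ∀ s : F, s ≠ 0 → ∀ v w, w ∈ K.Line M v → K.scale s w ∈ K.Line M (K.scale s v) := by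
    rintro s hs0 v w ⟨hw, hwM, hp⟩
    refine ⟨hw, hwM.imp (fun e => by rw [e, scale_zero]) (hs s hs0 w), ?_⟩
    rw [pol_scale, hp, mul_zero]
  refine Set.Subset.antisymm (fun w hw => ⟨K.scale t⁻¹ w, ?_, ?_⟩) ?_
  · have := key t⁻¹ (inv_ne_zero ht) _ _ hw
    rwa [K.scale_inv ht] at this
  · rw [scale_scale, mul_inv_cancel₀ ht, scale_one]
  · rintro _ ⟨w, hw, rfl⟩
    exact key t ht v w hw

theorem norm_surj (z : F) : ∃ t : F, K.θ t * t = z :=
  (Finite.injective_iff_surjective.1 fun _ _ h => K.theta_injOn h : Function.Surjective fun t => K.θ t * t) z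

variable {M : Set (F × F × F)} {o : ℕ}

/-- The vectors `(0, x, 0)`. -/
def xLine (F : Type v) [Field F] : Set (F × F × F) := {w | w.1 = 0 ∧ w.2.2 = 0}

theorem ncard_xLine : (xLine F).ncard = Nat.card F := by
  rw [← Set.ncard_univ F]
  refine Set.ncard_congr (fun w _ => w.2.1) (fun _ _ => trivial) ?_ fun x _ => ⟨(0, x, 0), ⟨rfl, rfl⟩, rfl⟩
  rintro w w' ⟨h1, h2⟩ ⟨h1', h2'⟩ e
  exact Prod.ext (h1.trans h1'.symm) (Prod.ext e (h2.trans h2'.symm))

theorem card_A_le : Nat.card K.A ≤ Nat.card F := Nat.card_le_card_of_injective _ Subtype.val_injective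

theorem line_zero (H : K.LineHyp M o) {v : F × F × F} (hv : v ∈ M) : v ∈ K.Line M v ∧ (0 : F × F × F) ∈ K.Line M v :=
  ⟨⟨(H.root v hv).1, Or.inr hv, K.pol_self v⟩,
    ⟨K.A.zero_mem, Or.inl rfl, by simp [pol]⟩⟩

theorem line_axis (H : K.LineHyp M o) {w : F × F × F} (hw : w ∈ K.Line M (1, 0, 0)) : w.2.1 = 0 ∧ w.2.2 = 0 := by
  have hx : w.2.1 = 0 := by
    have := hw.2.2
    simpa [pol] using this
  refine ⟨hx, ?_⟩
  rcases hw.2.1 with rfl | hwM
  · rfl
  · obtain ⟨a, x, y⟩ := w
    dsimp only at hx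
    subst hx
    exact K.sq_zero_x (H.root _ hwM).2.2

/-- Off the axis a line meets each `x` once. -/
theorem line_x (H : K.LineHyp M o) {v : F × F × F} (hv : v ∈ M) (hx : v.2.1 ≠ 0) {w : F × F × F}
    (hw : w ∈ K.Line M v) (hw0 : w ≠ 0) : w.2.1 ≠ 0 := by
  intro e
  have hwM : w ∈ M := hw.2.1.resolve_left hw0
  obtain ⟨a, x, y⟩ := w
  dsimp only at e
  subst e
  obtain rfl : y = 0 := K.sq_zero_x (H.root _ hwM).2.2
  have h1 : ((a, 0, 0) : F × F × F) ∈ K.Line M (1, 0, 0) := ⟨hw.1, Or.inr hwM, by simp [pol]⟩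
  have e : K.Line M v = K.Line M (1, 0, 0) := by
    rw [← H.eq v hv _ hw hw0, H.eq _ (H.axis 1 K.one_mem one_ne_zero) _ h1 hw0]
  exact hx (K.line_axis H (e ▸ (K.line_zero H hv).1)).1

/-- A line fixed by a non-trivial element of the torus is `xLine`. -/
theorem stab_line (H : K.LineHyp M o) {v : F × F × F} (hv : v ∈ M) (hx : v.2.1 ≠ 0) {t : F} (ht : t ≠ 0)
    (ht1 : t ≠ 1) (hst : K.scale t v ∈ K.Line M v) :
    K.Line M v = xLine F ∧ K.lam = 0 ∧ Nat.card K.A = Nat.card F := by
  have hnt : K.θ t * t + 1 ≠ 0 := fun e => ht1 (K.inj t (CharTwo.add_eq_zero.1 e))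
  have htv0 : K.scale t v ≠ 0 := fun e => (H.root _ (H.scale_mem t ht v hv)).2.1 e
  -- `t` fixes the line
  have hinv : ∀ w ∈ K.Line M v, K.scale t w ∈ K.Line M v := by
    intro w hw
    rw [← H.eq v hv _ hst htv0, K.line_scale H.scale_mem ht]
    exact ⟨w, hw, rfl⟩
  set v₀ := v + K.scale t v with hv₀
  have hv₀L : v₀ ∈ K.Line M v := H.add v hv v (K.line_zero H hv).1 _ hst
  have h01 : v₀.1 = 0 := CharTwo.add_self_eq_zero v.1
  have h0x : v₀.2.1 ≠ 0 := by
    show v.2.1 + K.θ t * t * v.2.1 ≠ 0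
    rw [show v.2.1 + K.θ t * t * v.2.1 = (K.θ t * t + 1) * v.2.1 by ring]
    exact mul_ne_zero hnt hx
  have h00 : v₀ ≠ 0 := fun e => h0x (by rw [e]; rfl)
  have hv₀M : v₀ ∈ M := hv₀L.2.1.resolve_left h00
  have hroot := (H.root v₀ hv₀M).2.2
  have hL : K.Line M v₀ = K.Line M v := H.eq v hv _ hv₀L h00
  obtain ⟨a, x, y⟩ := v₀
  dsimp only at h01 h0x
  subst h01
  rcases eq_or_ne y 0 with rfl | hy
  · have hlam : K.lam = 0 := by
      simpa [sq, h0x] using hroot
    have hsub : xLine F ⊆ K.Line M (0, x, 0) := by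
      rintro ⟨a', x', y'⟩ ⟨h1, h2⟩
      dsimp only at h1 h2
      subst h1 h2
      refine ⟨K.A.zero_mem, ?_, by simp [pol]⟩
      rcases eq_or_ne x' 0 with rfl | hx'
      · exact Or.inl rfl
      · obtain ⟨s, hs⟩ := K.norm_surj (x' / x)
        have hs0 : s ≠ 0 := fun e => div_ne_zero hx' h0x (by rw [← hs, e, mul_zero])
        refine Or.inr ?_
        have := H.scale_mem s hs0 _ hv₀M
        simpa [scale, hs, div_mul_cancel₀ x' h0x] using this
    have h1 := Set.ncard_le_ncard hsub
    rw [H.card _ hv₀M, ncard_xLine] at h1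
    have h2 : Nat.card K.A = Nat.card F := le_antisymm K.card_A_le h1
    refine ⟨?_, hlam, h2⟩
    rw [← hL]
    exact (Set.eq_of_subset_of_ncard_le hsub (by rw [H.card _ hv₀M, ncard_xLine, h2])).symm
  · exfalso
    have hline : ∀ s : F, K.scale s (0, x, y) ∈ K.Line M v →
        K.pol (0, x, y) (K.scale s (0, x, y)) = 0 := fun s hs => by
      have := hL.symm ▸ hs
      exact this.2.2
    have hp1 := hline t (hinv _ hv₀L)
    have hp2 := hline (t * t) (by rw [← scale_scale]; exact hinv _ (hinv _ hv₀L))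
    have hθt : t + K.θ t ≠ 0 := by rw [add_comm]; exact K.theta_add_self_ne ht ht1
    rcases eq_or_ne K.c 0 with hc | hc
    · refine mul_ne_zero (mul_ne_zero (show K.θ y ≠ 0 by simpa using hy) hy) hθt ?_
      simp only [pol, scale, hc, map_mul, zero_mul, add_zero, zero_add] at hp1
      linear_combination hp1
    · have hφθ : ∀ s : F, K.θ.symm (K.θ s) = s := K.θ.symm_apply_apply
      simp only [pol, scale, map_mul, hφθ, zero_mul, zero_add] at hp1 hp2
      set φt := K.θ.symm t
      set N := K.θ y * y with hN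
      set Q := K.c * (K.θ.symm x * K.θ.symm y) with hQ
      have e1 : Q * (φt * (1 + t)) + N * (t + K.θ t) = 0 := by rw [hQ, hN]; linear_combination hp1
      have e2 : Q * (φt * (1 + t)) ^ 2 + N * (t + K.θ t) ^ 2 = 0 := by
        rw [hQ, hN]
        linear_combination hp2 + (Q * φt ^ 2 * t + N * t * K.θ t) * (two_eq (F := F))
      have hN0 : N ≠ 0 := mul_ne_zero (by simpa using hy) hy
      have e3 : φt * (1 + t) + (t + K.θ t) = 0 := by
        refine (mul_eq_zero.1 (?_ : (N * (t + K.θ t)) * (φt * (1 + t) + (t + K.θ t)) = 0)).resolve_left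
          (mul_ne_zero hN0 hθt)
        linear_combination (φt * (1 + t)) * e1 + e2 - Q * (φt * (1 + t)) ^ 2 * (two_eq (F := F))
      have e4 : (1 + t) * (t + K.θ t) = 0 := by
        have := congrArg K.θ e3
        simp only [map_add, map_mul, map_one, map_zero, φt, RingEquiv.apply_symm_apply, K.tw hc] at this
        linear_combination this
      rcases mul_eq_zero.1 e4 with h | h
      · exact ht1 (CharTwo.add_eq_zero.1 h).symm
      · exact hθt h

/-- The lines off the axis other than `xLine`. -/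
def freeLines (M : Set (F × F × F)) : Set (Set (F × F × F)) :=
  {L | ∃ v ∈ M, v.2.1 ≠ 0 ∧ K.Line M v ≠ xLine F ∧ K.Line M v = L}

/-- Only the axis carries multis. -/
theorem no_lines (H : K.LineHyp M o) (hq : ∃ s, Nat.card F = 2 ^ s) (h8 : 8 ≤ Nat.card F) (hA4 : 4 ≤ Nat.card K.A)
    (hcase : o % Nat.card F = 1 ∧ (∀ v, K.Vec v → v ≠ 0 → K.sq v = 0 → v ∈ M) ∨
      o % 4 = 2 ∧ o % Nat.card F ≠ 2) :
    ∀ v, K.Vec v → K.sq v = 0 → v.2.1 = 0 ∧ v.2.2 = 0 := by
  classical
  haveI := Fintype.ofFinite F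
  set q := Nat.card F with hqdef
  set A := Nat.card K.A with hAdef
  have hAq : A ∣ q := AddSubgroup.card_addSubgroup_dvd_card K.A
  have h4A : 4 ∣ A := by
    obtain ⟨s, hs⟩ := hq
    obtain ⟨k, -, hk⟩ := (Nat.dvd_prime_pow Nat.prime_two).1 (hs ▸ hAq)
    rw [hk] at hA4 ⊢
    exact pow_dvd_pow 2 (show 2 ≤ k from (Nat.pow_le_pow_iff_right one_lt_two).1 (hA4 : 2 ^ 2 ≤ 2 ^ k))
  -- the free lines, permuted by the torus
  set S := K.freeLines M with hS
  have hmem : ∀ L ∈ S, ∀ t : F, t ≠ 0 → K.scale t '' L ∈ S := by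
    rintro _ ⟨v, hv, hx, hne, rfl⟩ t ht
    refine ⟨K.scale t v, H.scale_mem t ht v hv, mul_ne_zero (mul_ne_zero (by simpa using ht) ht) hx, ?_,
      K.line_scale H.scale_mem ht v⟩
    intro e
    apply hne
    have h1 := K.line_scale H.scale_mem (inv_ne_zero ht) (K.scale t v)
    rw [K.scale_inv ht, e] at h1
    rw [h1]
    ext w
    constructor
    · rintro ⟨w', ⟨h2, h3⟩, rfl⟩
      exact ⟨h2, show t⁻¹ * w'.2.2 = 0 by rw [h3, mul_zero]⟩
    · rintro ⟨h2, h3⟩
      exact ⟨K.scale t w, ⟨h2, show t * w.2.2 = 0 by rw [h3, mul_zero]⟩, K.scale_inv ht w⟩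
  letI act : MulAction Fˣ S :=
    { smul := fun t L => ⟨K.scale (t : F) '' L.1, hmem L.1 L.2 t t.ne_zero⟩
      one_smul := fun L => Subtype.ext (by
        show K.scale ((1 : Fˣ) : F) '' L.1 = L.1
        simp only [Units.val_one, K.scale_one, Set.image_id'])
      mul_smul := fun t t' L => Subtype.ext (by
        show K.scale ((t * t' : Fˣ) : F) '' L.1 = K.scale (t : F) '' (K.scale (t' : F) '' L.1)
        simp only [Set.image_image, K.scale_scale, Units.val_mul]) }
  have hfree : ∀ L : S, MulAction.stabilizer Fˣ L = ⊥ := by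
    rintro ⟨L, v, hv, hx, hne, rfl⟩
    rw [eq_bot_iff]
    intro t ht
    rw [Subgroup.mem_bot]
    by_contra ht1
    refine hne (K.stab_line H hv hx t.ne_zero (fun e => ht1 (Units.ext e)) ?_).1
    have e : K.scale (t : F) '' K.Line M v = K.Line M v := congrArg Subtype.val ht
    exact e ▸ ⟨v, (K.line_zero H hv).1, rfl⟩
  have hunits : Nat.card Fˣ = q - 1 := Nat.card_units F
  obtain ⟨m, hm⟩ : ∃ m, S.ncard = (q - 1) * m := by
    refine ⟨Nat.card (MulAction.orbitRel.Quotient Fˣ S), ?_⟩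
    rw [← Nat.card_coe_set_eq, Nat.card_congr (MulAction.selfEquivOrbitsQuotientProd hfree), Nat.card_prod, hunits,
      mul_comm]
  -- the vectors at `x = 1`
  set P1 := {v : F × F × F | v ∈ M ∧ v.2.1 = 1 ∧ K.Line M v ≠ xLine F} with hP1
  set V' := {v : F × F × F | v ∈ M ∧ v.2.1 ≠ 0 ∧ K.Line M v ≠ xLine F} with hV'
  have hV1 : V'.ncard = P1.ncard * (q - 1) := by
    rw [← hunits, ← Set.ncard_univ Fˣ, ← Set.ncard_prod]
    symm
    refine Set.ncard_congr (fun p _ => K.scale (p.2 : F) p.1) ?_ ?_ ?_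
    · rintro ⟨v, t⟩ ⟨⟨hv, hx, hne⟩, -⟩
      have ht := t.ne_zero
      obtain ⟨v', hv', hx', hne', e⟩ := hmem (K.Line M v) ⟨v, hv, hx ▸ one_ne_zero, hne, rfl⟩ t ht
      refine ⟨H.scale_mem t ht v hv, mul_ne_zero (mul_ne_zero (by simpa using ht) ht) (hx ▸ one_ne_zero), ?_⟩
      rw [K.line_scale H.scale_mem ht, ← e]
      exact hne'
    · rintro ⟨v, t⟩ ⟨v', t'⟩ ⟨⟨-, hx, -⟩, -⟩ ⟨⟨-, hx', -⟩, -⟩ e
      dsimp only at hx hx' e
      have e1 : K.θ t * (t : F) = K.θ t' * (t' : F) := by
        have := congrArg (fun w : F × F × F => w.2.1) e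
        simpa [scale, hx, hx'] using this
      obtain rfl : t = t' := Units.ext (K.theta_injOn e1)
      have := congrArg (K.scale (t : F)⁻¹) e
      rw [K.scale_inv t.ne_zero, K.scale_inv t.ne_zero] at this
      exact Prod.ext this rfl
    · rintro v ⟨hv, hx, hne⟩
      obtain ⟨t, ht⟩ := K.norm_surj v.2.1
      have ht0 : t ≠ 0 := fun e => hx (by rw [← ht, e, mul_zero])
      refine ⟨(K.scale t⁻¹ v, Units.mk0 t ht0), ⟨⟨H.scale_mem _ (inv_ne_zero ht0) v hv, ?_, fun e => ?_⟩, trivial⟩,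
        ?_⟩
      · show K.θ t⁻¹ * t⁻¹ * v.2.1 = 1
        rw [map_inv₀, ← mul_inv, ht, inv_mul_cancel₀ hx]
      · obtain ⟨v', hv', -, hne', e'⟩ := hmem (K.Line M v) ⟨v, hv, hx, hne, rfl⟩ t⁻¹ (inv_ne_zero ht0)
        exact hne' (by rw [e', ← K.line_scale H.scale_mem (inv_ne_zero ht0), e])
      · show K.scale t (K.scale t⁻¹ v) = v
        rw [scale_scale, mul_inv_cancel₀ ht0, scale_one]
  have hV2 : V'.ncard = S.ncard * (A - 1) := by
    haveI : Fintype S := Fintype.ofFinite S
    let e : V' ≃ Σ L : S, {w : F × F × F // w ∈ (L : Set _) ∧ w ≠ 0} :=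
      { toFun := fun v => ⟨⟨K.Line M v.1, v.1, v.2.1, v.2.2.1, v.2.2.2, rfl⟩,
          v.1, (K.line_zero H v.2.1).1, (H.root _ v.2.1).2.1⟩
        invFun := fun p => ⟨p.2.1, by
          obtain ⟨⟨L, v, hv, hx, hne, rfl⟩, w, hw, hw0⟩ := p
          exact ⟨hw.2.1.resolve_left hw0, K.line_x H hv hx hw hw0, fun e => hne (by rw [← H.eq v hv w hw hw0, e])⟩⟩
        left_inv := fun v => rfl
        right_inv := fun p => by
          obtain ⟨⟨L, v, hv, hx, hne, rfl⟩, w, hw, hw0⟩ := p
          refine Sigma.subtype_ext (Subtype.ext (H.eq v hv w hw hw0)) rfl }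
    rw [← Nat.card_coe_set_eq, Nat.card_congr e, Nat.card_sigma,
      Finset.sum_congr rfl (fun L _ => ?_), Finset.sum_const, Finset.card_univ, smul_eq_mul,
      ← Nat.card_eq_fintype_card, Nat.card_coe_set_eq]
    obtain ⟨_, v, hv, hx, hne, rfl⟩ := L
    show Nat.card {w : F × F × F // w ∈ K.Line M v ∧ w ≠ 0} = A - 1
    rw [show {w : F × F × F // w ∈ K.Line M v ∧ w ≠ 0} = ((K.Line M v \ {0} : Set (F × F × F)) : Type v) from rfl,
      Nat.card_coe_set_eq, Set.ncard_sdiff (Set.singleton_subset_iff.2 (K.line_zero H hv).2), Set.ncard_singleton,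
      H.card v hv]
  have hz : P1.ncard = m * (A - 1) := by
    rw [hV1, hm] at hV2
    refine Nat.eq_of_mul_eq_mul_right (show 0 < q - 1 by omega) ?_
    rw [hV2]; ring
  have hzle : P1.ncard ≤ 2 * A := by
    haveI := Fintype.ofFinite K.A
    have hsub : P1 ⊆ ⋃ a ∈ (Finset.univ : Finset K.A),
        (fun y : F => ((a : F), (1 : F), y)) '' {y | K.sq ((a : F), 1, y) = 0} := by
      rintro ⟨a, x, y⟩ ⟨hv, hx, -⟩
      dsimp only at hx
      subst hx
      exact Set.mem_biUnion (x := (⟨a, (H.root _ hv).1⟩ : K.A)) (Finset.mem_univ _) ⟨y, (H.root _ hv).2.2, rfl⟩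
    refine (Set.ncard_le_ncard hsub).trans ((Finset.set_ncard_biUnion_le _ _).trans ?_)
    refine (Finset.sum_le_card_nsmul _ _ 2 fun a _ => (Set.ncard_image_le (Set.toFinite _)).trans (K.roots_ncard_le _ one_ne_zero)).trans ?_
    rw [Finset.card_univ, smul_eq_mul, hAdef, Nat.card_eq_fintype_card, mul_comm]
  have hm2 : m ≤ 2 := by
    rw [hz] at hzle
    by_contra h3
    have := Nat.mul_le_mul_right (A - 1) (show 3 ≤ m by omega)
    omega
  -- all lines
  set L0 := K.Line M (1, 0, 0) with hL0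
  have h1M : ((1, 0, 0) : F × F × F) ∈ M := H.axis 1 K.one_mem one_ne_zero
  have hcover : ∀ v ∈ M, K.Line M v = L0 ∨ K.Line M v = xLine F ∨ K.Line M v ∈ S := by
    intro v hv
    by_cases hx : v.2.1 = 0
    · left
      refine H.eq _ h1M v ⟨(H.root v hv).1, Or.inr hv, ?_⟩ (H.root v hv).2.1
      obtain ⟨a, x, y⟩ := v
      dsimp only at hx
      subst hx
      obtain rfl : y = 0 := K.sq_zero_x (H.root _ hv).2.2
      simp [pol]
    · by_cases he : K.Line M v = xLine F
      · exact Or.inr (Or.inl he)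
      · exact Or.inr (Or.inr ⟨v, hv, hx, he, rfl⟩)
  have hL0S : L0 ∉ S := by
    rintro ⟨v, hv, hx, -, e⟩
    exact hx (K.line_axis H (show v ∈ L0 from e ▸ (K.line_zero H hv).1)).1
  have hXS : xLine F ∉ S := fun ⟨v, _, _, hne, e⟩ => hne e
  have h1X : L0 ≠ xLine F := fun e => by
    have h1 : ((1, 0, 0) : F × F × F) ∈ xLine F := e ▸ (K.line_zero H h1M).1
    exact one_ne_zero h1.1
  have hcount := H.count
  by_cases hX : xLine F ∈ K.Line M '' M
  · -- the line of translations
    have hall : K.Line M '' M = insert L0 (insert (xLine F) S) := by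
      refine Set.Subset.antisymm ?_ ?_
      · rintro _ ⟨v, hv, rfl⟩
        rcases hcover v hv with h | h | h <;> simp [h]
      · rintro L (rfl | rfl | ⟨v, hv, -, -, rfl⟩)
        exacts [⟨_, h1M, rfl⟩, hX, ⟨v, hv, rfl⟩]
    obtain ⟨v, hv, hvX⟩ := hX
    have hAq' : A = q := by rw [hAdef, ← H.card v hv, hvX, ncard_xLine]
    have hvX' : v ∈ xLine F := hvX ▸ (K.line_zero H hv).1
    have hlam : K.lam = 0 := by
      obtain ⟨a, x, y⟩ := v
      obtain ⟨e1, e2⟩ := hvX'
      dsimp only at e1 e2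
      subst e1 e2
      have hx : x ≠ 0 := fun e => (H.root _ hv).2.1 (by rw [e]; rfl)
      simpa [sq, hx] using (H.root _ hv).2.2
    rw [hall, Set.ncard_insert_of_notMem (by simp [h1X, hL0S]), Set.ncard_insert_of_notMem hXS, hm, ← hAdef,
      hAq'] at hcount
    -- so `m = 1` and every root is a multi
    have hN : ((q - 1) * m + 1 + 1 + m) = 2 + q * m := by
      obtain ⟨q', hq'⟩ : ∃ q', q = q' + 1 := ⟨q - 1, by omega⟩
      rw [hq', Nat.add_sub_cancel]; ring
    have hmod : (o + m) % q = 2 % q := by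
      rw [← (Nat.ModEq.add_right m hcount), hN, Nat.add_mul_mod_self_left]
    have ho2 := Nat.mod_add_div o q
    rw [Nat.mod_eq_of_lt (show 2 < q by omega), Nat.add_mod] at hmod
    rcases hcase with ⟨ho, hM⟩ | ⟨ho4, hoq⟩
    swap
    · exfalso
      obtain ⟨j, hj⟩ : 4 ∣ q := hAq' ▸ h4A
      have e4 : (o + m) % q % 4 = (o + m) % 4 := Nat.mod_mod_of_dvd _ ⟨j, hj⟩
      rw [Nat.add_mod o m q, hmod] at e4
      have : m = 0 := by omega
      rw [this] at hmod
      simp only [Nat.zero_mod, add_zero, Nat.mod_mod] at hmod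
      exact hoq hmod
    exfalso
    rw [ho, Nat.mod_eq_of_lt (show m < q by omega), Nat.mod_eq_of_lt (show 1 + m < q by omega)] at hmod
    obtain rfl : m = 1 := by omega
    have hAtop : ∀ a : F, a ∈ K.A := fun a => by
      have : K.A = ⊤ := AddSubgroup.eq_top_of_le_card _ (by rw [← hAdef, hAq'])
      rw [this]; trivial
    rcases eq_or_ne K.c 0 with hc | hc
    · -- two candidates on the line of `(1, 1, 1)`
      have hroot : ∀ a x y : F, a * x + K.θ y * y = 0 → K.Vec (a, x, y) ∧ K.sq (a, x, y) = 0 := fun a x y h =>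
        ⟨hAtop a, by simp only [sq, hc, hlam, add_zero, zero_mul]; exact h⟩
      have hv1 : ((1, 1, 1) : F × F × F) ∈ M :=
        hM _ (hAtop 1) (by simp) (hroot 1 1 1 (by rw [map_one, mul_one]; exact CharTwo.add_self_eq_zero 1)).2
      obtain ⟨a, ha0, ha1⟩ : ∃ a : F, a ≠ 0 ∧ a ≠ 1 := by
        by_contra! hall'
        have hle : (Finset.univ : Finset F) ⊆ {0, 1} := fun x _ => by
          simpa [or_iff_not_imp_left] using hall' x
        have := (Finset.card_le_card hle).trans Finset.card_le_two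
        rw [Finset.card_univ, ← Nat.card_eq_fintype_card] at this
        omega
      have hφa : K.θ (K.θ.symm a) = a := K.θ.apply_symm_apply a
      have hin : ∀ x y : F, a * x + K.θ y * y = 0 → a + x + (y + K.θ y) = 0 →
          ((a, x, y) : F × F × F) ∈ K.Line M (1, 1, 1) := fun x y h1 h2 => by
        refine ⟨hAtop a, Or.inr (hM _ (hAtop a) (fun e => ha0 (congrArg Prod.fst e)) (hroot a x y h1).2), ?_⟩
        simp only [pol, hc, map_one, one_mul, mul_one, zero_mul, add_zero]
        linear_combination h2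
      have hw1 := hin (K.θ a) a (by linear_combination (a * K.θ a) * (two_eq (F := F)))
        (by linear_combination (a + K.θ a) * (two_eq (F := F)))
      have hw2 := hin (K.θ.symm a) (K.θ.symm a) (by rw [hφa]; linear_combination (a * K.θ.symm a) * (two_eq (F := F)))
        (by rw [hφa]; linear_combination (a + K.θ.symm a) * (two_eq (F := F)))
      set w := ((a, K.θ a, a) : F × F × F) + (a, K.θ.symm a, K.θ.symm a) with hw
      have hwL : w ∈ K.Line M (1, 1, 1) := H.add _ hv1 _ hw1 _ hw2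
      have hw0 : w ≠ 0 := fun e => by
        have e1 : a + K.θ.symm a = 0 := congrArg (fun p : F × F × F => p.2.2) e
        have e2 : K.θ a = a := by
          conv_lhs => rw [CharTwo.add_eq_zero.1 e1]
          exact hφa
        exact (K.θfix a e2).elim ha0 ha1
      -- a vector with `a = 0` puts the line among the translations
      have hwM : w ∈ M := hwL.2.1.resolve_left hw0
      have hwr := (H.root w hwM).2.2
      have hy0 : w.2.2 = 0 := by
        have : K.θ w.2.2 * w.2.2 = 0 := by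
          simp only [sq, hc, hlam, add_zero, zero_mul] at hwr
          rw [show w.1 = 0 from CharTwo.add_self_eq_zero a, zero_mul, zero_add] at hwr
          exact hwr
        rcases mul_eq_zero.1 this with h | h
        · exact (map_eq_zero K.θ).1 h
        · exact h
      refine hw0 (Prod.ext (CharTwo.add_self_eq_zero a) (Prod.ext ?_ hy0))
      by_contra hwx
      have := hwL.2.2
      simp only [pol, hc, map_one, one_mul, mul_one, zero_mul, add_zero,
        show w.1 = 0 from CharTwo.add_self_eq_zero a, hy0, map_zero, mul_zero] at this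
      exact hwx this
    · -- the line of the root with `a = 0`
      have hθc : K.θ K.c ≠ 0 := by simpa using hc
      set y₁ := K.c ^ 2 / K.θ K.c with hy₁
      have hy₁0 : y₁ ≠ 0 := div_ne_zero (pow_ne_zero 2 hc) hθc
      have hθy : K.θ y₁ = K.θ K.c ^ 2 / K.c ^ 2 := by rw [hy₁, map_div₀, map_pow, K.tw hc]
      have hφy : K.θ.symm y₁ = K.θ K.c / K.c := by
        apply K.θ.injective
        rw [RingEquiv.apply_symm_apply, map_div₀, K.tw hc, hy₁]
      have hr1 : K.sq (0, 1, y₁) = 0 := by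
        have e1 : K.θ y₁ * y₁ = K.θ K.c := by rw [hθy, hy₁]; field_simp
        have e2 : K.c * K.θ.symm y₁ = K.θ K.c := by rw [hφy]; field_simp
        simp only [sq, hlam, one_mul, add_zero, zero_mul, zero_add]
        linear_combination e1 + e2 + K.θ K.c * (two_eq (F := F))
      have hv1 : ((0, 1, y₁) : F × F × F) ∈ M := hM _ K.A.zero_mem (by simp) hr1
      have hvS : K.Line M (0, 1, y₁) ∈ S := by
        refine ⟨_, hv1, one_ne_zero, fun e => hy₁0 ?_, rfl⟩
        have : ((0, 1, y₁) : F × F × F) ∈ xLine F := e ▸ (K.line_zero H hv1).1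
        exact this.2
      -- every free line is a translate of this one
      set L := K.Line M (0, 1, y₁) with hL
      have hS1 : ∀ L' ∈ S, ∃ t : F, t ≠ 0 ∧ L' = K.scale t '' L := by
        intro L' hL'
        have hinj : Function.Injective fun t : Fˣ => t • (⟨L, hvS⟩ : S) := fun t t' e => by
          have h1 : t'⁻¹ * t ∈ MulAction.stabilizer Fˣ (⟨L, hvS⟩ : S) := by
            rw [MulAction.mem_stabilizer_iff, mul_smul]
            rw [show t • (⟨L, hvS⟩ : S) = t' • _ from e, inv_smul_smul]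
          rw [hfree, Subgroup.mem_bot] at h1
          exact (inv_mul_eq_one.1 h1).symm
        obtain ⟨t, ht⟩ := (Function.Injective.bijective_of_nat_card_le hinj
          (by rw [hunits, Nat.card_coe_set_eq, hm, mul_one])).2 ⟨L', hL'⟩
        exact ⟨t, t.ne_zero, (congrArg Subtype.val ht).symm⟩
      let I : AddSubgroup F :=
        { carrier := {a | ∃ w ∈ L, w.1 = a}
          zero_mem' := ⟨0, (K.line_zero H hv1).2, rfl⟩
          add_mem' := by
            rintro _ _ ⟨w, hw, rfl⟩ ⟨w', hw', rfl⟩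
            exact ⟨w + w', H.add _ hv1 w hw w' hw', rfl⟩
          neg_mem' := by
            rintro a ha
            rwa [CharTwo.neg_eq] }
      have hg : ∀ y : F, K.θ y * y + K.c * K.θ.symm y ∈ I := by
        intro y
        rcases eq_or_ne y 0 with rfl | hy
        · simp [I.zero_mem]
        set g := K.θ y * y + K.c * K.θ.symm y with hgdef
        have hr : K.sq (g, 1, y) = 0 := by
          simp only [sq, hlam, add_zero, mul_one, one_mul]
          rw [hgdef]
          linear_combination (K.θ y * y + K.c * K.θ.symm y) * (two_eq (F := F))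
        have hvM : ((g, 1, y) : F × F × F) ∈ M := hM _ (hAtop g) (by simp) hr
        have hne : K.Line M (g, 1, y) ≠ xLine F := fun e => hy (by
          have : ((g, 1, y) : F × F × F) ∈ xLine F := e ▸ (K.line_zero H hvM).1
          exact this.2)
        obtain ⟨t, -, e⟩ := hS1 _ ⟨_, hvM, one_ne_zero, hne, rfl⟩
        obtain ⟨w, hw, hwe⟩ := (e ▸ (K.line_zero H hvM).1 : ((g, 1, y) : F × F × F) ∈ K.scale t '' L)
        exact ⟨w, hw, congrArg Prod.fst hwe⟩
      have hβ : ∀ y y' : F, K.θ y * y' + K.θ y' * y ∈ I := fun y y' => by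
        have h := add_mem (add_mem (hg (y + y')) (hg y)) (hg y')
        convert h using 1
        simp only [map_add]
        linear_combination (-(K.θ y * y + K.θ y' * y' + K.c * K.θ.symm y + K.c * K.θ.symm y')) * (two_eq (F := F))
      have hItop : I = ⊤ := by
        obtain ⟨u, hu0, hu1⟩ : ∃ u : F, u ≠ 0 ∧ u ≠ 1 := by
          by_contra! hall'
          have hle : (Finset.univ : Finset F) ⊆ {0, 1} := fun x _ => by
            simpa [or_iff_not_imp_left] using hall' x
          have := (Finset.card_le_card hle).trans Finset.card_le_two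
          rw [Finset.card_univ, ← Nat.card_eq_fintype_card] at this
          omega
        refine eq_top_iff.2 fun z _ => ?_
        obtain ⟨s, hs⟩ := K.norm_surj (z / (K.θ u + u))
        have h := hβ s (s * u)
        rwa [map_mul, show K.θ s * (s * u) + K.θ s * K.θ u * s = K.θ s * s * (K.θ u + u) by ring, hs,
          div_mul_cancel₀ z (K.theta_add_self_ne hu0 hu1)] at h
      have hcardI : q ≤ ((fun w : F × F × F => w.1) '' L).ncard := by
        rw [show (fun w : F × F × F => w.1) '' L = (I : Set F) from rfl, hItop, AddSubgroup.coe_top, Set.ncard_univ]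
      have hLcard : L.ncard = q := by rw [hL, H.card _ hv1, ← hAdef, hAq']
      have hinjL : Set.InjOn (fun w : F × F × F => w.1) L :=
        Set.injOn_of_ncard_image_eq (le_antisymm Set.ncard_image_le (hLcard ▸ hcardI))
      have := hinjL (K.line_zero H hv1).1 (K.line_zero H hv1).2 rfl
      exact one_ne_zero (congrArg (fun w : F × F × F => w.2.1) this)
  · have hall : K.Line M '' M = insert L0 S := by
      refine Set.Subset.antisymm ?_ ?_
      · rintro _ ⟨v, hv, rfl⟩
        rcases hcover v hv with h | h | h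
        · exact Or.inl h
        · exact (hX ⟨v, hv, h⟩).elim
        · exact Or.inr h
      · rintro L (rfl | ⟨v, hv, -, -, rfl⟩)
        exacts [⟨_, h1M, rfl⟩, ⟨v, hv, rfl⟩]
    rw [hall, Set.ncard_insert_of_notMem hL0S, hm, ← hAdef] at hcount
    have hN : (q - 1) * m + 1 + m = 1 + q * m := by
      obtain ⟨q', hq'⟩ : ∃ q', q = q' + 1 := ⟨q - 1, by omega⟩
      rw [hq', Nat.add_sub_cancel]; ring
    have hmod : (o + m) % A = 1 % A := by
      obtain ⟨k, hk⟩ := hAq
      rw [← (Nat.ModEq.add_right m hcount), hN, hk, mul_assoc, Nat.add_mul_mod_self_left]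
    rcases hcase with ⟨ho, hM⟩ | ⟨ho4, -⟩
    swap
    · exfalso
      have e4 : (o + m) % A % 4 = (o + m) % 4 := Nat.mod_mod_of_dvd _ h4A
      rw [hmod, Nat.mod_eq_of_lt (show 1 < A by omega)] at e4
      omega
    have hoA : o % A = 1 := by
      rw [← Nat.mod_mod_of_dvd o hAq, ho, Nat.mod_eq_of_lt (show 1 < A by omega)]
    rw [Nat.add_mod, hoA, Nat.mod_eq_of_lt (show m < A by omega), Nat.mod_eq_of_lt (show 1 < A by omega),
      Nat.mod_eq_of_lt (show 1 + m < A by omega)] at hmod
    obtain rfl : m = 0 := by omega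
    have hSe : S = ∅ := (Set.ncard_eq_zero).1 (by rw [hm, mul_zero])
    intro v hv hsq
    by_cases hv0 : v = 0
    · subst hv0; exact ⟨rfl, rfl⟩
    have hvM := hM v hv hv0 hsq
    rcases hcover v hvM with h | h | h
    · exact K.line_axis H (show v ∈ L0 from h ▸ (K.line_zero H hvM).1)
    · exact (hX ⟨v, hvM, h⟩).elim
    · rw [hSe] at h; exact h.elim

end Coord

end CfsgLib.AschCrit.EndTwo
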