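import Cfsg.Agent.Lib.Invol.AschCrit.EndTwo.Model
import Cfsg.Agent.Lib.Invol.AschCrit.EndTwo.Multi
import Cfsg.Agent.Lib.Invol.AschCrit.EndTwo.Lines
import Cfsg.Agent.Lib.Invol.AschCrit.EndOne.LargeR

/-!
Owner: helper15. Aschbacher's criterion, end game of Suzuki type: `R` has order two.

The points with non-trivial stabiliser in `P` are `q ^ 3` for each line of multis of `P / E`, the others come in
regular orbits. With `|R| ≥ 4` this leaves the axis as the only line: either all involutions of `P` commute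
with `u`, or the count is wrong modulo four.
-/

set_option autoImplicit false
set_option linter.unusedSectionVars false
set_option linter.style.haveILetI false

namespace CfsgLib.AschCrit

open Subgroup MulAction

universe u v

variable {G : Type u} [Group G] [Finite G] {Ω : Type v} [MulAction G Ω]
variable {D : Set G} {u : G} {a b : Ω} {E : Subgroup G} {q : ℕ} {P R X Q : Subgroup G} {η : G}
variable {F : Type u} [Field F] [CharP F 2] {K : EndTwo.Coord F} {ρ : G → F × F × F} {ε : G → F}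

/-- The vectors of the multis of `P`. -/
def multiVec (Ω : Type v) [MulAction G Ω] (P : Subgroup G) {F : Type u} (ρ : G → F × F × F) : Set (F × F × F) :=
  {w | ∃ g ∈ P, IsMulti Ω g ∧ ρ g = w}

namespace Coords

variable (C : Coords P R E u η q K ρ ε) (M : TwoModel D u a b E q P R X Q η)
include C M

theorem rho_mul_E {g e : G} (hg : g ∈ P) (he : e ∈ E) : ρ (g * e) = ρ g := by
  rw [C.rho_mul g hg e (M.E_le_P he), (C.rho_ker e (M.E_le_P he)).2 he, add_zero]

/-- The line of a multi is the image of its fibre. -/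
theorem line_eq {g : G} {R' : Subgroup G} (hg : g ∈ P) (hR' : Fibre Ω P R E a g R') :
    K.Line (multiVec Ω P ρ) (ρ g) = ρ '' (R' : Set G) := by
  refine Set.Subset.antisymm ?_ ?_
  · rintro w ⟨-, hw0, hp⟩
    rcases hw0 with rfl | ⟨g', hg', hg'm, rfl⟩
    · exact ⟨1, one_mem R', C.rho_one M⟩
    · have hc : Commute g' g := ((C.commute_iff M hg hg').2 hp).symm
      obtain ⟨r, hr, e, he, rfl⟩ := (hR'.cent g' hg').1 ⟨M.multi_sq hg'm, hc⟩
      exact ⟨r, hr, (C.rho_mul_E M (hR'.le hr) he).symm⟩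
  · rintro _ ⟨r, hr, rfl⟩
    refine ⟨C.rho_mem r (hR'.le hr), ?_, ?_⟩
    · rcases eq_or_ne r 1 with rfl | hr1
      · exact Or.inl (C.rho_one M)
      · exact Or.inr ⟨r, hR'.le hr, by simpa using hR'.multi r hr hr1 1 (one_mem E), rfl⟩
    · rw [← C.commute_iff M hg (hR'.le hr)]
      exact (((hR'.cent r (hR'.le hr)).2 ⟨r, hr, 1, one_mem E, (mul_one r).symm⟩).2).symm

theorem rho_injOn {g : G} {R' : Subgroup G} (hR' : Fibre Ω P R E a g R') : Set.InjOn ρ (R' : Set G) :=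
  fun r hr r' hr' e => inv_mul_eq_one.1 (hR'.disj _ (mul_mem (inv_mem hr) hr')
    ((C.rho_eq_iff M (hR'.le hr) (hR'.le hr')).1 e))

theorem multi_coset {g e : G} (hg : g ∈ P) (hgm : IsMulti Ω g) (he : e ∈ E) : IsMulti Ω (g * e) := by
  obtain ⟨R', hR'⟩ := M.exists_fibre hg hgm
  exact hR'.multi g hR'.mem (fun e1 => M.not_mem_E hgm (e1 ▸ one_mem E)) e he

variable [Finite F]

/-- The multis of `P` modulo `E` satisfy the hypotheses on lines. -/
theorem lineHyp (o : ℕ) (ho : Nat.card Ω - 1 = q ^ 3 * o) : K.LineHyp (multiVec Ω P ρ) o := by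
  classical
  haveI := M.crit.finite_points
  haveI := Fact.mk Nat.prime_two
  have hR2 : 2 ≤ Nat.card R := by
    haveI : Nontrivial R := ⟨⟨1, ⟨u, M.mod.u_mem⟩, fun e => M.u_ne (congrArg Subtype.val e).symm⟩⟩
    exact Finite.one_lt_card
  have hcardline : ∀ v ∈ multiVec Ω P ρ, (K.Line (multiVec Ω P ρ) v).ncard = Nat.card R := by
    rintro _ ⟨g, hg, hgm, rfl⟩
    obtain ⟨R', hR'⟩ := M.exists_fibre hg hgm
    rw [C.line_eq M hg hR', (C.rho_injOn M hR').ncard_image, ← Nat.card_coe_set_eq]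
    exact hR'.card
  have heq : ∀ v ∈ multiVec Ω P ρ, ∀ w ∈ K.Line (multiVec Ω P ρ) v, w ≠ 0 →
      K.Line (multiVec Ω P ρ) w = K.Line (multiVec Ω P ρ) v := by
    rintro _ ⟨g, hg, hgm, rfl⟩ w hw hw0
    obtain ⟨R', hR'⟩ := M.exists_fibre hg hgm
    rw [C.line_eq M hg hR'] at hw
    obtain ⟨r, hr, rfl⟩ := hw
    have hr1 : r ≠ 1 := fun e => hw0 (e ▸ C.rho_one M)
    have hrm : IsMulti Ω r := by simpa using hR'.multi r hr hr1 1 (one_mem E)
    rw [C.line_eq M hg hR']
    refine (Set.eq_of_subset_of_ncard_le ?_ ?_).symm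
    · rintro _ ⟨s, hs, rfl⟩
      refine ⟨C.rho_mem s (hR'.le hs), ?_, ?_⟩
      · rcases eq_or_ne s 1 with rfl | hs1
        · exact Or.inl (C.rho_one M)
        · exact Or.inr ⟨s, hR'.le hs, by simpa using hR'.multi s hs hs1 1 (one_mem E), rfl⟩
      · rw [← C.commute_iff M (hR'.le hr) (hR'.le hs)]
        have h1 := hR'.sq _ (mul_mem hr hs)
        show r * s = s * r
        calc r * s = r * (r * s * (r * s)) * s := by rw [h1, mul_one]
          _ = r * r * (s * r) * (s * s) := by group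
          _ = s * r := by rw [hR'.sq r hr, hR'.sq s hs, one_mul, mul_one]
    · rw [hcardline _ ⟨r, hR'.le hr, hrm, rfl⟩, (C.rho_injOn M hR').ncard_image, ← Nat.card_coe_set_eq]
      exact hR'.card.ge
  refine ⟨?_, ?_, ?_, ?_, fun v hv => (hcardline v hv).trans C.card_A.symm, heq, ?_⟩
  · rintro _ ⟨g, hg, hgm, rfl⟩
    exact ⟨C.rho_mem g hg, fun e => M.not_mem_E hgm ((C.rho_ker g hg).1 e),
      (C.sq_eq_one M hg).1 (M.multi_sq hgm)⟩
  · intro c hc hc0
    obtain ⟨g, hg, hgc⟩ := C.rho_surj (c, 0, 0) hc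
    obtain ⟨r, hr, e, he, rfl⟩ := (C.rho_R g hg).1 ⟨by rw [hgc], by rw [hgc]⟩
    have hr1 : r ≠ 1 := fun e' => hc0 (by
      rw [e', one_mul, (C.rho_ker e (M.E_le_P he)).2 he] at hgc
      exact (congrArg Prod.fst hgc).symm)
    exact ⟨r, M.RP hr, ⟨orderOf_eq_prime (by rw [pow_two]; exact M.mod.R_sq r hr) hr1, a, b, M.fr.data.ne,
      (M.fixR hr).1, (M.fixR hr).2⟩, by rw [← hgc, C.rho_mul_E M (M.RP hr) he]⟩
  · intro t ht _ ⟨g, hg, hgm, hgv⟩
    subst hgv
    obtain ⟨j, hj, -⟩ := C.act t ht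
    exact ⟨_, M.eta_P j hg, hgm.conj _, hj g hg⟩
  · rintro _ ⟨g, hg, hgm, rfl⟩ w hw w' hw'
    obtain ⟨R', hR'⟩ := M.exists_fibre hg hgm
    rw [C.line_eq M hg hR'] at hw hw' ⊢
    obtain ⟨r, hr, rfl⟩ := hw
    obtain ⟨r', hr', rfl⟩ := hw'
    exact ⟨r * r', mul_mem hr hr', C.rho_mul r (hR'.le hr) r' (hR'.le hr')⟩
  -- the count
  set MV := multiVec Ω P ρ with hMV
  set W : Set G := {g | g ∈ P ∧ IsMulti Ω g} with hW
  set S : Set Ω := {p | p ≠ a ∧ ∃ g ∈ P, g ≠ 1 ∧ g • p = p} with hS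
  have hstabmulti : ∀ g ∈ P, g ≠ 1 → ∀ p : Ω, p ≠ a → g • p = p → IsMulti Ω g := by
    intro g hg hg1 p hp hgp
    have h1 : g * g = 1 := M.semiregE (M.sq_P hg) hp (by rw [mul_smul, hgp, hgp])
    exact ⟨orderOf_eq_prime (by rw [pow_two]; exact h1) hg1, p, a, hp, hgp, M.fixP hg⟩
  have hWcard : W.ncard = MV.ncard * q := by
    have hsel : ∀ w : MV, ∃ g, g ∈ P ∧ IsMulti Ω g ∧ ρ g = (w : F × F × F) := fun w => w.2
    choose f hfP hfm hf using hsel
    have hb : Function.Bijective (fun p : MV × E => (⟨f p.1 * p.2,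
        mul_mem (hfP p.1) (M.E_le_P p.2.2), C.multi_coset M (hfP p.1) (hfm p.1) p.2.2⟩ : W)) := by
      refine ⟨?_, ?_⟩
      · rintro ⟨w, e⟩ ⟨w', e'⟩ h
        have h' : f w * (e : G) = f w' * e' := congrArg Subtype.val h
        have hww : w = w' := Subtype.ext (by
          rw [← hf w, ← hf w', ← C.rho_mul_E M (hfP w) e.2, h', C.rho_mul_E M (hfP w') e'.2])
        subst hww
        exact Prod.ext rfl (Subtype.ext (mul_left_cancel h'))
      · rintro ⟨g, hg, hgm⟩
        let w : MV := ⟨ρ g, g, hg, hgm, rfl⟩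
        exact ⟨(w, ⟨(f w)⁻¹ * g, (C.rho_eq_iff M (hfP w) hg).1 (hf w)⟩), Subtype.ext (mul_inv_cancel_left _ _)⟩
    rw [← Nat.card_coe_set_eq, ← Nat.card_eq_of_bijective _ hb, Nat.card_prod, M.fr.data.card_E,
      Nat.card_coe_set_eq]
  have hSW : S.ncard * (Nat.card R - 1) = W.ncard * q ^ 2 := by
    haveI : Fintype S := Fintype.ofFinite _
    haveI : Fintype W := Fintype.ofFinite _
    let L := {pg : Ω × G // pg.1 ≠ a ∧ pg.2 ∈ W ∧ pg.2 • pg.1 = pg.1}
    have e1 : Nat.card L = S.ncard * (Nat.card R - 1) := by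
      let e : L ≃ Σ p : S, {g : G // g ∈ W ∧ g • (p : Ω) = p} :=
        { toFun := fun x => ⟨⟨x.1.1, x.2.1, x.1.2, x.2.2.1.1, fun e => M.not_mem_E x.2.2.1.2 (e ▸ one_mem E),
            x.2.2.2⟩, x.1.2, x.2.2⟩
          invFun := fun y => ⟨(y.1.1, y.2.1), y.1.2.1, y.2.2⟩
          left_inv := fun x => rfl
          right_inv := fun y => rfl }
      have hfib : ∀ p : S, Nat.card {g : G // g ∈ W ∧ g • (p : Ω) = p} = Nat.card R - 1 := by
        rintro ⟨p, hp, g, hg, hg1, hgp⟩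
        obtain ⟨R', hR'⟩ := M.exists_fibre hg (hstabmulti g hg hg1 p hp hgp)
        have hset : {x : G | x ∈ W ∧ x • p = p} = (R' : Set G) \ {1} := by
          ext x
          refine ⟨fun hx => ⟨(hR'.stab p hp hgp x hx.1.1).1 hx.2, fun e => M.not_mem_E hx.1.2
            ((Set.mem_singleton_iff.1 e) ▸ one_mem E)⟩, fun hx => ?_⟩
          have hxp := (hR'.stab p hp hgp x (hR'.le hx.1)).2 hx.1
          exact ⟨⟨hR'.le hx.1, hstabmulti x (hR'.le hx.1) (fun e => hx.2 e) p hp hxp⟩, hxp⟩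
        show Nat.card {x : G | x ∈ W ∧ x • p = p} = _
        rw [hset, Nat.card_coe_set_eq, Set.ncard_sdiff (Set.singleton_subset_iff.2 (one_mem R')),
          Set.ncard_singleton, ← hR'.card, ← Nat.card_coe_set_eq]
        rfl
      rw [Nat.card_congr e, Nat.card_sigma, Finset.sum_congr rfl (fun p _ => hfib p), Finset.sum_const,
        Finset.card_univ, smul_eq_mul, ← Nat.card_eq_fintype_card, Nat.card_coe_set_eq]
    have e2 : Nat.card L = W.ncard * q ^ 2 := by
      let e : L ≃ Σ g : W, {p : Ω // (g : G) • p = p ∧ p ≠ a} :=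
        { toFun := fun x => ⟨⟨x.1.2, x.2.2.1⟩, x.1.1, x.2.2.2, x.2.1⟩
          invFun := fun y => ⟨(y.2.1, y.1.1), y.2.2.2, y.1.2, y.2.2.1⟩
          left_inv := fun x => rfl
          right_inv := fun y => rfl }
      have hfib : ∀ g : W, Nat.card {p : Ω // (g : G) • p = p ∧ p ≠ a} = q ^ 2 := by
        rintro ⟨g, hg, hgm⟩
        have h1 : ({p : Ω | g • p = p} : Set Ω).ncard = q ^ 2 + 1 := by
          rw [← Nat.card_coe_set_eq]; exact M.fix_card hgm (M.fixP hg) (fun e he => M.centE hg he)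
        have h2 : Nat.card {p : Ω // g • p = p ∧ p ≠ a} = ({p : Ω | g • p = p} \ {a} : Set Ω).ncard :=
          (Nat.card_coe_set_eq _).symm ▸ rfl
        rw [h2, Set.ncard_sdiff (by simpa using M.fixP hg), Set.ncard_singleton, h1, Nat.add_sub_cancel]
      rw [Nat.card_congr e, Nat.card_sigma, Finset.sum_congr rfl (fun g _ => hfib g), Finset.sum_const,
        Finset.card_univ, smul_eq_mul, ← Nat.card_eq_fintype_card, Nat.card_coe_set_eq]
    exact e1.symm.trans e2
  have hlines : MV.ncard = (K.Line MV '' MV).ncard * (Nat.card R - 1) := by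
    haveI : Fintype (K.Line MV '' MV) := Fintype.ofFinite _
    have hroot : ∀ v ∈ MV, v ≠ 0 := by
      rintro _ ⟨g, hg, hgm, rfl⟩ e
      exact M.not_mem_E hgm ((C.rho_ker g hg).1 e)
    have hline0 : ∀ v ∈ MV, v ∈ K.Line MV v ∧ (0 : F × F × F) ∈ K.Line MV v := by
      rintro _ ⟨g, hg, hgm, rfl⟩
      obtain ⟨R', hR'⟩ := M.exists_fibre hg hgm
      rw [C.line_eq M hg hR']
      exact ⟨⟨g, hR'.mem, rfl⟩, ⟨1, one_mem R', C.rho_one M⟩⟩
    let e : MV ≃ Σ L : (K.Line MV '' MV), {w : F × F × F // w ∈ (L : Set _) ∧ w ≠ 0} :=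
      { toFun := fun v => ⟨⟨K.Line MV v.1, v.1, v.2, rfl⟩, v.1, (hline0 v v.2).1, hroot v v.2⟩
        invFun := fun p => ⟨p.2.1, by
          obtain ⟨⟨L, v, hv, rfl⟩, w, hw, hw0⟩ := p
          exact hw.2.1.resolve_left hw0⟩
        left_inv := fun v => rfl
        right_inv := fun p => by
          obtain ⟨⟨L, v, hv, rfl⟩, w, hw, hw0⟩ := p
          exact Sigma.subtype_ext (Subtype.ext (heq v hv w hw hw0)) rfl }
    rw [← Nat.card_coe_set_eq, Nat.card_congr e, Nat.card_sigma,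
      Finset.sum_congr rfl (fun L _ => ?_), Finset.sum_const, Finset.card_univ, smul_eq_mul,
      ← Nat.card_eq_fintype_card, Nat.card_coe_set_eq]
    obtain ⟨_, v, hv, rfl⟩ := L
    show Nat.card {w : F × F × F // w ∈ K.Line MV v ∧ w ≠ 0} = Nat.card R - 1
    rw [show {w : F × F × F // w ∈ K.Line MV v ∧ w ≠ 0} = ((K.Line MV v \ {0} : Set (F × F × F)) : Type u) from rfl,
      Nat.card_coe_set_eq, Set.ncard_sdiff (Set.singleton_subset_iff.2 (hline0 v hv).2), Set.ncard_singleton,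
      hcardline v hv]
  have hSc : S.ncard = (K.Line MV '' MV).ncard * q ^ 3 := by
    rw [hWcard, hlines] at hSW
    refine Nat.eq_of_mul_eq_mul_right (show 0 < Nat.card R - 1 by omega) ?_
    rw [hSW]; ring
  set Fr : Set Ω := (Set.univ \ {a}) \ S with hFr
  have hfree : Nat.card P ∣ Fr.ncard := by
    refine card_dvd_of_free P Fr (fun g hg p ⟨⟨_, hp⟩, hps⟩ => ⟨⟨trivial, ?_⟩, ?_⟩) fun p ⟨⟨_, hp⟩, hps⟩ g hg hgp => ?_
    · exact fun e => hp (MulAction.injective g ((Set.mem_singleton_iff.1 e).trans (M.fixP hg).symm))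
    · rintro ⟨-, k, hk, hk1, hkp⟩
      refine hps ⟨hp, g⁻¹ * k * g, mul_mem (mul_mem (inv_mem hg) hk) hg, fun e => hk1 ?_,
        by rw [mul_smul, mul_smul, hkp, inv_smul_smul]⟩
      rwa [mul_assoc, inv_mul_eq_one, eq_comm, mul_eq_right] at e
    · by_contra hg1
      exact hps ⟨hp, g, hg, hg1, hgp⟩
  obtain ⟨m, hm⟩ := hfree
  have htot : S.ncard + Fr.ncard = q ^ 3 * o := by
    rw [add_comm, hFr, Set.ncard_sdiff_add_ncard_of_subset (show S ⊆ Set.univ \ {a} from fun p hp => ⟨trivial, hp.1⟩),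
      Set.ncard_sdiff (Set.subset_univ _), Set.ncard_univ, Set.ncard_singleton, ho]
  rw [hSc, hm, M.cardP] at htot
  have ho2 : (K.Line MV '' MV).ncard + Nat.card R * m = o :=
    Nat.eq_of_mul_eq_mul_left (pow_pos M.qpos 3) (by rw [← htot]; ring)
  rw [C.card_A, ← ho2]
  exact (Nat.modEq_iff_dvd' (Nat.le_add_right _ _)).2 ⟨m, by omega⟩

end Coords

namespace TwoModel

variable (M : TwoModel D u a b E q P R X Q η)
include M

/-- `R` has order two. -/
theorem card_R_two : Nat.card R = 2 := by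
  classical
  haveI := Fact.mk Nat.prime_two
  obtain ⟨k, hk⟩ : ∃ k, Nat.card R = 2 ^ k := ⟨_, M.mod.R_card⟩
  have hk1 : k ≠ 0 := fun e => M.u_ne (by
    rw [e, pow_zero] at hk
    exact (Subgroup.eq_bot_iff_forall R).1 (R.card_eq_one.1 hk) u M.mod.u_mem)
  rcases eq_or_ne k 1 with rfl | hk2
  · simpa using hk
  exfalso
  have hR4 : 4 ≤ Nat.card R := hk ▸ le_trans (by norm_num) (Nat.pow_le_pow_right two_pos (show 2 ≤ k by omega))
  have h4R : 4 ∣ Nat.card R := hk ▸ pow_dvd_pow 2 (show 2 ≤ k by omega)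
  obtain ⟨F, _, _, _, K, ρ, ε, C⟩ := M.exists_coords
  obtain ⟨w, o, hw2, hw4, hwq, h4w, h4q, ho, ho1, hcase⟩ := M.count
  have hL := C.lineHyp M o ho
  have hA4 : 4 ≤ Nat.card K.A := C.card_A.symm ▸ hR4
  have hq8 : 8 ≤ Nat.card F := C.card_F.symm ▸ M.q8
  have hpow : ∃ s, Nat.card F = 2 ^ s := by
    obtain ⟨s, -, hs⟩ := M.fr.data.pow
    exact ⟨s, C.card_F.trans hs⟩
  rcases hcase with ⟨hA, hg4⟩ | hB
  · -- all involutions of `P` commute with `u`
    have hmem : ∀ g ∈ P, g * g = 1 → g ∉ E → IsMulti Ω g := by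
      intro g hg hg2 hgE
      refine M.crit.singleMem M.inp.faith _ (orderOf_eq_prime (by rw [pow_two]; exact hg2)
        fun e => hgE (e ▸ one_mem E)) ⟨a, M.fixP hg⟩ fun hD => hgE ?_
      refine M.fr.data.maximal P M.mod.two M.E_le_P g hg ⟨hD, M.fixP hg, ?_⟩
      by_contra hcu
      refine hg4 g ⟨hD, M.fixP hg⟩ ?_
      have hsq : u * g * (u * g) = cB u g := by rw [M.sq_mul M.uP hg, M.usq, hg2, mul_one, mul_one]
      have : orderOf (u * g) = 2 ^ (1 + 1) := orderOf_eq_prime_pow (p := 2)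
        (by rw [pow_one, pow_two, hsq]; exact fun e => hcu (cB_one_iff.1 e).symm)
        (by
          rw [show (2 : ℕ) ^ (1 + 1) = 2 * 2 by norm_num, pow_mul, pow_two (u * g), hsq, pow_two]
          exact M.sqE (M.br_P M.uP hg))
      rw [this]; norm_num
    have hax := K.no_lines hL hpow hq8 hA4 (Or.inl ⟨by
      rw [C.card_F]
      have hq4 := M.q4
      obtain ⟨q', rfl⟩ : ∃ q', q = q' + 1 := ⟨q - 1, by omega⟩
      have ho' : o = q' * (q' + 1) + 1 := by
        have : (q' + 1) * (q' + 1) = q' * (q' + 1) + (q' + 1) := by ring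
        omega
      rw [ho', Nat.mul_comm, Nat.mul_add_mod, Nat.one_mod_eq_one.2 (by omega)], fun v hv hv0 hsq => by
      obtain ⟨g, hg, rfl⟩ := C.rho_surj v hv
      exact ⟨g, hg, hmem g hg ((C.sq_eq_one M hg).2 hsq) fun hE => hv0 ((C.rho_ker g hg).2 hE), rfl⟩⟩)
    refine M.inp.np u a b E q P M.fr M.trans M.mod.two M.mod.sub M.mod.sylow (by rw [M.R2_eq]; exact hR4) ?_
    intro g hg hg2
    rw [C.commute_iff M hg M.uP, C.rho_u]
    have := hax (ρ g) (C.rho_mem g hg) ((C.sq_eq_one M hg).1 hg2)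
    simp [EndTwo.Coord.pol, this.1, this.2]
  · -- one line only
    have ho4 : o % 4 = 2 := by
      have hq4 := M.q4
      obtain ⟨i, hi⟩ := h4q
      obtain ⟨j, hj⟩ := h4w
      have h1 : ((o : ℕ) : ℤ) = 4 * (4 * (i : ℤ) * j - i - j) + 2 := by
        have hi' : (q : ℤ) = 4 * i := by exact_mod_cast hi
        have hj' : (w : ℤ) = 4 * j := by exact_mod_cast hj
        rw [hB]; push_cast [Nat.cast_sub (show 1 ≤ q by omega), Nat.cast_sub (show 1 ≤ w by omega)]
        rw [hi', hj']; ring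
      omega
    have hax := K.no_lines hL hpow hq8 hA4 (Or.inr ⟨ho4, fun e => by
      rw [C.card_F] at e
      have hq4 := M.q4
      obtain ⟨q', rfl⟩ : ∃ q', q = q' + 1 := ⟨q - 1, by omega⟩
      obtain ⟨w', rfl⟩ : ∃ w', w = w' + 2 := ⟨w - 2, by omega⟩
      obtain ⟨d, hd⟩ : ∃ d, q' + 1 = w' + d := ⟨q' + 1 - w', by omega⟩
      have h1 : o = (q' + 1) * w' + (d + 0) := by
        rw [hB, show q' + 1 - 1 = q' from rfl, show w' + 2 - 1 = w' + 1 from rfl]
        have : q' * (w' + 1) = q' * w' + q' := by ring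
        have : (q' + 1) * w' = q' * w' + w' := by ring
        omega
      rw [h1, Nat.mul_add_mod, Nat.mod_eq_of_lt (by omega)] at e
      omega⟩)
    have h1M : ((1, 0, 0) : F × F × F) ∈ multiVec Ω P ρ := hL.axis 1 K.one_mem one_ne_zero
    have hone : K.Line (multiVec Ω P ρ) '' multiVec Ω P ρ = {K.Line (multiVec Ω P ρ) (1, 0, 0)} := by
      refine Set.Subset.antisymm ?_ (by rintro _ rfl; exact ⟨_, h1M, rfl⟩)
      rintro _ ⟨v, hv, rfl⟩
      obtain ⟨hvA, hv0, hsq⟩ := hL.root v hv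
      refine hL.eq _ h1M v ⟨hvA, Or.inr hv, ?_⟩ hv0
      have := hax v hvA hsq
      simp [EndTwo.Coord.pol, this.1, this.2]
    have hc := hL.count
    rw [hone, Set.ncard_singleton, C.card_A] at hc
    have h := hc.of_dvd h4R
    unfold Nat.ModEq at h
    omega

end TwoModel

end CfsgLib.AschCrit
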