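import Mathlib

/-!
Owner: helper15. Aschbacher's criterion, end game of Suzuki type: additive maps of a finite field of
characteristic two.

* `exists_aut_sum`: an additive map is a combination of automorphisms.
* `quad_form`: a multiplicative map with biadditive difference is a product of two automorphisms.
* `pairing_form`: a pairing equivariant for such a map is a single monomial, and then the map is of Suzuki type.
-/

set_option autoImplicit false
set_option linter.style.haveILetI false

namespace CfsgLib.AschCrit.EndTwo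

universe v

variable {F : Type v} [Field F] [Finite F] [CharP F 2]

theorem finite_ringEquiv : Finite (F ≃+* F) :=
  Finite.of_injective (fun f : F ≃+* F => (f : F → F)) fun _ _ h => RingEquiv.ext fun x => congrFun h x

theorem indep : LinearIndependent F (fun g : F ≃+* F => (g : F → F)) :=
  (linearIndependent_monoidHom F F).comp
    (fun g : F ≃+* F => ((g : F →+* F) : F →* F))
    fun _ _ h => RingEquiv.ext fun x => DFunLike.congr_fun h x

/-- A vanishing combination of four automorphisms has coefficient zero at one differing from the others. -/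
theorem coeff_zero {g₁ g₂ g₃ g₄ : F ≃+* F} (h2 : g₁ ≠ g₂) (h3 : g₁ ≠ g₃) (h4 : g₁ ≠ g₄)
    {c₁ c₂ c₃ c₄ : F} (h : ∀ a, c₁ * g₁ a + c₂ * g₂ a + c₃ * g₃ a + c₄ * g₄ a = 0) : c₁ = 0 := by
  classical
  haveI : Finite (F ≃+* F) := finite_ringEquiv; haveI := Fintype.ofFinite (F ≃+* F)
  let k : (F ≃+* F) → F := fun g => (if g₁ = g then c₁ else 0) + (if g₂ = g then c₂ else 0) +
    (if g₃ = g then c₃ else 0) + (if g₄ = g then c₄ else 0)
  have h0 := Fintype.linearIndependent_iff.1 (indep (F := F)) k (funext fun a => by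
    simp [k, add_mul, Finset.sum_add_distrib, h a]) g₁
  simpa [k, h2.symm, h3.symm, h4.symm] using h0

/-- An additive map is a combination of automorphisms. -/
theorem exists_aut_sum (f : F → F) (hf : ∀ a b, f (a + b) = f a + f b) :
    ∃ (s : Finset (F ≃+* F)) (c : (F ≃+* F) → F), (∀ g ∈ s, c g ≠ 0) ∧ ∀ a, f a = ∑ g ∈ s, c g * g a := by
  classical
  haveI : Fact (Nat.Prime 2) := ⟨Nat.prime_two⟩
  letI : Algebra (ZMod 2) F := ZMod.algebra F 2
  haveI : Finite (F ≃+* F) := finite_ringEquiv; haveI := Fintype.ofFinite (F ≃+* F)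
  haveI : Module.Finite (ZMod 2) F := Module.Finite.of_finite
  haveI : IsGalois (ZMod 2) F := GaloisField.instIsGaloisOfFinite
  let emb : (F ≃ₐ[ZMod 2] F) → (F →ₐ[ZMod 2] F) := fun g => g.toAlgHom
  have hemb : Function.Injective emb := fun g h e => AlgEquiv.ext fun x => DFunLike.congr_fun e x
  have hli : LinearIndependent F (fun g : F ≃ₐ[ZMod 2] F => (emb g).toLinearMap) :=
    (linearIndependent_toLinearMap (ZMod 2) F F).comp emb hemb
  have hcard : Fintype.card (F ≃ₐ[ZMod 2] F) = Module.finrank F (F →ₗ[ZMod 2] F) := by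
    rw [Module.finrank_linearMap_self, ← Nat.card_eq_fintype_card, IsGalois.card_aut_eq_finrank]
  have htop := hli.span_eq_top_of_card_eq_finrank' hcard
  obtain ⟨c, hc⟩ := (Submodule.mem_span_range_iff_exists_fun F).1
    (show (AddMonoidHom.mk' f hf).toZModLinearMap 2 ∈ Submodule.span F
      (Set.range fun g : F ≃ₐ[ZMod 2] F => (emb g).toLinearMap) by rw [htop]; trivial)
  let d : (F ≃+* F) → F := fun g => ∑ e ∈ Finset.univ.filter (fun e : F ≃ₐ[ZMod 2] F => e.toRingEquiv = g), c e
  refine ⟨Finset.univ.filter (fun g => d g ≠ 0), d, fun g hg => (Finset.mem_filter.1 hg).2, fun a => ?_⟩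
  rw [Finset.sum_filter_of_ne (p := fun g => d g ≠ 0) fun g _ h e => h (by rw [e, zero_mul])]
  have h1 := LinearMap.congr_fun hc a
  simp only [LinearMap.coe_sum, Finset.sum_apply, LinearMap.smul_apply, AlgHom.toLinearMap_apply,
    smul_eq_mul] at h1
  rw [show f a = ((AddMonoidHom.mk' f hf).toZModLinearMap 2) a from rfl, ← h1,
    ← Finset.sum_fiberwise Finset.univ (fun e : F ≃ₐ[ZMod 2] F => e.toRingEquiv)]
  refine Finset.sum_congr rfl fun g _ => ?_
  rw [show d g * g a = (∑ e ∈ Finset.univ.filter (fun e : F ≃ₐ[ZMod 2] F => e.toRingEquiv = g), c e) * g a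
    from rfl, Finset.sum_mul]
  refine Finset.sum_congr rfl fun e he => ?_
  rw [← (Finset.mem_filter.1 he).2]
  rfl

/-- Additive and multiplicative maps are automorphisms. -/
theorem exists_aut (f : F → F) (hadd : ∀ a b, f (a + b) = f a + f b) (hmul : ∀ a b, f (a * b) = f a * f b)
    (hone : f 1 = 1) : ∃ g : F ≃+* F, ∀ a, g a = f a := by
  have h0 : f 0 = 0 := by
    have := hadd 0 0
    rw [add_zero] at this
    exact left_eq_add.1 this
  let φ : F →+* F :=
    { toFun := f, map_one' := hone, map_mul' := hmul, map_zero' := h0, map_add' := hadd }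
  exact ⟨RingEquiv.ofBijective φ (Finite.injective_iff_bijective.1 φ.injective), fun a => rfl⟩

/-- A multiplicative map whose difference is biadditive is the product of two automorphisms. -/
theorem quad_form (n : F → F) (hmul : ∀ a b, n (a * b) = n a * n b) (hone : n 1 = 1) (h0 : n 0 = 0)
    (hbil : ∀ a a' b, n (a + a' + b) + n (a + a') + n b = (n (a + b) + n a + n b) + (n (a' + b) + n a' + n b))
    (hne : ∃ a, n (a + 1) + n a + 1 ≠ 0) :
    ∃ σ ρ : F ≃+* F, ∀ y, n y = σ y * ρ y := by
  classical
  let B : F → F → F := fun a b => n (a + b) + n a + n b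
  have hB : ∀ a a' b, B (a + a') b = B a b + B a' b := hbil
  have hB' : ∀ a b b', B a (b + b') = B a b + B a b' := fun a b b' => by
    have hs : ∀ x y, B x y = B y x := fun x y => by simp only [B, add_comm x y]; ring
    rw [hs a, hB, hs b, hs b']
  have hscale : ∀ t a b, B (t * a) (t * b) = n t * B a b := fun t a b => by
    simp only [B, ← mul_add, hmul]
  obtain ⟨s, c, hc, hsum⟩ := exists_aut_sum (fun a => B a 1) (fun a b => hB a b 1)
  obtain ⟨a₀, ha₀⟩ := hne
  obtain ⟨σ, hσ⟩ : s.Nonempty := Finset.nonempty_iff_ne_empty.2 fun e => ha₀ (by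
    have := hsum a₀
    simp only [B, hone, e, Finset.sum_empty] at this
    exact this)
  have hBab : ∀ a b, b ≠ 0 → B a b = ∑ g ∈ s, c g * (n b / g b) * g a := fun a b hb => by
    have h := hscale b (a / b) 1
    rw [mul_div_cancel₀ a hb, mul_one] at h
    rw [h, hsum, Finset.mul_sum]
    refine Finset.sum_congr rfl fun g _ => ?_
    rw [map_div₀]; ring
  have hB0 : ∀ a, B a 0 = 0 := fun a => by
    have := hB' a 0 0
    rw [add_zero] at this
    exact left_eq_add.1 this
  let ψ : F → F := fun b => n b / σ b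
  have hψB : ∀ a b, B a b = ∑ g ∈ s, c g * (n b / g b) * g a := fun a b => by
    rcases eq_or_ne b 0 with rfl | hb
    · simp [hB0, h0]
    · exact hBab a b hb
  have hadd : ∀ b b', ψ (b + b') = ψ b + ψ b' := fun b b' => by
    haveI : Finite (F ≃+* F) := finite_ringEquiv; haveI := Fintype.ofFinite (F ≃+* F)
    let k : (F ≃+* F) → F := fun g => if g ∈ s then
      c g * (n (b + b') / g (b + b') + n b / g b + n b' / g b') else 0
    have h := Fintype.linearIndependent_iff.1 (indep (F := F)) k (funext fun a => by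
      have h1 := hB' a b b'
      rw [hψB, hψB, hψB] at h1
      have h2 : B a b + B a b' + (B a b + B a b') = 0 := CharTwo.add_self_eq_zero _
      simp only [k, Finset.sum_apply, Pi.smul_apply, smul_eq_mul, ite_mul, zero_mul, Finset.sum_ite_mem,
        Finset.univ_inter, Pi.zero_apply, mul_add, add_mul, Finset.sum_add_distrib]
      rw [h1]
      rw [hψB, hψB] at h2
      linear_combination h2) σ
    simp only [k, if_pos hσ, mul_eq_zero, hc σ hσ, false_or] at h
    have h3 : ψ (b + b') + (ψ b + ψ b') = 0 := by simp only [ψ]; linear_combination h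
    exact CharTwo.add_eq_zero.1 h3
  obtain ⟨ρ, hρ⟩ := exists_aut ψ hadd (fun a b => by simp only [ψ, hmul, map_mul]; exact (div_mul_div_comm _ _ _ _).symm)
    (by simp [ψ, hone])
  refine ⟨σ, ρ, fun y => ?_⟩
  rw [hρ]
  rcases eq_or_ne y 0 with rfl | hy
  · simp [h0, ψ]
  · simp only [ψ]; rw [mul_div_cancel₀]; simpa using hy

/-- The two products of automorphisms of a Suzuki pairing. -/
theorem mono_cases {θ σ ψ : F ≃+* F} (hfix : ∀ x, θ x = x → x = 0 ∨ x = 1) (h8 : 8 ≤ Nat.card F)
    (h : ∀ y, σ (θ y) * σ y * ψ y = θ y * y) :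
    (∀ x, σ x = θ.symm x) ∧ (∀ y, ψ y = θ.symm y) ∧ (∀ x, θ (θ x) = x ^ 2) ∨
      (∀ x, σ x = θ x) ∧ (∀ y, ψ y = θ (θ y)) ∧ (∀ x, θ (θ x) ^ 2 = x) := by
  classical
  have hid : RingEquiv.refl F ≠ θ := fun e => by
    have hall : ∀ x : F, x = 0 ∨ x = 1 := fun x => hfix x (by rw [← e]; rfl)
    haveI := Fintype.ofFinite F
    have hle : (Finset.univ : Finset F) ⊆ {0, 1} := fun x _ => by simpa using hall x
    have := (Finset.card_le_card hle).trans Finset.card_le_two
    rw [Finset.card_univ, ← Nat.card_eq_fintype_card] at this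
    omega
  set p : F ≃+* F := θ.trans σ with hp
  have hps : p ≠ σ := fun e => hid (RingEquiv.ext fun y => (σ.injective (RingEquiv.congr_fun e y)).symm)
  have h' : ∀ y, p y * σ y * ψ y = θ y * y := h
  have h2 : (2 : F) = 0 := CharTwo.two_eq_zero
  have hψ : ψ = p ∨ ψ = σ := by
    by_contra hcon
    push Not at hcon
    refine hps (RingEquiv.ext fun b => ?_)
    have h3 : ∀ a, (p b * σ 1 + p 1 * σ b) * ψ a + (σ b * ψ 1 + σ 1 * ψ b) * p a +
        (p b * ψ 1 + p 1 * ψ b) * σ a + 0 * σ a = 0 := fun a => by
      have e1 := h' (a + b + 1)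
      have e2 := h' (a + b)
      have e3 := h' (a + 1)
      have e4 := h' (b + 1)
      have e5 := h' a
      have e6 := h' b
      have e7 := h' 1
      simp only [map_add] at e1 e2 e3 e4
      linear_combination e1 - e2 - e3 - e4 + e5 + e6 + e7
    have := coeff_zero hcon.1 hcon.2 hcon.2 h3
    simp only [map_one, mul_one, one_mul] at this
    exact CharTwo.add_eq_zero.1 this
  have hsq : ∀ g : F ≃+* F, ∀ y, g (y ^ 2) = g y * g y := fun g y => by rw [map_pow, pow_two]
  let fr : F ≃+* F := RingEquiv.ofBijective (frobenius F 2)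
    (Finite.injective_iff_bijective.1 (frobenius F 2).injective)
  have hfr : ∀ y, fr y = y ^ 2 := fun y => rfl
  -- two products of two automorphisms agree
  have pair : ∀ o t : F ≃+* F, (∀ y, o y * t y = θ y * y) →
      (o = θ ∧ t = RingEquiv.refl F) ∨ (o = RingEquiv.refl F ∧ t = θ) := by
    intro o t hot
    have hot2 : ∀ a b, t b * o a + o b * t a + b * θ a + θ b * RingEquiv.refl F a = 0 := fun a b => by
      have e1 := hot (a + b)
      simp only [map_add] at e1
      rw [RingEquiv.refl_apply]
      linear_combination e1 - hot a - hot b + (θ a * b + θ b * a) * h2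
    have hne : o ≠ t := fun e => by
      subst e
      obtain ⟨b, hb⟩ : ∃ b : F, θ b + b ≠ 0 := by
        by_contra! hall
        exact hid (RingEquiv.ext fun b => (CharTwo.add_eq_zero.1 (hall b)).symm)
      have e1 := hot2 1 b
      simp only [map_one, mul_one, RingEquiv.refl_apply] at e1
      exact hb (by linear_combination e1 - (o b) * h2)
    have mem : ∀ g g' : F ≃+* F, g ≠ g' → (∀ a b, g' b * g a + g b * g' a + b * θ a + θ b * RingEquiv.refl F a = 0) →
        g = θ ∨ g = RingEquiv.refl F := by
      intro g g' hgg hh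
      by_contra hcon
      push Not at hcon
      have h1 := coeff_zero hgg hcon.1 hcon.2 fun a => hh a 1
      simp at h1
    rcases mem o t hne hot2 with ho | ho <;>
      rcases mem t o hne.symm (fun a b => by rw [← hot2 a b]; ring) with ht | ht
    · exact absurd (ho.trans ht.symm) hne
    · exact Or.inl ⟨ho, ht⟩
    · exact Or.inr ⟨ho, ht⟩
    · exact absurd (ho.trans ht.symm) hne
  rcases hψ with rfl | rfl
  · -- `σ · p²`
    refine Or.inr ?_
    rcases pair σ (fr.trans p) (fun y => by
      show σ y * p (y ^ 2) = _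
      rw [hsq]; linear_combination h' y) with ⟨h1, h3⟩ | ⟨h1, h3⟩
    · subst h1
      refine ⟨fun x => rfl, fun y => rfl, fun x => ?_⟩
      have := RingEquiv.congr_fun h3 x
      calc σ (σ x) ^ 2 = σ (σ (x ^ 2)) := by rw [map_pow, map_pow]
        _ = x := this
    · subst h1
      exfalso
      refine hid ?_
      rw [← h3]
      refine RingEquiv.ext fun y => ?_
      exfalso
      -- `σ = 1` gives `θ (y ^ 2) = θ y`
      have hy : ∀ z : F, z = 0 ∨ z = 1 := fun z => by
        have := RingEquiv.congr_fun h3 z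
        have e : θ (z ^ 2) = θ z := this
        have e' := θ.injective e
        rcases eq_or_ne z 0 with h0 | h0
        · exact Or.inl h0
        · exact Or.inr (mul_left_cancel₀ h0 (by rw [← pow_two, e', mul_one]))
      haveI := Fintype.ofFinite F
      have hle : (Finset.univ : Finset F) ⊆ {0, 1} := fun x _ => by simpa using hy x
      have := (Finset.card_le_card hle).trans Finset.card_le_two
      rw [Finset.card_univ, ← Nat.card_eq_fintype_card] at this
      omega
  · -- `p · σ²`
    rcases pair p (fr.trans ψ) (fun y => by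
      show p y * ψ (y ^ 2) = _
      rw [hsq]; linear_combination h' y) with ⟨h1, h3⟩ | ⟨h1, h3⟩
    · exfalso
      have hσ : ∀ x, ψ x = x := fun x => by
        have := RingEquiv.congr_fun h1 (θ.symm x)
        simpa [hp] using this
      have hy : ∀ z : F, z = 0 ∨ z = 1 := fun z => by
        have e : ψ (z ^ 2) = z := RingEquiv.congr_fun h3 z
        rw [hσ] at e
        rcases eq_or_ne z 0 with h0 | h0
        · exact Or.inl h0
        · exact Or.inr (mul_left_cancel₀ h0 (by rw [← pow_two, e, mul_one]))
      haveI := Fintype.ofFinite F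
      have hle : (Finset.univ : Finset F) ⊆ {0, 1} := fun x _ => by simpa using hy x
      have := (Finset.card_le_card hle).trans Finset.card_le_two
      rw [Finset.card_univ, ← Nat.card_eq_fintype_card] at this
      omega
    · refine Or.inl ?_
      have hσ : ∀ x, ψ x = θ.symm x := fun x => by
        have := RingEquiv.congr_fun h1 (θ.symm x)
        simpa [hp] using this
      refine ⟨hσ, hσ, fun x => ?_⟩
      have e : ψ (x ^ 2) = θ x := RingEquiv.congr_fun h3 x
      rw [hσ] at e
      rw [← e, RingEquiv.apply_symm_apply]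

/-- A non-zero pairing equivariant for `θ y * y` is one monomial, and `θ` or its inverse squares to the
Frobenius map. -/
theorem pairing_form (θ : F ≃+* F) (hfix : ∀ x, θ x = x → x = 0 ∨ x = 1) (h8 : 8 ≤ Nat.card F)
    (K : F → F → F) (hl : ∀ x x' y, K (x + x') y = K x y + K x' y) (hr : ∀ x y y', K x (y + y') = K x y + K x y')
    (heq : ∀ t x y, K (θ t * t * x) (t * y) = θ t * t * K x y) :
    (∀ x y, K x y = 0) ∨
      ∃ c, c ≠ 0 ∧ ((∀ x, θ (θ x) = x ^ 2) ∧ (∀ x y, K x y = c * θ.symm (x * y)) ∨
        (∀ x, θ (θ x) ^ 2 = x) ∧ ∀ x y, K x y = c * θ (x * θ y)) := by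
  classical
  obtain ⟨s, c, hc, hsum⟩ := exists_aut_sum (fun x => K x 1) fun a b => hl a b 1
  set n : F → F := fun y => θ y * y with hn
  have hnm : ∀ a b, n (a * b) = n a * n b := fun a b => by simp only [hn, map_mul]; ring
  have hn0 : ∀ y, y ≠ 0 → n y ≠ 0 := fun y hy => mul_ne_zero (by simpa using hy) hy
  have hK0 : ∀ x, K x 0 = 0 := fun x => by
    have := hr x 0 0
    rw [add_zero] at this
    exact left_eq_add.1 this
  have hform : ∀ x y, K x y = ∑ g ∈ s, c g * (n y / g (n y)) * g x := fun x y => by
    rcases eq_or_ne y 0 with rfl | hy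
    · simp [hK0, hn]
    have h := heq y (x / n y) 1
    rw [show θ y * y * (x / n y) = x from mul_div_cancel₀ x (hn0 y hy), mul_one] at h
    rw [h, hsum, Finset.mul_sum]
    refine Finset.sum_congr rfl fun g _ => ?_
    rw [map_div₀]; ring
  rcases s.eq_empty_or_nonempty with he | ⟨σ, hσ⟩
  · exact Or.inl fun x y => by rw [hform, he, Finset.sum_empty]
  have key : ∀ g ∈ s, ∃ ψ : F ≃+* F, (∀ y, ψ y = n y / g (n y)) ∧
      ∀ y, g (θ y) * g y * ψ y = θ y * y := by
    intro g hg
    obtain ⟨ψ, hψ⟩ := exists_aut (fun y => n y / g (n y)) (fun b b' => by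
      haveI : Finite (F ≃+* F) := finite_ringEquiv; haveI := Fintype.ofFinite (F ≃+* F)
      let k : (F ≃+* F) → F := fun g => if g ∈ s then
        c g * (n (b + b') / g (n (b + b')) + n b / g (n b) + n b' / g (n b')) else 0
      have h := Fintype.linearIndependent_iff.1 (indep (F := F)) k (funext fun a => by
        have h1 := hr a b b'
        rw [hform, hform, hform] at h1
        have h2 : K a b + K a b' + (K a b + K a b') = 0 := CharTwo.add_self_eq_zero _
        simp only [k, Finset.sum_apply, Pi.smul_apply, smul_eq_mul, ite_mul, zero_mul, Finset.sum_ite_mem,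
          Finset.univ_inter, Pi.zero_apply, mul_add, add_mul, Finset.sum_add_distrib]
        rw [h1]
        rw [hform, hform] at h2
        linear_combination h2) g
      simp only [k, if_pos hg, mul_eq_zero, hc g hg, false_or] at h
      exact CharTwo.add_eq_zero.1 (by linear_combination h))
      (fun a b => by rw [hnm, map_mul]; exact (div_mul_div_comm _ _ _ _).symm)
      (by simp [hn])
    refine ⟨ψ, hψ, fun y => ?_⟩
    rcases eq_or_ne y 0 with rfl | hy
    · simp
    rw [hψ, ← map_mul]
    exact mul_div_cancel₀ _ ((map_ne_zero g).2 (hn0 y hy))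
  obtain ⟨ψ, hψ, hσψ⟩ := key σ hσ
  have huniq : s = {σ} := by
    refine Finset.eq_singleton_iff_unique_mem.2 ⟨hσ, fun g hg => ?_⟩
    obtain ⟨χ, -, hgχ⟩ := key g hg
    have four : ∀ z : F, (∀ x, θ (θ x) = x ^ 2) → (∀ x, θ (θ x) ^ 2 = x) → z = 0 ∨ z ^ 3 = 1 := fun z h1 h2 => by
      rcases eq_or_ne z 0 with h0 | h0
      · exact Or.inl h0
      · refine Or.inr (mul_left_cancel₀ h0 ?_)
        have := h2 z
        rw [h1] at this
        linear_combination this
    have noboth : (∀ x, θ (θ x) = x ^ 2) → (∀ x, θ (θ x) ^ 2 = x) → False := fun h1 h2 => by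
      haveI := Fintype.ofFinite F
      let P : Polynomial F := Polynomial.X ^ 4 - Polynomial.X
      have hPd : P.natDegree = 4 := by
        simp only [P]
        rw [Polynomial.natDegree_sub_eq_left_of_natDegree_lt] <;> simp
      have hP0 : P ≠ 0 := fun e => by rw [e, Polynomial.natDegree_zero] at hPd; omega
      have hle : (Finset.univ : Finset F) ⊆ P.roots.toFinset := fun z _ => by
        rw [Multiset.mem_toFinset, Polynomial.mem_roots hP0]
        rcases four z h1 h2 with rfl | h3
        · simp [P]
        · simp only [P, Polynomial.IsRoot, Polynomial.eval_sub, Polynomial.eval_pow, Polynomial.eval_X]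
          linear_combination z * h3
      have := (Finset.card_le_card hle).trans ((Multiset.toFinset_card_le _).trans (Polynomial.card_roots' P))
      rw [Finset.card_univ, ← Nat.card_eq_fintype_card, hPd] at this
      omega
    rcases mono_cases hfix h8 hσψ with ⟨e1, -, t1⟩ | ⟨e1, -, t1⟩ <;>
      rcases mono_cases hfix h8 hgχ with ⟨e2, -, t2⟩ | ⟨e2, -, t2⟩
    · exact RingEquiv.ext fun x => (e2 x).trans (e1 x).symm
    · exact (noboth t1 t2).elim
    · exact (noboth t2 t1).elim
    · exact RingEquiv.ext fun x => (e2 x).trans (e1 x).symm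
  refine Or.inr ⟨c σ, hc σ hσ, ?_⟩
  have hK : ∀ x y, K x y = c σ * ψ y * σ x := fun x y => by
    rw [hform, huniq, Finset.sum_singleton, hψ]
  rcases mono_cases hfix h8 hσψ with ⟨e1, e2, t1⟩ | ⟨e1, e2, t1⟩
  · exact Or.inl ⟨t1, fun x y => by rw [hK, e1, e2, map_mul]; ring⟩
  · exact Or.inr ⟨t1, fun x y => by rw [hK, e1, e2, map_mul]; ring⟩

end CfsgLib.AschCrit.EndTwo
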