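import Cfsg.Agent.Lib.Invol.AschCrit.EndTwo.LargeR
import Cfsg.Agent.Lib.Invol.AschCrit.EndTwo.Fix

/-!
Owner: helper15. Aschbacher's criterion: the end game of Suzuki type.

`Crit.endGame_two`: no frame of type two has a model. `R` has order two, the two-elements normalising `P` fix the
class `u E` and centralise `E`, so `P` is a Sylow group of `G`; an extremal conjugate of `u` in it has first
coordinate one, so transfer gives a normal subgroup of index two. See `notes/aschbacher_proof_v3.md`, section 4.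
-/

set_option autoImplicit false
set_option linter.unusedSectionVars false
set_option linter.style.haveILetI false

namespace CfsgLib.AschCrit

open Subgroup MulAction

universe u v

variable {G : Type u} [Group G] [Finite G] {Ω : Type v} [MulAction G Ω]
variable {D : Set G} {u : G} {a b : Ω} {E : Subgroup G} {q : ℕ} {P R X Q : Subgroup G} {η : G}

namespace TwoModel

variable (M : TwoModel D u a b E q P R X Q η)
include M

/-- The two-elements normalising `P` fix the class. -/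
theorem fix_class (hR : Nat.card R = 2) {n : G} (hn : n ∈ normGrp P a) (hk : ∃ k : ℕ, n ^ 2 ^ k = 1) :
    u⁻¹ * (n * u * n⁻¹) ∈ E := by
  obtain ⟨F, _, _, _, K, ρ, ε, C⟩ := M.exists_coords
  by_cases hc : K.c = 0
  · exact C.fix_of_two M hR hc hn hk
  · exact (C.act_u_iff M hn).1 (C.act_u_of_c M hR hc hn)

/-- `P` is a Sylow group of `G`. -/
theorem exists_sylow (hR : Nat.card R = 2) : ∃ T : Sylow 2 G, (T : Subgroup G) = P := by
  haveI := Fact.mk Nat.prime_two
  obtain ⟨T, hPT, hTa⟩ := M.inp.exists_sylow_at P M.mod.two fun g hg => M.fixP hg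
  refine ⟨T, by_contra fun hne => ?_⟩
  have hlt := CfsgLib.Transfer.lt_inf_normalizer T.2 (lt_of_le_of_ne hPT (Ne.symm hne))
  refine hlt.not_ge fun g hg => ?_
  set K' : Subgroup G := (T : Subgroup G) ⊓ normalizer (P : Set G)
  have hsub : ∀ n ∈ K', n ∈ transGrp u a E := fun n hn => by
    have hnN : n ∈ normGrp P a := ⟨mem_stabilizer_iff.2 (hTa n hn.1), hn.2⟩
    obtain ⟨k, hk⟩ := (T.2.to_le (inf_le_left : K' ≤ (T : Subgroup G))) ⟨n, hn⟩
    have hk' : n ^ 2 ^ k = 1 := by simpa using congrArg Subtype.val hk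
    exact ⟨hTa n hn.1, M.two_cent (fun m hm hm2 => M.fix_class hR hm hm2) k n hnN hk',
      M.fix_class hR hnN ⟨k, hk'⟩⟩
  have heq : P = K' := Subgroup.eq_of_le_of_card_ge (le_inf hPT le_normalizer)
    (M.mod.sylow K' (T.2.to_le inf_le_left) hsub)
  rw [heq]
  exact hg

/-- Transfer: the end game. -/
theorem case_two (hR : Nat.card R = 2) : False := by
  classical
  haveI := Fact.mk Nat.prime_two
  obtain ⟨T, hT⟩ := M.exists_sylow hR
  obtain ⟨F, _, _, _, K, ρ, ε, C⟩ := M.exists_coords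
  have hA := C.A_cases M hR
  let T0 : Subgroup G :=
    { carrier := {g | g ∈ P ∧ (ρ g).1 = 0}
      one_mem' := ⟨one_mem P, by rw [C.rho_one M]; rfl⟩
      mul_mem' := fun {g h} hg hh => ⟨mul_mem hg.1 hh.1, by
        rw [C.rho_mul g hg.1 h hh.1, Prod.fst_add, hg.2, hh.2, add_zero]⟩
      inv_mem' := fun {g} hg => ⟨inv_mem hg.1, by rw [C.rho_inv M hg.1, hg.2]⟩ }
  have hT0 : ∀ g, g ∈ T0 ↔ g ∈ P ∧ (ρ g).1 = 0 := fun _ => Iff.rfl
  have hsub : T0 ≤ (T : Subgroup G) := fun g hg => hT ▸ hg.1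
  have hidx : T0.relIndex (T : Subgroup G) = 2 := by
    rw [hT, relIndex_eq_two_iff]
    refine ⟨u, M.uP, fun g hg => ?_⟩
    have h1 : (ρ (g * u)).1 = (ρ g).1 + 1 := by rw [C.rho_mul g hg u M.uP, Prod.fst_add, C.rho_u]
    have h2 : (1 : F) + 1 = 0 := CharTwo.add_self_eq_zero 1
    have h3 : g * u ∈ T0 ↔ (ρ g).1 + 1 = 0 := by
      rw [hT0, h1]; exact and_iff_right (mul_mem hg M.uP)
    have h4 : g ∈ T0 ↔ (ρ g).1 = 0 := by rw [hT0]; exact and_iff_right hg
    rw [xor_iff_iff_not, h3, h4]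
    rcases hA _ (C.rho_mem g hg) with e | e <;> simp [e, h2]
  suffices hext : ∀ w ∈ (T : Subgroup G), (∃ g : G, g * u * g⁻¹ = w) →
      (∀ L : Subgroup G, IsPGroup 2 L → (∀ x ∈ L, Commute x w) →
        Nat.card L ≤ Nat.card {x : G // x ∈ (T : Subgroup G) ∧ Commute x w}) → w ∉ T0 by
    obtain ⟨N, hN, hNi⟩ := M.inp.xt G T T0 hsub hidx u (hT ▸ M.uP) (fun r g hr _ => by
      obtain ⟨i, rfl⟩ := hr
      rw [← two_mul, pow_mul, pow_two, M.usq, one_pow, mul_one, mul_inv_cancel]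
      exact one_mem T0) hext
    haveI := hN
    obtain ⟨d, e, hd, he, hne, hc⟩ := M.exists_pair
    exact M.crit.no_index_two (M.crit.commMul M.inp.faith) M.inp.top hd he hne hc N hNi
  rintro w hwT ⟨g, hgw⟩ hmax hw0
  have hwP : w ∈ P := hT ▸ hwT
  have hwm : IsMulti Ω w := hgw ▸ M.fr.multi.conj g
  set Cu : Subgroup G := P ⊓ centralizer ({u} : Set G)
  set Cw : Subgroup G := P ⊓ centralizer ({w} : Set G)
  have hcardu : Nat.card Cu = q ^ 2 * Nat.card R := (M.cB_onto M.uP M.fr.multi).2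
  have hcardw : Nat.card Cw = q ^ 2 * Nat.card R := (M.cB_onto hwP hwm).2
  have hmax' : ∀ L : Subgroup G, IsPGroup 2 L → L ≤ centralizer ({w} : Set G) → Nat.card L ≤ Nat.card Cw :=
    fun L hL hLC => (hmax L hL fun x hx => mem_centralizer_singleton_iff.1 (hLC hx)).trans (le_of_eq
      (Nat.card_congr (Equiv.subtypeEquivRight fun x => by rw [hT]; exact (M.centP_spec).symm)))
  obtain ⟨k, hkC, hk⟩ := exists_conj_le (H := centralizer ({w} : Set G)) (P := Cw)
    (K := Cu.map (MulAut.conj g).toMonoidHom) (M.mod.two.to_le inf_le_left) inf_le_right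
    ((M.mod.two.to_le inf_le_left).map _) (by
      rintro _ ⟨x, hx, rfl⟩
      refine mem_centralizer_singleton_iff.2 ?_
      have h := (Commute.conj_iff g).2 (M.centP_spec.1 hx).2
      rw [hgw] at h
      exact h.eq)
    hmax'
  set g' := k * g with hg'
  have hg'u : g' * u * g'⁻¹ = w := by
    rw [hg', show k * g * u * (k * g)⁻¹ = k * (g * u * g⁻¹) * k⁻¹ by group, hgw,
      mem_centralizer_singleton_iff.1 hkC, mul_inv_cancel_right]
  have hmapC : ∀ x ∈ Cu, g' * x * g'⁻¹ ∈ Cw := fun x hx => by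
    rw [hg', show k * g * x * (k * g)⁻¹ = k * (g * x * g⁻¹) * k⁻¹ by group]
    exact hk _ ⟨x, hx, rfl⟩
  have hECu : E ≤ Cu := fun e he => M.centP_spec.2 ⟨M.E_le_P he, (M.centE M.uP he).symm⟩
  have hQCu : Q ≤ Cu := fun y hy => M.centP_spec.2 ⟨M.QP hy, (M.mod.Q_cent y hy).1⟩
  have hgE : ∀ e ∈ E, g' * e * g'⁻¹ ∈ E := fun e he => by
    obtain ⟨y, hy, rfl⟩ := M.mod.Q_sq_onto (by norm_num) e he
    rw [← conj_mul]
    exact M.sq_P (hmapC y (hQCu hy)).1
  have hga : g' • a = a := by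
    obtain ⟨e, he, he1⟩ := M.exists_ne_one
    have hm : g' * e * g'⁻¹ ∈ D := M.crit.conj e (M.memE he he1).1 g'
    refine (M.crit.fix_unique _ hm a _ (M.fixP (hmapC e (hECu he)).1) ?_).symm
    rw [mul_smul, mul_smul, inv_smul_smul, (M.memE he he1).2.1]
  have hgN : g' ∈ normalizer (E : Set G) := mem_normalizer_of_mapsTo hgE
  have hgE' : ∀ e ∈ E, g'⁻¹ * e * g' ∈ E := fun e he =>
    (mem_normalizer_iff.1 hgN _).2 (by rwa [show g' * (g'⁻¹ * e * g') * g'⁻¹ = e by group])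
  have hwmax : ∀ L : Subgroup G, IsPGroup 2 L → L ≤ transSubOne w a E → Nat.card L ≤ Nat.card P := by
    intro L hL hLH
    rw [← card_map_of_injective (f := (MulAut.conj g'⁻¹).toMonoidHom) (MulAut.conj g'⁻¹).injective]
    refine M.mod.sylow _ (hL.map _) ?_
    rintro _ ⟨x, hx, rfl⟩
    obtain ⟨hxa, hxE, hxw⟩ := hLH hx
    refine ⟨?_, fun e he => ?_, ?_⟩
    · show (g'⁻¹ * x * g'⁻¹⁻¹) • a = a
      rw [inv_inv, mul_smul, mul_smul, hga, hxa, inv_smul_eq_iff, hga]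
    · show Commute (g'⁻¹ * x * g'⁻¹⁻¹) e
      have h := (Commute.conj_iff g'⁻¹).2 (hxE _ (hgE e he))
      rwa [show g'⁻¹ * (g' * e * g'⁻¹) * g'⁻¹⁻¹ = e by group] at h
    · show u⁻¹ * (g'⁻¹ * x * g'⁻¹⁻¹ * u * (g'⁻¹ * x * g'⁻¹⁻¹)⁻¹) ∈ E
      have h := hgE' _ hxw
      rw [← hg'u] at h
      rwa [show u⁻¹ * (g'⁻¹ * x * g'⁻¹⁻¹ * u * (g'⁻¹ * x * g'⁻¹⁻¹)⁻¹) =
        g'⁻¹ * ((g' * u * g'⁻¹)⁻¹ * (x * (g' * u * g'⁻¹) * x⁻¹)) * g' by group]
  obtain ⟨m, ⟨hma, hmE, hmw⟩, hm⟩ := exists_conj_le (H := transSubOne w a E) (P := P)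
    (K := P.map (MulAut.conj g').toMonoidHom) M.mod.two (fun x hx => M.mem_transSub hwP hx) (M.mod.two.map _) (by
      rintro _ ⟨x, hx, rfl⟩
      obtain ⟨hxa, hxE, hxu⟩ := M.mod.sub x hx
      refine ⟨?_, fun e he => ?_, ?_⟩
      · show (g' * x * g'⁻¹) • a = a
        rw [mul_smul, mul_smul, inv_smul_eq_iff.2 hga.symm, hxa, hga]
      · show Commute (g' * x * g'⁻¹) e
        have h := (Commute.conj_iff g').2 (hxE _ (hgE' e he))
        rwa [show g' * (g'⁻¹ * e * g') * g'⁻¹ = e by group] at h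
      · show w⁻¹ * (g' * x * g'⁻¹ * w * (g' * x * g'⁻¹)⁻¹) ∈ E
        have h := hgE _ hxu
        rwa [← hg'u, show (g' * u * g'⁻¹)⁻¹ * (g' * x * g'⁻¹ * (g' * u * g'⁻¹) * (g' * x * g'⁻¹)⁻¹) =
          g' * (u⁻¹ * (x * u * x⁻¹)) * g'⁻¹ by group])
    hwmax
  set n := m * g' with hndef
  have hn : n ∈ normGrp P a := ⟨mem_stabilizer_iff.2 (by rw [hndef, mul_smul, hga, hma]),
    mem_normalizer_of_mapsTo fun x hx => by
      rw [hndef, show m * g' * x * (m * g')⁻¹ = m * (g' * x * g'⁻¹) * m⁻¹ by group]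
      exact hm _ ⟨x, hx, rfl⟩⟩
  have hnu : n * u * n⁻¹ = m * w * m⁻¹ := by rw [hndef, ← hg'u]; group
  have hρ : ρ (n * u * n⁻¹) = ρ w := ((C.rho_eq_iff M hwP (M.conjP hn M.uP)).2 (hnu ▸ hmw)).symm
  have hone : (ρ w).1 = 1 := by
    rw [← hρ, ← C.act_rho M hn M.uP, C.rho_u]
    by_cases hc : K.c = 0
    · exact C.act_fst M hR hc hn K.one_mem
    · rw [C.act_u_of_c M hR hc hn]
  exact one_ne_zero (hone.symm.trans hw0.2)

end TwoModel

namespace Crit

variable {D : Set G} (h : Crit Ω D)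
include h

/-- The end game of Suzuki type. -/
theorem endGame_two (hf : Faithful G Ω) (htop : Subgroup.closure D = ⊤) (IH : Below.{v, v} (Nat.card G))
    (hld : LocalDichotomy Ω D) (hform : Formula Ω D) (horb : OrbitBound Ω D) (hsz : SuzukiBound Ω D)
    (htc : TorusCent Ω D) (hhp : HyperplaneProduct.{u}) (hxt : ExtremalTransfer.{u}) (hswap : SuzukiSwap Ω D)
    (hup : UnitaryPrimes Ω D) (hmx : ModelExists Ω D) (hnp : NoPairing Ω D) (haff : TranslationsOrEight.{u}) :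
    EndGame Ω D 2 := by
  intro u a b E q P R X Q η hfr htr hmod
  have M : TwoModel D u a b E q P R X Q η :=
    ⟨⟨⟨h, hf, htop, hld, hform, horb, hsz, htc, hhp, hxt, IH⟩, hswap, hup, hmx, hnp, haff⟩, hfr, htr, hmod⟩
  exact M.case_two M.card_R_two

end Crit

end CfsgLib.AschCrit
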