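import Cfsg.Agent.Lib.Invol.AschCrit.EndTwo.Squares
import Cfsg.Agent.Lib.Invol.AschCrit.EndTwo.Coord

/-!
Owner: helper15. Aschbacher's criterion, end game of Suzuki type: the coordinates of the model.

* `TwoModel.exists_coords`: `P / E` is `A × F × F`, the square is that of `Coord`, the torus scales.
* `Coords.eps_cB`, `Coords.commute_iff`: the commutators.
-/

set_option autoImplicit false
set_option linter.unusedSectionVars false
set_option linter.style.haveILetI false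

namespace CfsgLib.AschCrit

open Subgroup MulAction

universe u v

variable {G : Type u} [Group G] [Finite G] {Ω : Type v} [MulAction G Ω]

/-- Coordinates on `P / E` and `E`. -/
structure Coords (P R E : Subgroup G) (u η : G) (q : ℕ) {F : Type u} [Field F] (K : EndTwo.Coord F)
    (ρ : G → F × F × F) (ε : G → F) : Prop where
  card_F : Nat.card F = q
  card_A : Nat.card K.A = Nat.card R
  rho_mul : ∀ g ∈ P, ∀ g' ∈ P, ρ (g * g') = ρ g + ρ g'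
  rho_mem : ∀ g ∈ P, K.Vec (ρ g)
  rho_surj : ∀ v, K.Vec v → ∃ g ∈ P, ρ g = v
  rho_ker : ∀ g ∈ P, ρ g = 0 ↔ g ∈ E
  rho_u : ρ u = (1, 0, 0)
  rho_R : ∀ g ∈ P, ((ρ g).2.1 = 0 ∧ (ρ g).2.2 = 0) ↔ ∃ r ∈ R, ∃ e ∈ E, g = r * e
  eps_mul : ∀ e ∈ E, ∀ f ∈ E, ε (e * f) = ε e + ε f
  eps_inj : ∀ e ∈ E, ε e = 0 → e = 1
  eps_surj : ∀ z, ∃ e ∈ E, ε e = z
  eps_sq : ∀ g ∈ P, ε (g * g) = K.sq (ρ g)
  act : ∀ t : F, t ≠ 0 → ∃ j : ℕ, (∀ g ∈ P, ρ (η ^ j * g * (η ^ j)⁻¹) = K.scale t (ρ g)) ∧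
    ∀ e ∈ E, ε (η ^ j * e * (η ^ j)⁻¹) = K.θ t * t * ε e

namespace TwoModel

variable {D : Set G} {u : G} {a b : Ω} {E : Subgroup G} {q : ℕ} {P R X Q : Subgroup G} {η : G}
  (M : TwoModel D u a b E q P R X Q η)
include M

theorem cB_RX {r x : G} (hr : r ∈ R) (hx : x ∈ X) : cB r x ∈ E := M.mod.RX r hr x hx

theorem cB_eta {r x : G} (hr : r ∈ R) (j : ℕ) :
    cB r (η ^ j * x * (η ^ j)⁻¹) = η ^ j * cB r x * (η ^ j)⁻¹ := by
  rw [← cB_conj (η ^ j) r x, (M.eta_pow_norm j).2.2 r hr]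

set_option maxHeartbeats 1000000 in
/-- The coordinates exist. -/
theorem exists_coords : ∃ (F : Type u) (_ : Field F) (_ : Finite F) (_ : CharP F 2) (K : EndTwo.Coord F)
    (ρ : G → F × F × F) (ε : G → F), Coords P R E u η q K ρ ε := by
  classical
  obtain ⟨F, _, _, _, θ₀, ι₀, ε, S⟩ := M.exists_squares
  have hF8 : 8 ≤ Nat.card F := S.card_F.symm ▸ M.q8
  have hF2 : (2 : F) = 0 := CharTwo.two_eq_zero
  have heps1 : ε 1 = 0 := by
    have := S.eps_mul 1 (one_mem E) 1 (one_mem E)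
    rw [one_mul] at this
    exact left_eq_add.1 this
  -- the coordinate on `X`
  set ξ : G → F := fun x => ε (cB u x) with hξ
  have huR := M.mod.u_mem
  have hξm : ∀ x ∈ X, ∀ x' ∈ X, ξ (x * x') = ξ x + ξ x' := fun x hx x' hx' => by
    rw [hξ]
    dsimp only
    rw [M.cB_right M.uP (M.XP hx) (M.XP hx'), S.eps_mul _ (M.cB_RX huR hx) _ (M.cB_RX huR hx')]
  have hξE : ∀ x ∈ X, ξ x = 0 ↔ x ∈ E := fun x hx =>
    ⟨fun h => M.mod.RX_ker u huR M.u_ne x hx (cB_one_iff.1 (S.eps_inj _ (M.cB_RX huR hx) h)),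
      fun h => by rw [hξ]; dsimp only; rw [M.cB_E_right M.uP h, heps1]⟩
  have hξs : ∀ z, ∃ x ∈ X, ξ x = z := fun z => by
    obtain ⟨e, he, rfl⟩ := S.eps_surj z
    obtain ⟨x, hx, hxe⟩ := M.mod.RX_onto u huR M.u_ne e he
    exact ⟨x, hx, congrArg ε hxe⟩
  have hact : ∀ t : F, t ≠ 0 → ∃ j : ℕ, (∀ x ∈ X, ξ (η ^ j * x * (η ^ j)⁻¹) = θ₀ t * t * ξ x) ∧
      (∀ y ∈ Q, ι₀ (η ^ j * y * (η ^ j)⁻¹) = t * ι₀ y) ∧
        ∀ e ∈ E, ε (η ^ j * e * (η ^ j)⁻¹) = θ₀ t * t * ε e := fun t ht => by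
    obtain ⟨j, h1, h2⟩ := S.act t ht
    refine ⟨j, fun x hx => ?_, h1, h2⟩
    rw [hξ]
    dsimp only
    rw [M.cB_eta huR j, h2 _ (M.cB_RX huR hx)]
  choose xr hxrX hxr using hξs
  choose yr hyrQ hyr using S.iota_surj
  -- values on classes
  have hX : ∀ (h : G) (_ : h ∈ P) (x : G) (_ : x ∈ X), ε (cB h x) = ε (cB h (xr (ξ x))) := by
    intro h hh x hx
    have he : (xr (ξ x))⁻¹ * x ∈ E := by
      refine (hξE _ (mul_mem (inv_mem (hxrX _)) hx)).1 ?_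
      have h1 := hξm _ (hxrX (ξ x)) _ (mul_mem (inv_mem (hxrX (ξ x))) hx)
      rw [mul_inv_cancel_left, hxr] at h1
      exact left_eq_add.1 h1
    conv_lhs => rw [show x = xr (ξ x) * ((xr (ξ x))⁻¹ * x) by group]
    rw [M.cB_right hh (M.XP (hxrX _)) (M.E_le_P he), M.cB_E_right hh he, mul_one]
  have hY : ∀ (h : G) (_ : h ∈ P) (y : G) (_ : y ∈ Q), ε (cB h y) = ε (cB h (yr (ι₀ y))) := by
    intro h hh y hy
    have he : (yr (ι₀ y))⁻¹ * y ∈ E := by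
      refine (S.iota_E _ (mul_mem (inv_mem (hyrQ _)) hy)).1 ?_
      have h1 := S.iota_mul _ (hyrQ (ι₀ y)) _ (mul_mem (inv_mem (hyrQ (ι₀ y))) hy)
      rw [mul_inv_cancel_left, hyr] at h1
      exact left_eq_add.1 h1
    conv_lhs => rw [show y = yr (ι₀ y) * ((yr (ι₀ y))⁻¹ * y) by group]
    rw [M.cB_right hh (M.QP (hyrQ _)) (M.E_le_P he), M.cB_E_right hh he, mul_one]
  -- the action of `R`
  obtain ⟨t₀, ht₀, hgen⟩ : ∃ τ : F, (∃ t : F, t ≠ 0 ∧ θ₀ t * t = τ) ∧ ∀ z : F, z ≠ 0 → ∃ j : ℕ, τ ^ j = z := by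
    haveI := Fintype.ofFinite F
    obtain ⟨g, hg⟩ := IsCyclic.exists_monoid_generator (α := Fˣ)
    obtain ⟨t, ht⟩ := (Finite.injective_iff_surjective.1 (fun y y' (h : θ₀ y * y = θ₀ y' * y') => by
      rcases eq_or_ne y' 0 with rfl | hy'
      · rw [map_zero, zero_mul, mul_eq_zero, EmbeddingLike.map_eq_zero_iff, or_self] at h
        exact h
      · refine eq_of_div_eq_one (S.inj _ ?_)
        rw [map_div₀, div_mul_div_comm, h, div_self (mul_ne_zero (by simpa using hy') hy')]) :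
      Function.Surjective fun y => θ₀ y * y) (g : F)
    refine ⟨(g : F), ⟨t, fun e => g.ne_zero (by rw [← ht]; simp [e]), ht⟩, fun z hz => ?_⟩
    obtain ⟨j, hj⟩ := (hg (Units.mk0 z hz) : _)
    exact ⟨j, by have := congrArg Units.val hj; simpa using this⟩
  obtain ⟨t, ht, rfl⟩ := ht₀
  obtain ⟨j, hjX, -, hjE⟩ := hact t ht
  have hscalar : ∀ r ∈ R, ∀ x ∈ X, ε (cB r x) = ε (cB r (xr 1)) * ξ x := fun r hr x hx => by
    have h1 := scalar_of_gen (fun z => ε (cB r (xr z))) (fun z w => by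
      have h2 := hX r (M.RP hr) _ (mul_mem (hxrX z) (hxrX w))
      rw [hξm _ (hxrX z) _ (hxrX w), hxr, hxr] at h2
      rw [← h2, M.cB_right (M.RP hr) (M.XP (hxrX z)) (M.XP (hxrX w)),
        S.eps_mul _ (M.cB_RX hr (hxrX z)) _ (M.cB_RX hr (hxrX w))]) _ hgen (fun z => by
      have h2 := hX r (M.RP hr) _ ((M.eta_pow_norm j).1 _ (hxrX z))
      rw [hjX _ (hxrX z), hxr] at h2
      rw [← h2, M.cB_eta hr j, hjE _ (M.cB_RX hr (hxrX z))])
    rw [hX r (M.RP hr) x hx]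
    exact h1 (ξ x)
  set α : G → F := fun r => ε (cB r (xr 1)) with hα
  have hαm : ∀ r ∈ R, ∀ r' ∈ R, α (r * r') = α r + α r' := fun r hr r' hr' => by
    rw [hα]; dsimp only
    rw [M.cB_left (M.RP hr) (M.RP hr') (M.XP (hxrX 1)), S.eps_mul _ (M.cB_RX hr (hxrX 1)) _ (M.cB_RX hr' (hxrX 1))]
  have hαu : α u = 1 := hxr 1
  have hα1 : α 1 = 0 := by
    have := hαm 1 (one_mem R) 1 (one_mem R)
    rw [one_mul] at this
    exact left_eq_add.1 this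
  have hαinj : ∀ r ∈ R, α r = 0 → r = 1 := fun r hr h => by
    by_contra hr1
    have hxE : xr 1 ∉ E := fun hE => one_ne_zero ((hxr 1).symm.trans ((hξE _ (hxrX 1)).2 hE))
    exact hxE (M.mod.RX_ker r hr hr1 _ (hxrX 1) (cB_one_iff.1 (S.eps_inj _ (M.cB_RX hr (hxrX 1)) h)))
  -- the squares in `X`
  have hsqX : ∀ x ∈ X, ε (x * x) = ε (xr 1 * xr 1) * ξ x := fun x hx => by
    have hsub : ∀ z ∈ X, ∀ w ∈ X, ε (z * w * (z * w)) = ε (z * z) + ε (w * w) := fun z hz w hw => by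
      rw [M.sq_mul (M.XP hz) (M.XP hw), cB_one_iff.2 (M.mod.X_comm z hz w hw), one_mul,
        S.eps_mul _ (M.mod.X_sq z hz) _ (M.mod.X_sq w hw)]
    have hcl : ∀ z ∈ X, ε (z * z) = ε (xr (ξ z) * xr (ξ z)) := fun z hz => by
      have he : (xr (ξ z))⁻¹ * z ∈ E := by
        refine (hξE _ (mul_mem (inv_mem (hxrX _)) hz)).1 ?_
        have h1 := hξm _ (hxrX (ξ z)) _ (mul_mem (inv_mem (hxrX (ξ z))) hz)
        rw [mul_inv_cancel_left, hxr] at h1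
        exact left_eq_add.1 h1
      conv_lhs => rw [show z = xr (ξ z) * ((xr (ξ z))⁻¹ * z) by group]
      rw [hsub _ (hxrX _) _ (M.mod.E_X he), M.sqE he, heps1, add_zero]
    rw [hcl x hx]
    refine scalar_of_gen (fun z => ε (xr z * xr z)) (fun z w => ?_) _ hgen (fun z => ?_) (ξ x)
    · have h2 := hcl _ (mul_mem (hxrX z) (hxrX w))
      rw [hξm _ (hxrX z) _ (hxrX w), hxr, hxr, hsub _ (hxrX z) _ (hxrX w)] at h2
      exact h2.symm
    · have h2 := hcl _ ((M.eta_pow_norm j).1 _ (hxrX z))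
      rw [hjX _ (hxrX z), hxr, show η ^ j * xr z * (η ^ j)⁻¹ * (η ^ j * xr z * (η ^ j)⁻¹) =
        η ^ j * (xr z * xr z) * (η ^ j)⁻¹ by group, hjE _ (M.mod.X_sq _ (hxrX z))] at h2
      exact h2.symm
  -- the pairing
  set κ : F → F → F := fun z w => ε (cB (xr z) (yr w)) with hκdef
  have hκ : ∀ x ∈ X, ∀ y ∈ Q, ε (cB x y) = κ (ξ x) (ι₀ y) := fun x hx y hy => by
    rw [hκdef]; dsimp only
    rw [hY x (M.XP hx) y hy, ← M.cB_symm (M.XP hx) (M.QP (hyrQ _)), hX _ (M.QP (hyrQ _)) x hx,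
      M.cB_symm (M.XP (hxrX _)) (M.QP (hyrQ _))]
  have hκl : ∀ z z' w, κ (z + z') w = κ z w + κ z' w := fun z z' w => by
    have h2 := hκ _ (mul_mem (hxrX z) (hxrX z')) _ (hyrQ w)
    rw [hξm _ (hxrX z) _ (hxrX z'), hxr, hxr, hyr, M.cB_left (M.XP (hxrX z)) (M.XP (hxrX z')) (M.QP (hyrQ w)),
      S.eps_mul _ (M.br_P (M.XP (hxrX z)) (M.QP (hyrQ w))) _ (M.br_P (M.XP (hxrX z')) (M.QP (hyrQ w)))] at h2
    exact h2.symm
  have hκr : ∀ z w w', κ z (w + w') = κ z w + κ z w' := fun z w w' => by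
    have h2 := hκ _ (hxrX z) _ (mul_mem (hyrQ w) (hyrQ w'))
    rw [S.iota_mul _ (hyrQ w) _ (hyrQ w'), hxr, hyr, hyr, M.cB_right (M.XP (hxrX z)) (M.QP (hyrQ w)) (M.QP (hyrQ w')),
      S.eps_mul _ (M.br_P (M.XP (hxrX z)) (M.QP (hyrQ w))) _ (M.br_P (M.XP (hxrX z)) (M.QP (hyrQ w')))] at h2
    exact h2.symm
  have hκt : ∀ s z w, κ (θ₀ s * s * z) (s * w) = θ₀ s * s * κ z w := fun s z w => by
    rcases eq_or_ne s 0 with rfl | hs
    · have h0 : ∀ z, κ z 0 = 0 := fun z => by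
        have := hκr z 0 0
        rw [add_zero] at this
        exact left_eq_add.1 this
      simp [h0]
    obtain ⟨i, hiX, hiQ, hiE⟩ := hact s hs
    have h2 := hκ _ ((M.eta_pow_norm i).1 _ (hxrX z)) _ ((M.eta_pow_norm i).2.1 _ (hyrQ w))
    rw [hiX _ (hxrX z), hiQ _ (hyrQ w), hxr, hyr, cB_conj, hiE _ (M.br_P (M.XP (hxrX z)) (M.QP (hyrQ w)))] at h2
    exact h2.symm
  -- the normal form
  obtain ⟨θ, ι, c, hθfix, hθinj, htw, hιm, hιE, hιs, hιsq, hιpair, hιact⟩ :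
      ∃ (θ : F ≃+* F) (ι : G → F) (c : F), (∀ z, θ z = z → z = 0 ∨ z = 1) ∧ (∀ z, θ z * z = 1 → z = 1) ∧
        (c ≠ 0 → ∀ z, θ (θ z) = z ^ 2) ∧ (∀ y ∈ Q, ∀ y' ∈ Q, ι (y * y') = ι y + ι y') ∧
        (∀ y ∈ Q, ι y = 0 ↔ y ∈ E) ∧ (∀ z, ∃ y ∈ Q, ι y = z) ∧ (∀ y ∈ Q, ε (y * y) = θ (ι y) * ι y) ∧
        (∀ x ∈ X, ∀ y ∈ Q, ε (cB x y) = c * θ.symm (ξ x * ι y)) ∧
        ∀ s : F, s ≠ 0 → ∃ i : ℕ, (∀ x ∈ X, ξ (η ^ i * x * (η ^ i)⁻¹) = θ s * s * ξ x) ∧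
          (∀ y ∈ Q, ι (η ^ i * y * (η ^ i)⁻¹) = s * ι y) ∧
            ∀ e ∈ E, ε (η ^ i * e * (η ^ i)⁻¹) = θ s * s * ε e := by
    rcases EndTwo.pairing_form θ₀ S.θfix hF8 κ hκl hκr hκt with h0 | ⟨c, -, ⟨htw, hK⟩ | ⟨htw, hK⟩⟩
    · exact ⟨θ₀, ι₀, 0, S.θfix, S.inj, fun h => absurd rfl h, S.iota_mul, S.iota_E, S.iota_surj, S.iota_sq,
        fun x hx y hy => by rw [hκ x hx y hy, h0, zero_mul], hact⟩
    · exact ⟨θ₀, ι₀, c, S.θfix, S.inj, fun _ => htw, S.iota_mul, S.iota_E, S.iota_surj, S.iota_sq,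
        fun x hx y hy => by rw [hκ x hx y hy, hK], hact⟩
    · -- the mirrored pairing
      refine ⟨θ₀.symm, fun y => θ₀ (ι₀ y), c, fun z hz => ?_, fun z hz => ?_, fun _ z => ?_,
        fun y hy y' hy' => by simp only [S.iota_mul y hy y' hy', map_add],
        fun y hy => by simp only [EmbeddingLike.map_eq_zero_iff, S.iota_E y hy], fun z => ?_,
        fun y hy => by simp only [RingEquiv.symm_apply_apply, S.iota_sq y hy, mul_comm],
        fun x hx y hy => by simp only [RingEquiv.symm_symm, hκ x hx y hy, hK], fun s hs => ?_⟩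
      · refine S.θfix z ?_
        conv_lhs => rw [← hz]
        exact θ₀.apply_symm_apply z
      · have h1 := S.inj (θ₀.symm z) (by rw [RingEquiv.apply_symm_apply, mul_comm]; exact hz)
        rw [← θ₀.apply_symm_apply z, h1, map_one]
      · have h1 := htw (θ₀.symm (θ₀.symm z))
        rw [RingEquiv.apply_symm_apply, RingEquiv.apply_symm_apply] at h1
        exact h1.symm
      · obtain ⟨y, hy, hye⟩ := S.iota_surj (θ₀.symm z)
        exact ⟨y, hy, by simp [hye]⟩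
      · obtain ⟨i, h1, h2, h3⟩ := hact (θ₀.symm s) (by simpa using hs)
        have e : θ₀ (θ₀.symm s) * θ₀.symm s = θ₀.symm s * s := by rw [RingEquiv.apply_symm_apply]; ring
        exact ⟨i, fun x hx => by rw [h1 x hx, e], fun y hy => by simp [h2 y hy],
          fun e' he' => by rw [h3 e' he', e]⟩
  let A : AddSubgroup F :=
    { carrier := {z | ∃ r ∈ R, α r = z}
      zero_mem' := ⟨1, one_mem R, hα1⟩
      add_mem' := by
        rintro _ _ ⟨r, hr, rfl⟩ ⟨r', hr', rfl⟩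
        exact ⟨r * r', mul_mem hr hr', hαm r hr r' hr'⟩
      neg_mem' := by
        rintro z hz
        rwa [CharTwo.neg_eq] }
  let K : EndTwo.Coord F :=
    { A := A, one_mem := ⟨u, huR, hαu⟩, θ := θ, θfix := hθfix, inj := hθinj, lam := ε (xr 1 * xr 1), c := c,
      tw := htw }
  let ρ : G → F × F × F := fun g => if hg : g ∈ P then
    (α (M.decomp hg).choose, ξ (M.decomp hg).choose_spec.2.choose,
      ι (M.decomp hg).choose_spec.2.choose_spec.2.choose) else 0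
  have hρ : ∀ r ∈ R, ∀ x ∈ X, ∀ y ∈ Q, ρ (r * x * y) = (α r, ξ x, ι y) := by
    intro r hr x hx y hy
    have hg : r * x * y ∈ P := mul_mem (mul_mem (M.RP hr) (M.XP hx)) (M.QP hy)
    simp only [ρ, dif_pos hg]
    set r' := (M.decomp hg).choose
    have hr' : r' ∈ R := (M.decomp hg).choose_spec.1
    set x' := (M.decomp hg).choose_spec.2.choose
    have hx' : x' ∈ X := (M.decomp hg).choose_spec.2.choose_spec.1
    set y' := (M.decomp hg).choose_spec.2.choose_spec.2.choose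
    have hy' : y' ∈ Q := (M.decomp hg).choose_spec.2.choose_spec.2.choose_spec.1
    have he : r * x * y = r' * x' * y' := (M.decomp hg).choose_spec.2.choose_spec.2.choose_spec.2
    obtain ⟨e, heE, h1⟩ := M.mul_form hr hr' hx hx' hy hy'
    have hE : r * r' * (x * x') * (y * y') ∈ E := by
      have h2 := mul_mem (M.sq_P hg) (inv_mem heE)
      nth_rw 2 [he] at h2
      rwa [h1, mul_inv_cancel_right] at h2
    obtain ⟨f1, f2, f3⟩ := M.indep (mul_mem hr hr') (mul_mem hx hx') (mul_mem hy hy') hE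
    refine Prod.ext ?_ (Prod.ext ?_ ?_)
    · refine (CharTwo.add_eq_zero.1 ?_).symm
      show α r + α r' = 0
      rw [← hαm r hr r' hr', f1, hα1]
    · refine (CharTwo.add_eq_zero.1 ?_).symm
      show ξ x + ξ x' = 0
      rw [← hξm x hx x' hx', (hξE _ (mul_mem hx hx')).2 f2]
    · refine (CharTwo.add_eq_zero.1 ?_).symm
      show ι y + ι y' = 0
      rw [← hιm y hy y' hy', (hιE _ (mul_mem hy hy')).2 f3]
  have hι1 : ι 1 = 0 := (hιE 1 (one_mem Q)).2 (one_mem E)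
  have hρE : ∀ e ∈ E, ρ e = 0 := fun e he => by
    have := hρ 1 (one_mem R) e (M.mod.E_X he) 1 (one_mem Q)
    rw [one_mul, mul_one, hα1, (hξE e (M.mod.E_X he)).2 he, hι1] at this
    exact this
  have hρm : ∀ g ∈ P, ∀ g' ∈ P, ρ (g * g') = ρ g + ρ g' := by
    intro g hg g' hg'
    obtain ⟨r, hr, x, hx, y, hy, rfl⟩ := M.decomp hg
    obtain ⟨r', hr', x', hx', y', hy', rfl⟩ := M.decomp hg'
    obtain ⟨e, he, h1⟩ := M.mul_form hr hr' hx hx' hy hy'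
    rw [h1, mul_assoc (r * r' * (x * x')), hρ r hr x hx y hy, hρ r' hr' x' hx' y' hy',
      hρ _ (mul_mem hr hr') _ (mul_mem hx hx') _ (mul_mem (mul_mem hy hy') (M.mod.E_Q he)),
      hαm r hr r' hr', hξm x hx x' hx', hιm _ (mul_mem hy hy') e (M.mod.E_Q he), hιm y hy y' hy',
      (hιE e (M.mod.E_Q he)).2 he, add_zero]
    rfl
  refine ⟨F, inferInstance, inferInstance, inferInstance, K, ρ, ε, S.card_F, ?_, hρm, fun g hg => ?_, ?_,
    fun g hg => ?_, ?_, fun g hg => ?_, S.eps_mul, S.eps_inj, S.eps_surj, fun g hg => ?_, fun s hs => ?_⟩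
  · refine (Nat.card_eq_of_bijective (fun r : R => (⟨α r, r, r.2, rfl⟩ : A)) ⟨fun r r' h => ?_, ?_⟩).symm
    · have h1 : α r = α r' := congrArg Subtype.val h
      have h2 := hαinj _ (mul_mem r.2 r'.2) (by rw [hαm r r.2 r' r'.2, h1, CharTwo.add_self_eq_zero])
      exact Subtype.ext ((eq_inv_of_mul_eq_one_left h2).trans (M.rinv r'.2))
    · rintro ⟨_, r, hr, rfl⟩
      exact ⟨⟨r, hr⟩, rfl⟩
  · obtain ⟨r, hr, x, hx, y, hy, rfl⟩ := M.decomp hg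
    rw [hρ r hr x hx y hy]
    exact ⟨r, hr, rfl⟩
  · rintro ⟨z₁, z₂, z₃⟩ ⟨r, hr, rfl⟩
    obtain ⟨y, hy, rfl⟩ := hιs z₃
    exact ⟨r * xr z₂ * y, mul_mem (mul_mem (M.RP hr) (M.XP (hxrX _))) (M.QP hy), by rw [hρ r hr _ (hxrX _) y hy, hxr]⟩
  · refine ⟨fun h => ?_, hρE g⟩
    obtain ⟨r, hr, x, hx, y, hy, rfl⟩ := M.decomp hg
    rw [hρ r hr x hx y hy, Prod.mk_eq_zero, Prod.mk_eq_zero] at h
    rw [hαinj r hr h.1, one_mul]
    exact mul_mem ((hξE x hx).1 h.2.1) ((hιE y hy).1 h.2.2)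
  · have := hρ u huR 1 (one_mem X) 1 (one_mem Q)
    rw [mul_one, mul_one, hαu, (hξE 1 (one_mem X)).2 (one_mem E), hι1] at this
    exact this
  · obtain ⟨r, hr, x, hx, y, hy, rfl⟩ := M.decomp hg
    rw [hρ r hr x hx y hy]
    refine ⟨fun ⟨h1, h2⟩ => ⟨r, hr, x * y, mul_mem ((hξE x hx).1 h1) ((hιE y hy).1 h2), mul_assoc r x y⟩, ?_⟩
    rintro ⟨r', hr', e, he, h⟩
    have h1 : ρ (r' * e * 1) = (α r', ξ e, ι 1) := hρ r' hr' e (M.mod.E_X he) 1 (one_mem Q)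
    rw [mul_one, ← h, hρ r hr x hx y hy, (hξE e (M.mod.E_X he)).2 he, hι1, Prod.mk.injEq, Prod.mk.injEq] at h1
    exact ⟨h1.2.1, h1.2.2⟩
  · obtain ⟨r, hr, x, hx, y, hy, rfl⟩ := M.decomp hg
    have hrx := mul_mem (M.RP hr) (M.XP hx)
    rw [hρ r hr x hx y hy, M.sq_mul hrx (M.QP hy), M.cB_left (M.RP hr) (M.XP hx) (M.QP hy),
      cB_one_iff.2 ((M.mod.Q_cent y hy).2 r hr).symm, one_mul, M.sq_mul (M.RP hr) (M.XP hx), M.mod.R_sq r hr, mul_one,
      S.eps_mul _ (mul_mem (M.br_P (M.XP hx) (M.QP hy)) (mul_mem (M.cB_RX hr hx) (M.mod.X_sq x hx))) _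
        (M.mod.Q_sq y hy),
      S.eps_mul _ (M.br_P (M.XP hx) (M.QP hy)) _ (mul_mem (M.cB_RX hr hx) (M.mod.X_sq x hx)),
      S.eps_mul _ (M.cB_RX hr hx) _ (M.mod.X_sq x hx), hιpair x hx y hy, hscalar r hr x hx, hsqX x hx, hιsq y hy]
    simp only [EndTwo.Coord.sq, K, α]
    ring
  · obtain ⟨i, h1, h2, h3⟩ := hιact s hs
    refine ⟨i, fun g hg => ?_, h3⟩
    obtain ⟨r, hr, x, hx, y, hy, rfl⟩ := M.decomp hg
    rw [show η ^ i * (r * x * y) * (η ^ i)⁻¹ =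
      η ^ i * r * (η ^ i)⁻¹ * (η ^ i * x * (η ^ i)⁻¹) * (η ^ i * y * (η ^ i)⁻¹) by group,
      (M.eta_pow_norm i).2.2 r hr, hρ r hr _ ((M.eta_pow_norm i).1 x hx) _ ((M.eta_pow_norm i).2.1 y hy),
      hρ r hr x hx y hy, h1 x hx, h2 y hy]
    rfl

end TwoModel

namespace Coords

variable {D : Set G} {u : G} {a b : Ω} {E : Subgroup G} {q : ℕ} {P R X Q : Subgroup G} {η : G}
variable {F : Type u} [Field F] [CharP F 2] {K : EndTwo.Coord F} {ρ : G → F × F × F} {ε : G → F}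
variable (C : Coords P R E u η q K ρ ε) (M : TwoModel D u a b E q P R X Q η)
include C M

theorem eps_one : ε 1 = 0 := by
  have := C.eps_mul 1 (one_mem E) 1 (one_mem E)
  rw [one_mul] at this
  exact left_eq_add.1 this

theorem eps_eq_zero {e : G} (he : e ∈ E) : ε e = 0 ↔ e = 1 :=
  ⟨C.eps_inj e he, fun h => h ▸ C.eps_one M⟩

theorem eps_injOn {e f : G} (he : e ∈ E) (hf : f ∈ E) (h : ε e = ε f) : e = f := by
  have h1 := C.eps_inj _ (mul_mem he hf) (by rw [C.eps_mul e he f hf, h, CharTwo.add_self_eq_zero])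
  exact (eq_inv_of_mul_eq_one_left h1).trans (M.einv hf)

theorem rho_one : ρ 1 = 0 := (C.rho_ker 1 (one_mem P)).2 (one_mem E)

theorem rho_inv {g : G} (hg : g ∈ P) : ρ g⁻¹ = ρ g := by
  have h := C.rho_mul g hg g⁻¹ (inv_mem hg)
  rw [mul_inv_cancel, C.rho_one M] at h
  exact (CharTwo.add_eq_zero.1 h.symm : ρ g = ρ g⁻¹).symm

theorem rho_eq_iff {g g' : G} (hg : g ∈ P) (hg' : g' ∈ P) : ρ g = ρ g' ↔ g⁻¹ * g' ∈ E := by
  rw [← C.rho_ker _ (mul_mem (inv_mem hg) hg'), C.rho_mul _ (inv_mem hg) _ hg', C.rho_inv M hg, CharTwo.add_eq_zero]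

theorem sq_eq_one {g : G} (hg : g ∈ P) : g * g = 1 ↔ K.sq (ρ g) = 0 := by
  rw [← C.eps_sq g hg, C.eps_eq_zero M (M.sq_P hg)]

/-- The commutator is the polar form. -/
theorem eps_cB {g g' : G} (hg : g ∈ P) (hg' : g' ∈ P) : ε (cB g g') = K.pol (ρ g) (ρ g') := by
  have h := C.eps_sq _ (mul_mem hg hg')
  rw [M.sq_mul hg hg', C.eps_mul _ (mul_mem (M.br_P hg hg') (M.sq_P hg)) _ (M.sq_P hg'),
    C.eps_mul _ (M.br_P hg hg') _ (M.sq_P hg), C.eps_sq g hg, C.eps_sq g' hg', C.rho_mul g hg g' hg',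
    K.sq_add] at h
  linear_combination h

theorem commute_iff {g g' : G} (hg : g ∈ P) (hg' : g' ∈ P) : Commute g g' ↔ K.pol (ρ g) (ρ g') = 0 := by
  rw [← C.eps_cB M hg hg', C.eps_eq_zero M (M.br_P hg hg'), cB_one_iff]

end Coords

end CfsgLib.AschCrit
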