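import Cfsg.Agent.Lib.Invol.AschCrit.EndTwo.Comm
import Cfsg.Agent.Lib.Invol.AschCrit.EndTwo.Field
import Cfsg.Agent.Lib.Invol.AschCrit.EndTwo.Linear
import Mathlib.FieldTheory.Finite.GaloisField

/-!
Owner: helper15. Aschbacher's criterion, end game of Suzuki type: the field on which the torus acts.

* `TwoModel.exists_squares`: `Q / E` and `E` are the field and the square is `θ y * y`.
-/

set_option autoImplicit false
set_option linter.unusedSectionVars false
set_option linter.style.haveILetI false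

namespace CfsgLib.AschCrit

open Subgroup MulAction

universe u v

variable {G : Type u} [Group G] [Finite G] {Ω : Type v} [MulAction G Ω]

/-- Coordinates on `E` and `Q / E`. -/
structure SqCoords (E Q : Subgroup G) (η : G) (q : ℕ) {F : Type u} [Field F] (θ : F ≃+* F) (ι ε : G → F) : Prop where
  card_F : Nat.card F = q
  θfix : ∀ x, θ x = x → x = 0 ∨ x = 1
  inj : ∀ y, θ y * y = 1 → y = 1
  eps_mul : ∀ e ∈ E, ∀ f ∈ E, ε (e * f) = ε e + ε f
  eps_inj : ∀ e ∈ E, ε e = 0 → e = 1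
  eps_surj : ∀ z, ∃ e ∈ E, ε e = z
  iota_mul : ∀ y ∈ Q, ∀ y' ∈ Q, ι (y * y') = ι y + ι y'
  iota_E : ∀ y ∈ Q, ι y = 0 ↔ y ∈ E
  iota_surj : ∀ z, ∃ y ∈ Q, ι y = z
  iota_sq : ∀ y ∈ Q, ε (y * y) = θ (ι y) * ι y
  act : ∀ t : F, t ≠ 0 → ∃ j : ℕ, (∀ y ∈ Q, ι (η ^ j * y * (η ^ j)⁻¹) = t * ι y) ∧
    ∀ e ∈ E, ε (η ^ j * e * (η ^ j)⁻¹) = θ t * t * ε e

/-- An additive map of a finite field commuting with a generator of the units is a multiplication. -/
theorem scalar_of_gen {F : Type u} [Field F] (f : F → F) (hf : ∀ a b, f (a + b) = f a + f b) (τ : F)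
    (hgen : ∀ z : F, z ≠ 0 → ∃ j : ℕ, τ ^ j = z) (hτ : ∀ z, f (τ * z) = τ * f z) : ∀ z, f z = f 1 * z := by
  intro z
  rcases eq_or_ne z 0 with rfl | hz
  · have := hf 0 0
    rw [add_zero] at this
    rw [mul_zero]
    exact left_eq_add.1 this
  obtain ⟨j, rfl⟩ := hgen z hz
  induction j with
  | zero => rw [pow_zero, mul_one]
  | succ j ih =>
    rcases eq_or_ne (τ ^ j) 0 with h0 | h0
    · rw [pow_succ', h0, mul_zero] at hz; exact (hz rfl).elim
    rw [pow_succ', hτ, ih h0]; ring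

namespace TwoModel

variable {D : Set G} {u : G} {a b : Ω} {E : Subgroup G} {q : ℕ} {P R X Q : Subgroup G} {η : G}
  (M : TwoModel D u a b E q P R X Q η)
include M

/-- `Q / E` and `E` carry one field, the torus is its multiplicative group and the square is `θ y * y`. -/
theorem exists_squares : ∃ (F : Type u) (_ : Field F) (_ : Finite F) (_ : CharP F 2) (θ : F ≃+* F) (ι ε : G → F),
    SqCoords E Q η q θ ι ε := by
  classical
  letI : CommGroup E :=
    { (inferInstance : Group E) with mul_comm := fun x y => Subtype.ext (M.commE x.2 y.2).eq }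
  set N : Subgroup Q := E.subgroupOf Q with hN
  haveI : N.Normal := ⟨fun n hn g => by
    rw [hN, mem_subgroupOf] at hn ⊢
    show (g : G) * (n : G) * (g : G)⁻¹ ∈ E
    rw [(M.centE (M.QP g.2) hn).eq, mul_inv_cancel_right]
    exact hn⟩
  have hmk : ∀ y y' : Q, (y : Q ⧸ N) = y' ↔ (y : G)⁻¹ * y' ∈ E := fun y y' => by
    rw [QuotientGroup.eq, hN, mem_subgroupOf]; rfl
  letI : CommGroup (Q ⧸ N) :=
    { (inferInstance : Group (Q ⧸ N)) with
      mul_comm := fun x y => by
        induction x using QuotientGroup.induction_on with | _ x => ?_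
        induction y using QuotientGroup.induction_on with | _ y => ?_
        rw [← QuotientGroup.mk_mul, ← QuotientGroup.mk_mul, hmk]
        show ((x : G) * y)⁻¹ * (y * x) ∈ E
        rw [show ((x : G) * y)⁻¹ * (y * x) = cB (y : G)⁻¹ (x : G)⁻¹ by simp only [cB]; group]
        exact M.br_P (inv_mem (M.QP y.2)) (inv_mem (M.QP x.2)) }
  -- the squaring
  have hsqwd : ∀ y y' : Q, (y : Q ⧸ N) = y' → (y : G) * y = y' * y' := fun y y' h => by
    have he := (hmk y y').1 h
    have h2 := M.sq_mul (M.QP y.2) (M.E_le_P he)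
    rw [mul_inv_cancel_left, M.cB_E_right (M.QP y.2) he, one_mul, M.sqE he, mul_one] at h2
    exact h2.symm
  let s : Q ⧸ N → E := fun x => Quotient.liftOn' x (fun y => (⟨(y : G) * y, M.mod.Q_sq y y.2⟩ : E))
    (fun y y' h => Subtype.ext (hsqwd y y' (Quotient.sound' h)))
  have hs : ∀ y : Q, (s (y : Q ⧸ N) : G) = y * y := fun y => rfl
  have hssurj : Function.Surjective s := fun e => by
    obtain ⟨y, hy, hye⟩ := M.mod.Q_sq_onto (by norm_num) e e.2
    exact ⟨((⟨y, hy⟩ : Q) : Q ⧸ N), Subtype.ext ((hs _).trans hye)⟩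
  have hcardN : Nat.card N = q := by
    rw [hN, Nat.card_congr (subgroupOfEquivOfLe M.mod.E_Q).toEquiv, M.fr.data.card_E]
  have hcardQ : Nat.card (Q ⧸ N) = q := by
    have h1 := Subgroup.card_eq_card_quotient_mul_card_subgroup N
    rw [hcardN, M.mod.Q_card, pow_two] at h1
    exact (Nat.eq_of_mul_eq_mul_right (by have := M.q4; omega) h1).symm
  have hsbij : Function.Bijective s :=
    hssurj.bijective_of_nat_card_le (by rw [hcardQ, M.fr.data.card_E])
  -- the torus on `E` and on `Q / E`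
  have hoη := orderOf_pos η
  have hback : ∀ y : G, η * y * η⁻¹ ∈ E → y ∈ E := fun y h => by
    have h1 := M.torusOn.pow_norm (orderOf η - 1) _ h
    have h2 : η ^ (orderOf η - 1) * η = 1 := by
      rw [← pow_succ, Nat.sub_add_cancel hoη, pow_orderOf_eq_one]
    rwa [eq_inv_of_mul_eq_one_left h2, inv_inv, show η⁻¹ * (η * y * η⁻¹) * η = y by group] at h1
  let fE : E →* E := MonoidHom.mk' (fun e => ⟨η * e * η⁻¹, M.mod.h_norm.1 e e.2⟩)
    fun e f => Subtype.ext (by simp only [Subgroup.coe_mul]; group)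
  have hfE : Function.Injective fE := fun e f h => Subtype.ext (by simpa [fE] using congrArg Subtype.val h)
  let cE : Additive E ≃+ Additive E :=
    MulEquiv.toAdditive (MulEquiv.ofBijective fE (Finite.injective_iff_bijective.1 hfE))
  let fQ : Q →* Q := MonoidHom.mk' (fun y => ⟨η * y * η⁻¹, M.mod.h_norm.2.2 y y.2⟩)
    fun e f => Subtype.ext (by simp only [Subgroup.coe_mul]; group)
  let gQ : Q ⧸ N →* Q ⧸ N := QuotientGroup.map N N fQ fun y hy => by
    rw [Subgroup.mem_comap, hN, mem_subgroupOf]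
    exact M.mod.h_norm.1 _ hy
  have hgQmk : ∀ y : Q, gQ (y : Q ⧸ N) = ((fQ y : Q) : Q ⧸ N) := fun y => QuotientGroup.map_mk N N fQ _ y
  have hgQ : Function.Injective gQ := fun x y => by
    induction x using QuotientGroup.induction_on with | _ x => ?_
    induction y using QuotientGroup.induction_on with | _ y => ?_
    rw [hgQmk, hgQmk, hmk, hmk]
    intro h
    refine hback _ ?_
    rwa [show η * ((x : G)⁻¹ * y) * η⁻¹ = (η * x * η⁻¹)⁻¹ * (η * y * η⁻¹) by group]
  let cQ : Additive (Q ⧸ N) ≃+ Additive (Q ⧸ N) :=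
    MulEquiv.toAdditive (MulEquiv.ofBijective gQ (Finite.injective_iff_bijective.1 hgQ))
  have hEit : ∀ (j : ℕ) (e : E),
      ((Additive.toMul ((⇑cE)^[j] (Additive.ofMul e)) : E) : G) = η ^ j * e * (η ^ j)⁻¹ := by
    intro j
    induction j with
    | zero => intro e; simp
    | succ j ih =>
      intro e
      rw [Function.iterate_succ_apply', pow_succ']
      show η * ((Additive.toMul ((⇑cE)^[j] (Additive.ofMul e)) : E) : G) * η⁻¹ = _
      rw [ih]; group
  have hQit : ∀ (j : ℕ) (y : Q) (hy : η ^ j * (y : G) * (η ^ j)⁻¹ ∈ Q),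
      (⇑cQ)^[j] (Additive.ofMul (y : Q ⧸ N)) = Additive.ofMul ((⟨_, hy⟩ : Q) : Q ⧸ N) := by
    intro j
    induction j with
    | zero => intro y hy; simp
    | succ j ih =>
      intro y hy
      rw [Function.iterate_succ_apply', ih y ((M.eta_pow_norm j).2.1 y y.2)]
      show cQ (Additive.ofMul _) = _
      refine congrArg Additive.ofMul ((hgQmk _).trans ?_)
      congr 1
      exact Subtype.ext (show η * (η ^ j * (y : G) * (η ^ j)⁻¹) * η⁻¹ = η ^ (j + 1) * y * (η ^ (j + 1))⁻¹ by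
        rw [pow_succ']; group)
  have hEx : ∀ z : Additive E, z + z = 0 := fun z => Additive.toMul.injective (Subtype.ext (by
    show ((Additive.toMul z : E) : G) * (Additive.toMul z : E) = 1
    exact M.sqE (Additive.toMul z).2))
  have hsingE : Singer cE := ⟨hEx, fun x y hx hy => by
    obtain ⟨j, hj⟩ := M.mod.h_trans _ (Additive.toMul x).2 _ (Additive.toMul y).2
      (fun e => hx (Additive.toMul.injective (Subtype.ext e))) (fun e => hy (Additive.toMul.injective (Subtype.ext e)))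
    exact ⟨j, Additive.toMul.injective (Subtype.ext ((hEit j _).trans hj))⟩⟩
  have hs0 : ∀ x : Q ⧸ N, s x = 1 ↔ x = 1 := fun x => by
    have h1 : s ((1 : Q) : Q ⧸ N) = 1 := Subtype.ext ((hs 1).trans (one_mul 1))
    exact ⟨fun h => hsbij.1 (h.trans h1.symm), fun h => h ▸ h1⟩
  have hsEq : ∀ (j : ℕ) (x : Q ⧸ N), s (Additive.toMul ((⇑cQ)^[j] (Additive.ofMul x))) =
      Additive.toMul ((⇑cE)^[j] (Additive.ofMul (s x))) := by
    intro j x
    induction x using QuotientGroup.induction_on with | _ y => ?_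
    rw [hQit j y ((M.eta_pow_norm j).2.1 y y.2)]
    refine Subtype.ext ?_
    rw [hEit, toMul_ofMul, hs, hs]
    group
  have hsingQ : Singer cQ := ⟨fun z => Additive.toMul.injective (by
      show Additive.toMul z * Additive.toMul z = 1
      induction (Additive.toMul z) using QuotientGroup.induction_on with | _ y => ?_
      rw [← QuotientGroup.mk_mul, QuotientGroup.eq_one_iff, hN, mem_subgroupOf]
      exact M.mod.Q_sq y y.2), fun x y hx hy => by
    obtain ⟨j, hj⟩ := hsingE.2 (Additive.ofMul (s (Additive.toMul x))) (Additive.ofMul (s (Additive.toMul y)))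
      (fun e => hx (Additive.toMul.injective ((hs0 _).1 (Additive.ofMul.injective e))))
      (fun e => hy (Additive.toMul.injective ((hs0 _).1 (Additive.ofMul.injective e))))
    refine ⟨j, Additive.toMul.injective (hsbij.1 ?_)⟩
    rw [show x = Additive.ofMul (Additive.toMul x) from rfl, hsEq, hj]
    rfl⟩
  obtain ⟨e₀, he₀, he₀1⟩ := M.exists_ne_one
  obtain ⟨x₀, hx₀⟩ := hssurj ⟨e₀, he₀⟩
  have hx₀1 : x₀ ≠ 1 := fun e => he₀1 (by
    have := (hs0 x₀).2 e
    rw [hx₀] at this
    exact congrArg Subtype.val this)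
  obtain ⟨F, _, _, _, e2, t2, he2, he2c, ht2⟩ := EndTwo.exists_field _ cQ hsingQ (Additive.ofMul x₀)
    (fun e => hx₀1 (Additive.ofMul.injective e))
  obtain ⟨F1, _, _, _, e1, t1, he1, he1c, ht1⟩ := EndTwo.exists_field _ cE hsingE (Additive.ofMul (s x₀))
    (fun e => hx₀1 ((hs0 x₀).1 (Additive.ofMul.injective e)))
  have hFq : Nat.card F = q := by
    rw [← Nat.card_congr e2.toEquiv]; exact hcardQ
  haveI := Fintype.ofFinite F
  haveI := Fintype.ofFinite F1
  let φ : F1 ≃+* F := FiniteField.ringEquivOfCardEq (by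
    rw [← Nat.card_eq_fintype_card, ← Nat.card_eq_fintype_card, ← Nat.card_congr e1.toEquiv,
      ← Nat.card_congr e2.toEquiv, show Nat.card (Additive (Q ⧸ N)) = q from hcardQ,
      show Nat.card (Additive E) = q from M.fr.data.card_E])
  set τ := φ t1 with hτ
  let ε₀ : E → F := fun e => φ (e1 (Additive.ofMul e))
  have hε₀ : ∀ e f : E, ε₀ (e * f) = ε₀ e + ε₀ f := fun e f => by simp only [ε₀, ofMul_mul, map_add]
  let n : F → F := fun z => ε₀ (s (Additive.toMul (e2.symm z)))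
  have he2it : ∀ (j : ℕ) x, e2 ((⇑cQ)^[j] x) = t2 ^ j * e2 x := by
    intro j
    induction j with
    | zero => intro x; simp
    | succ j ih => intro x; rw [Function.iterate_succ_apply', he2c, ih, pow_succ']; ring
  have he1it : ∀ (j : ℕ) x, φ (e1 ((⇑cE)^[j] x)) = τ ^ j * φ (e1 x) := by
    intro j
    induction j with
    | zero => intro x; simp
    | succ j ih => intro x; rw [Function.iterate_succ_apply', he1c, map_mul, ih, pow_succ', ← hτ]; ring
  have hnone : n 1 = 1 := by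
    simp only [n]
    rw [show e2.symm 1 = Additive.ofMul x₀ by rw [AddEquiv.symm_apply_eq, he2]]
    simp only [ε₀, toMul_ofMul, he1, map_one]
  have hnpow : ∀ j : ℕ, n (t2 ^ j) = τ ^ j := fun j => by
    have h1 : e2.symm (t2 ^ j) = (⇑cQ)^[j] (Additive.ofMul x₀) := by
      rw [AddEquiv.symm_apply_eq, he2it, he2, mul_one]
    simp only [n, h1, hsEq, ε₀, ofMul_toMul, he1it, he1, map_one, mul_one]
  have hn0 : n 0 = 0 := by
    simp only [n, map_zero, toMul_zero, (hs0 1).2 rfl, ε₀, ofMul_one, map_zero]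
  have hnmul : ∀ z w, n (z * w) = n z * n w := fun z w => by
    rcases eq_or_ne z 0 with rfl | hz
    · rw [zero_mul, hn0, zero_mul]
    rcases eq_or_ne w 0 with rfl | hw
    · rw [mul_zero, hn0, mul_zero]
    obtain ⟨i, rfl⟩ := ht2 z hz
    obtain ⟨j, rfl⟩ := ht2 w hw
    rw [← pow_add, hnpow, hnpow, hnpow, pow_add]
  let em : Q → F := fun y => e2 (Additive.ofMul (y : Q ⧸ N))
  have hem : ∀ y y' : Q, em (y * y') = em y + em y' := fun y y' => by
    simp only [em, QuotientGroup.mk_mul, ofMul_mul, map_add]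
  have hemsurj : Function.Surjective em := fun z => by
    obtain ⟨y, hy⟩ := QuotientGroup.mk_surjective (s := N) (Additive.toMul (e2.symm z))
    exact ⟨y, by simp only [em, hy, ofMul_toMul, AddEquiv.apply_symm_apply]⟩
  have hnem : ∀ y : Q, n (em y) = ε₀ ⟨(y : G) * y, M.mod.Q_sq y y.2⟩ := fun y => by
    simp only [n, em, AddEquiv.symm_apply_apply, toMul_ofMul]
    exact congrArg ε₀ (Subtype.ext (hs y))
  have hcom : ∀ y z : Q, n (em y + em z) + n (em y) + n (em z) =
      ε₀ ⟨cB (y : G) z, M.br_P (M.QP y.2) (M.QP z.2)⟩ := fun y z => by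
    rw [← hem, hnem, hnem, hnem]
    rw [show (⟨((y * z : Q) : G) * (y * z : Q), M.mod.Q_sq _ (y * z).2⟩ : E) =
      ⟨cB (y : G) z, M.br_P (M.QP y.2) (M.QP z.2)⟩ * ⟨(y : G) * y, M.mod.Q_sq y y.2⟩ *
        ⟨(z : G) * z, M.mod.Q_sq z z.2⟩ from Subtype.ext (M.sq_mul (M.QP y.2) (M.QP z.2)), hε₀, hε₀]
    linear_combination (ε₀ ⟨(y : G) * y, M.mod.Q_sq y y.2⟩ + ε₀ ⟨(z : G) * z, M.mod.Q_sq z z.2⟩) *
      (CharTwo.two_eq_zero (R := F))
  obtain ⟨y₁, hy₁⟩ := hemsurj 1
  have hbil : ∀ a a' b : F, n (a + a' + b) + n (a + a') + n b =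
      (n (a + b) + n a + n b) + (n (a' + b) + n a' + n b) := fun a a' b => by
    obtain ⟨y, rfl⟩ := hemsurj a
    obtain ⟨y', rfl⟩ := hemsurj a'
    obtain ⟨z, rfl⟩ := hemsurj b
    rw [← hem y y', hcom, hcom, hcom, ← hε₀]
    exact congrArg ε₀ (Subtype.ext (M.cB_left (M.QP y.2) (M.QP y'.2) (M.QP z.2)))
  have hε₀inj : ∀ e : E, ε₀ e = 0 → e = 1 := fun e h => by
    simp only [ε₀, map_eq_zero_iff φ φ.injective, AddEquiv.map_eq_zero_iff] at h
    exact Additive.ofMul.injective h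
  have hem0 : ∀ y : Q, em y = 0 ↔ (y : G) ∈ E := fun y => by
    simp only [em, AddEquiv.map_eq_zero_iff, ofMul_eq_zero, QuotientGroup.eq_one_iff, hN, mem_subgroupOf]
  have hker : ∀ z, n (z + 1) + n z + 1 = 0 → z = 0 ∨ z = 1 := fun z hz => by
    obtain ⟨y, rfl⟩ := hemsurj z
    replace hz : n (em y + em y₁) + n (em y) + n (em y₁) = 0 := by rw [hy₁, hnone]; exact hz
    rw [hcom] at hz
    have hc : Commute (y₁ : G) y := (cB_one_iff.1 (congrArg Subtype.val (hε₀inj _ hz))).symm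
    have hy₁E : (y₁ : G) ∉ E := fun h => one_ne_zero (hy₁.symm.trans ((hem0 y₁).2 h))
    rcases M.mod.Q_form_two rfl y₁ y₁.2 hy₁E y y.2 hc with h | h
    · exact Or.inl ((hem0 y).2 h)
    · refine Or.inr ?_
      have h2 : em (y * y₁⁻¹) = 0 := (hem0 _).2 h
      have h3 : em y = em (y * y₁⁻¹) + em y₁ := by rw [← hem, inv_mul_cancel_right]
      rw [h3, h2, zero_add, hy₁]
  obtain ⟨σ, ρ, hσρ⟩ := EndTwo.quad_form n hnmul hnone hn0 hbil (by
    by_contra! hall
    have hsub : (Set.univ : Set F) ⊆ {0, 1} := fun z _ => (hker z (hall z)).imp id id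
    have h1 := (Set.ncard_le_ncard hsub).trans ((Set.ncard_insert_le _ _).trans (by rw [Set.ncard_singleton]))
    rw [Set.ncard_univ, hFq] at h1
    have := M.q8
    omega)
  have hθ : ∀ z, (ρ.symm.trans σ) (ρ z) = σ z := fun z => by simp
  let ι : G → F := fun g => if hg : g ∈ Q then ρ (em ⟨g, hg⟩) else 0
  let ε : G → F := fun g => if hg : g ∈ E then ε₀ ⟨g, hg⟩ else 0
  refine ⟨F, inferInstance, inferInstance, inferInstance, ρ.symm.trans σ, ι, ε, hFq, ?_, ?_, ?_, ?_, ?_, ?_, ?_, ?_,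
    ?_, ?_⟩
  · intro z hz
    obtain ⟨w, rfl⟩ := ρ.surjective z
    rw [hθ] at hz
    have h1 : n (w + 1) + n w + 1 = 0 := by
      rw [hσρ, hσρ, map_add, map_add, map_one, map_one, hz]
      linear_combination (ρ w * ρ w + ρ w + 1) * (CharTwo.two_eq_zero (R := F))
    rcases hker w h1 with rfl | rfl <;> simp
  · intro z hz
    obtain ⟨w, rfl⟩ := ρ.surjective z
    rw [hθ, ← hσρ] at hz
    obtain ⟨y, rfl⟩ := hemsurj w
    rw [← hnone, ← hy₁, hnem, hnem] at hz
    have h1 := hsbij.1 (a₁ := (y : Q ⧸ N)) (a₂ := (y₁ : Q ⧸ N)) (Subtype.ext (congrArg Subtype.val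
      (Additive.ofMul.injective (e1.injective (φ.injective hz)) :)))
    rw [show em y = em y₁ from congrArg (fun x => e2 (Additive.ofMul x)) h1, hy₁, map_one]
  · intro e he f hf
    simp only [ε, dif_pos he, dif_pos hf, dif_pos (mul_mem he hf)]
    exact hε₀ ⟨e, he⟩ ⟨f, hf⟩
  · intro e he h
    simp only [ε, dif_pos he] at h
    exact congrArg Subtype.val (hε₀inj _ h)
  · intro z
    obtain ⟨x, hx⟩ : ∃ x : E, ε₀ x = z :=
      ⟨Additive.toMul (e1.symm (φ.symm z)), by simp [ε₀]⟩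
    exact ⟨x, x.2, by simp only [ε, dif_pos x.2]; exact hx⟩
  · intro y hy y' hy'
    simp only [ι, dif_pos hy, dif_pos hy', dif_pos (mul_mem hy hy'), ← map_add]
    exact congrArg ρ (hem ⟨y, hy⟩ ⟨y', hy'⟩)
  · intro y hy
    simp only [ι, dif_pos hy, map_eq_zero_iff ρ ρ.injective, hem0]
  · intro z
    obtain ⟨y, hy⟩ := hemsurj (ρ.symm z)
    exact ⟨y, y.2, by simp only [ι, dif_pos y.2, Subtype.coe_eta, hy, RingEquiv.apply_symm_apply]⟩
  · intro y hy
    simp only [ι, ε, dif_pos hy, dif_pos (M.mod.Q_sq y hy), hθ, ← hσρ, hnem]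
  · intro t ht
    obtain ⟨j, hj⟩ := ht2 (ρ.symm t) (by simpa using ht)
    refine ⟨j, fun y hy => ?_, fun e he => ?_⟩
    · simp only [ι, dif_pos hy, dif_pos ((M.eta_pow_norm j).2.1 y hy), em]
      rw [← hQit j ⟨y, hy⟩ _, he2it, hj, map_mul, RingEquiv.apply_symm_apply]
    · simp only [ε, dif_pos he, dif_pos (M.torusOn.pow_norm j e he), ε₀]
      rw [show Additive.ofMul (⟨_, M.torusOn.pow_norm j e he⟩ : E) = (⇑cE)^[j] (Additive.ofMul ⟨e, he⟩) from
        Additive.toMul.injective (Subtype.ext (hEit j ⟨e, he⟩).symm), he1it]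
      congr 1
      rw [← hnpow j, hj, hσρ, RingEquiv.apply_symm_apply]
      rfl

end TwoModel

end CfsgLib.AschCrit
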