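import Cfsg.Agent.Lib.Invol.AschCrit.EndTwo.Action

/-!
Owner: helper15. Aschbacher's criterion, end game of Suzuki type: the torus of the data in the normaliser of `P`.

* `Coords.exists_commuting`: an element fixing the class is `p` times one commuting with `u`.
* `Coords.exists_torus`: the torus of the data, moved into the normaliser of `P`.
* `Coords.two_cent`: a two-element fixing the class centralises `E`.
-/

set_option autoImplicit false
set_option linter.unusedSectionVars false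
set_option linter.style.haveILetI false

namespace CfsgLib.AschCrit

open Subgroup MulAction

universe u v

variable {G : Type u} [Group G] [Finite G] {Ω : Type v} [MulAction G Ω] {F : Type u}
variable {D : Set G} {u : G} {a b : Ω} {E : Subgroup G} {q : ℕ} {P R X Q : Subgroup G} {η : G}

namespace TwoModel

variable (M : TwoModel D u a b E q P R X Q η)
include M

/-- An element mapping `u` into `u E` is one commuting with `u` times a translation. -/
theorem exists_commuting {n : G} (hn : n ∈ normGrp P a) (hnu : u⁻¹ * (n * u * n⁻¹) ∈ E) :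
    ∃ p ∈ P, Commute (p⁻¹ * n) u ∧ p⁻¹ * n ∈ normGrp P a ∧ ∀ e ∈ E, p⁻¹ * n * e * (p⁻¹ * n)⁻¹ = n * e * n⁻¹ := by
  obtain ⟨p, hp, hpe⟩ := (M.cB_onto M.uP M.fr.multi).1 _ hnu
  refine ⟨p, hp, ?_, mul_mem (inv_mem (M.P_le_normGrp hp)) hn, fun e he => ?_⟩
  · have h1 : n * u * n⁻¹ = p * u * p⁻¹ := by
      rw [show p * u * p⁻¹ = cB p u * u by simp only [cB]; group, (M.centE M.uP (M.br_P hp M.uP)).eq.symm, hpe,
        mul_inv_cancel_left]
    refine mul_inv_eq_iff_eq_mul.1 ?_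
    calc p⁻¹ * n * u * (p⁻¹ * n)⁻¹ = p⁻¹ * (n * u * n⁻¹) * p := by group
      _ = u := by rw [h1]; group
  · rw [show p⁻¹ * n * e * (p⁻¹ * n)⁻¹ = p⁻¹ * (n * e * n⁻¹) * p by group,
      (M.centE (inv_mem hp) (M.norm_E hn he)).eq, inv_mul_cancel_right]

/-- The torus of the data, moved to normalise `P`. -/
theorem exists_torus : ∃ τ τ' : G, TorusOn E τ ∧ τ' ∈ normGrp P a ∧ u⁻¹ * (τ' * u * τ'⁻¹) ∈ E ∧
    (∀ j : ℕ, ∀ e ∈ E, τ' ^ j * e * (τ' ^ j)⁻¹ = τ ^ j * e * (τ ^ j)⁻¹) ∧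
    ∀ n : G, n ∈ normGrp P a → u⁻¹ * (n * u * n⁻¹) ∈ E → NormTorus E τ n := by
  obtain ⟨τ, hτo, hτu, hτa, hτb, hτE, hτtr, hτn⟩ := M.fr.data.torus
  have hT : TorusOn E τ := ⟨fun e he => M.sqE he, fun e he f hf => M.commE he hf, hτE, hτtr⟩
  obtain ⟨k, ⟨hka, hkE, hku⟩, hkP⟩ := exists_conj_le (H := transSubOne u a E) (P := P)
    (K := P.map (MulAut.conj τ).toMonoidHom) M.mod.two (fun x hx => M.mod.sub x hx) (M.mod.two.map _) (by
      rintro _ ⟨x, hx, rfl⟩
      obtain ⟨hxa, hxE, hxu⟩ := M.mod.sub x hx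
      refine ⟨mem_stabilizer_iff.1 (mul_mem (mul_mem (mem_stabilizer_iff.2 hτa) (mem_stabilizer_iff.2 hxa))
        (inv_mem (mem_stabilizer_iff.2 hτa))), fun e he => ?_, ?_⟩
      · show Commute (τ * x * τ⁻¹) e
        have h1 : τ⁻¹ * e * τ ∈ E := by
          have h := (Subgroup.mem_normalizer_iff.1 hT.mem_normalizer (τ⁻¹ * e * τ)).2
            (by rw [show τ * (τ⁻¹ * e * τ) * τ⁻¹ = e by group]; exact he)
          exact h
        have h2 := (Commute.conj_iff τ).2 (hxE _ h1)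
        rwa [show τ * (τ⁻¹ * e * τ) * τ⁻¹ = e by group] at h2
      · show u⁻¹ * (τ * x * τ⁻¹ * u * (τ * x * τ⁻¹)⁻¹) ∈ E
        have h1 := hτE _ hxu
        have hτu' : τ⁻¹ * u * τ = u := by rw [mul_assoc, ← hτu.eq, inv_mul_cancel_left]
        rw [show τ * (u⁻¹ * (x * u * x⁻¹)) * τ⁻¹ = τ * u⁻¹ * τ⁻¹ * (τ * x * τ⁻¹ * (τ * u * τ⁻¹) * (τ * x * τ⁻¹)⁻¹) by
          group, show τ * u⁻¹ * τ⁻¹ = u⁻¹ by rw [hτu.inv_right.eq, mul_inv_cancel_right],
          show τ * u * τ⁻¹ = u by rw [hτu.eq, mul_inv_cancel_right]] at h1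
        exact h1)
    (fun L hL hLH => M.mod.sylow L hL fun x hx => hLH hx)
  have hn : k * τ ∈ normGrp P a := ⟨mem_stabilizer_iff.2 (by rw [mul_smul, hτa, hka]),
    mem_normalizer_of_mapsTo fun x hx => by
      rw [show k * τ * x * (k * τ)⁻¹ = k * (τ * x * τ⁻¹) * k⁻¹ by group]
      exact hkP _ ⟨x, hx, rfl⟩⟩
  have hnu : u⁻¹ * (k * τ * u * (k * τ)⁻¹) ∈ E := by
    rw [show k * τ * u * (k * τ)⁻¹ = k * (τ * u * τ⁻¹) * k⁻¹ by group, hτu.eq, mul_inv_cancel_right]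
    exact hku
  refine ⟨τ, k * τ, hT, hn, hnu, fun j => ?_, fun n hn' hnu' => ?_⟩
  · induction j with
    | zero => intro e _; simp
    | succ j ih =>
      intro e he
      have key : ∀ m : G, k * τ * m * e * (k * τ * m)⁻¹ = k * (τ * (m * e * m⁻¹) * τ⁻¹) * k⁻¹ := fun m => by group
      rw [pow_succ' (k * τ), pow_succ' τ, key, ih e he,
        (hkE _ (hτE _ (hT.pow_norm j e he))).eq, mul_inv_cancel_right]
      group
  · obtain ⟨p, hp, hpu, hpn, hpe⟩ := M.exists_commuting hn' hnu'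
    obtain ⟨j, hj⟩ := hτn (p⁻¹ * n) hpu hpn.1 fun e he => M.norm_E hpn he
    refine ⟨mem_normalizer_of_mapsTo fun e he => M.norm_E hn' he, j, fun e he => ?_⟩
    have hinv : ∀ f ∈ E, n⁻¹ * f * n = (p⁻¹ * n)⁻¹ * f * (p⁻¹ * n) := fun f hf => by
      rw [show (p⁻¹ * n)⁻¹ * f * (p⁻¹ * n) = n⁻¹ * (p * f * p⁻¹) * n by group, (M.centE hp hf).eq,
        mul_inv_cancel_right]
    rw [← hj e he, show n * τ * n⁻¹ * e * (n * τ * n⁻¹)⁻¹ = n * (τ * (n⁻¹ * e * n) * τ⁻¹) * n⁻¹ by group,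
      hinv e he, ← hpe]
    · group
    · refine hτE _ ?_
      have h := M.norm_E (inv_mem hpn) he
      rwa [inv_inv] at h

/-- A two-element fixing the class centralises `E`. -/
theorem two_cent (h : ∀ n ∈ normGrp P a, (∃ k : ℕ, n ^ 2 ^ k = 1) → u⁻¹ * (n * u * n⁻¹) ∈ E) :
    ∀ k : ℕ, ∀ n ∈ normGrp P a, n ^ 2 ^ k = 1 → ∀ e ∈ E, Commute n e := by
  intro k
  induction k with
  | zero => intro n _ hn1 e _; rw [pow_zero, pow_one] at hn1; rw [hn1]; exact Commute.one_left e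
  | succ k ih =>
    intro n hn hnk
    obtain ⟨τ, -, hT, -, -, -, hnorm⟩ := M.exists_torus
    have h2 := ih (n * n) (mul_mem hn hn) (by rw [← pow_two, ← pow_mul, ← pow_succ']; exact hnk)
    by_contra hne
    push Not at hne
    obtain ⟨e, he, hee⟩ := hne
    obtain ⟨s, -, hs⟩ := M.fr.data.pow
    refine M.not_square _ (hT.half_fix ⟨s, hs⟩ M.fr.data.card_E (hnorm n hn (h n hn ⟨k + 1, hnk⟩))
      (fun f hf => ?_) ⟨e, he, fun e1 => hee (mul_inv_eq_iff_eq_mul.1 e1)⟩)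
    rw [show n * (n * f * n⁻¹) * n⁻¹ = n * n * f * (n * n)⁻¹ by group, (h2 f hf).eq, mul_inv_cancel_right]

end TwoModel

end CfsgLib.AschCrit
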